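import Cfsg.Agent.H157.S5.PspIn
import Cfsg.Agent.H132.S5.Main
import Cfsg.Agent.H206.PspBal
import Cfsg.Agent.H513.HNCut_m3
import Cfsg.Agent.H957.InvU5
import Cfsg.Agent.LieClassical.HermPerfect
import Cfsg.Agent.LieClassical.HermSimple
import Cfsg.Agent.H28.T5Ok
import Cfsg.Agent.H716.S5.Own
import Cfsg.Agent.S0280
import Cfsg.Agent.LieClassical.SLGen
import Cfsg.Agent.H957.T5RowPSL_m3
import Cfsg.Agent.H106.MTools2
import Cfsg.Agent.H106.MTwD4_m3
import Cfsg.Agent.H163.PG.PslAut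
import Cfsg.Agent.H124.LinCyc
import Cfsg.Agent.H242.StrP.FCLin
import Cfsg.Agent.H242.StrP.FFix
import Cfsg.Agent.H452.FprPsl2
import Cfsg.Agent.H28.T5RankOne
import Cfsg.Agent.H199.PslField
import Cfsg.Agent.H436.TTPsl2
import Cfsg.Agent.Lib.AutSL2Out
import Cfsg.Agent.H937.SzConj
import Cfsg.Agent.H102.SzSol
import Cfsg.Agent.H947.Cyc.Basic_m3
import Cfsg.Agent.S0633
import Cfsg.Agent.Lib.HallHigman
import Cfsg.Agent.Lib.PSolvable
import Cfsg.Agent.ChevalleyStructure.OrthD4Tab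
import Cfsg.Agent.H132.S5.Pairs
import Cfsg.Agent.H122.S5.Sub
import Cfsg.Agent.SignalizersComponents.QsBasic
import Cfsg.Agent.S1054
import Cfsg.Agent.S1055
import Cfsg.Agent.S1059
import Cfsg.Agent.S1062
import Cfsg.Agent.S1063
import Cfsg.Agent.S1064
import Cfsg.Agent.S1065
import Cfsg.Agent.H505.OddInn
import Cfsg.Agent.H461.T5S.Cert
import Cfsg.Agent.H461.T5.Ru
import Cfsg.Agent.PLocal.SL2Natural
import Cfsg.Agent.Classification.NGroupExclude
import Cfsg.Agent.H609.Inv.Base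
import Cfsg.Agent.H28.T5TwF_mg_m3
import Cfsg.Agent.H431.PSLTwoSpec_m3
import Cfsg.Agent.CoOneType.CoW
import Cfsg.Agent.H240.BalTwF.Inner
import Cfsg.Agent.Omega.TitsIso.TitsSide
import Cfsg.Agent.H28.T5TwFour
import Cfsg.Agent.ClassicalGeometry.PSL2Solvable
import Cfsg.Agent.H790.ExcAbTw
import Cfsg.Agent.S2378
import Cfsg.Agent.FastGrp
import Cfsg.Agent.Prune
set_option linter.all false

section
prune_inst 0x7ff4acfa4bf821dedfff7e77a6d0cdfc19901fffa4dff943bfe021ef0bdf030209c1238d0de000fc0e82401400a87843fb7eeeffe26bd87ffffd1ff41ffbee0fe5f7b508519488340f300ffe03f0778e7f3fffffffffdfffffffffffffffffbeffbfffffffff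

-- part: H157/S5/PspOut
section
prune_inst 0xb1105b4015e2120000188592d1203e42fe0005b0004884018ce00b420680cc4048820821bd002516023800450039000811000090424000000e000000011d01a0800000069248010ce60019800000000000000000020000000000000000000004000000000
set_option linter.all false
open scoped Cfsg.Agent.FastGrp

/-!
# S2274, `PSp_2m(q)` in cross characteristic: outer automorphisms
-/

set_option autoImplicit false
set_option linter.unusedSectionVars false

universe u

namespace Cfsg.Agent.H157.S5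

open Cfsg Cfsg.Agent.H533.T5 Cfsg.Agent.H132.S5 Cfsg.Agent.H423.PGBlk Cfsg.Agent.H157.S5.Blk
open Cfsg.Agent.ClassicalGeometry.SympBasic Cfsg.Agent.ClassicalGeometry.SympAutSemi
  Cfsg.Agent.ClassicalGeometry.SympGamma Cfsg.Agent.ClassicalGeometry.SympAutExists
open Cfsg.Agent.H206.PspBal Cfsg.Agent.H206.PspFix
open Matrix

variable {F : Type} [Field F] [Fintype F]

/-- the fixed field -/
theorem exists_subfield {p : ℕ} {σ : F ≃+* F} (hσ : orderOf σ = p) :
    ∃ K₀ : Subfield F, (∀ a, σ a = a ↔ ∃ b : K₀, K₀.subtype b = a) ∧ Nat.card K₀ ^ p = Fintype.card F := by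
  have hfin : Finite (F ≃+* F) := Cfsg.Agent.H862.T5.SpRow.finite_ringAut
  let G : Subgroup (F ≃+* F) := Subgroup.zpowers σ
  have : Fintype G := Fintype.ofFinite _
  let K₀ : Subfield F := FixedPoints.subfield G F
  have hmem : ∀ a, a ∈ K₀ ↔ σ a = a := by
    intro a
    constructor
    · intro h
      exact h ⟨σ, Subgroup.mem_zpowers σ⟩
    · rintro h ⟨g, hg⟩
      have h1 : G ≤ MulAction.stabilizer (F ≃+* F) a := by
        rw [Subgroup.zpowers_le]
        exact h
      exact h1 hg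
  refine ⟨K₀, fun a => ?_, ?_⟩
  · rw [← hmem]
    exact ⟨fun h => ⟨⟨a, h⟩, rfl⟩, fun ⟨b, hb⟩ => hb ▸ b.2⟩
  · have h1 : Module.finrank K₀ F = Fintype.card G := FixedPoints.finrank_eq_card G F
    have h2 : Fintype.card G = p := by
      rw [← Nat.card_eq_fintype_card, Nat.card_zpowers, hσ]
    have h3 := Module.natCard_eq_pow_finrank (K := K₀) (V := F)
    rw [h1, h2, Nat.card_eq_fintype_card] at h3
    exact h3.symm

/-- an element of order `p` over the fixed field -/
theorem exists_fixed_elt {p : ℕ} [hp : Fact p.Prime] (hpF : (p : F) ≠ 0) {m : ℕ}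
    (hm : m = kk (Fintype.card F) p) {σ : F ≃+* F} (hσ : orderOf σ = p) :
    ∃ z : symplecticGroup (Fin m) F, orderOf z = p ∧ mapSp m (σ : F →+* F) z = z := by
  obtain ⟨K₀, hj, hcard⟩ := exists_subfield hσ
  have hfin : Finite K₀ := Subtype.finite
  have : Fintype K₀ := Fintype.ofFinite _
  have hm0 : 0 < m := hm ▸ kk_pos hpF
  have hq : ((Nat.card K₀ : ℕ) : ZMod p) = ((Fintype.card F : ℕ) : ZMod p) := by
    rw [← hcard, Nat.cast_pow, ZMod.pow_card]
  have h1 : ((Fintype.card F : ℕ) : ZMod p) ^ (2 * m) = 1 := by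
    rw [← orderOf_dvd_iff_pow_eq_one, hm, two_mul_kk]
    split_ifs
    · exact dvd_rfl
    · exact dvd_mul_left _ _
  have h2 : p ∣ Nat.card K₀ ^ (2 * m) - 1 := by
    rw [← ZMod.natCast_eq_zero_iff, Nat.cast_sub (Nat.one_le_pow _ _ Nat.card_pos), Nat.cast_pow, hq, h1]
    simp
  have h3 : p ∣ Nat.card (symplecticGroup (Fin m) K₀) := by
    rw [S0245.result (F := K₀) (Nat.card_eq_fintype_card).symm m]
    refine dvd_mul_of_dvd_right (h2.trans ?_) _
    have h4 : m = (m - 1) + 1 := by omega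
    have h5 : Nat.card K₀ ^ (2 * m) - 1 = Nat.card K₀ ^ (2 * (m - 1 + 1)) - 1 := by rw [← h4]
    rw [h5]
    exact Finset.dvd_prod_of_mem _ (Finset.mem_range.2 (by omega))
  have hfin2 : Finite (symplecticGroup (Fin m) K₀) := Subtype.finite
  obtain ⟨z, hz⟩ := exists_prime_orderOf_dvd_card' p h3
  refine ⟨mapSp m K₀.subtype z, ?_, ?_⟩
  · rw [orderOf_injective _ (mapSp_injective _), hz]
  · exact (mem_range_mapSp hj).1 ⟨z, rfl⟩

/-- elements of order `p`, cyclic Sylow subgroups -/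
theorem exists_conj_mem_zpowers {G : Type*} [Group G] [Finite G] {p : ℕ} [hp : Fact p.Prime]
    (hG : ∀ P : Sylow p G, IsCyclic ↥(P : Subgroup G)) {x z : G} (hx : orderOf x = p) (hz : orderOf z = p) :
    ∃ g : G, g * x * g⁻¹ ∈ Subgroup.zpowers z := by
  have hpg : ∀ y : G, orderOf y = p → IsPGroup p ↥(Subgroup.zpowers y) := fun y hy =>
    IsPGroup.of_card (n := 1) (by rw [Nat.card_zpowers, hy, pow_one])
  obtain ⟨P, hP⟩ := (hpg x hx).exists_le_sylow
  obtain ⟨Q, hQ⟩ := (hpg z hz).exists_le_sylow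
  obtain ⟨g, hg⟩ := MulAction.exists_smul_eq G P Q
  refine ⟨g, ?_⟩
  have h1 : g * x * g⁻¹ ∈ (Q : Subgroup G) := by
    rw [← hg]
    exact Subgroup.smul_mem_pointwise_smul _ (MulAut.conj g) (P : Subgroup G) (hP (Subgroup.mem_zpowers x))
  have hc := hG Q
  have h2 : (⟨g * x * g⁻¹, h1⟩ : ↥(Q : Subgroup G)) ∈
      Subgroup.zpowers (⟨z, hQ (Subgroup.mem_zpowers z)⟩ : ↥(Q : Subgroup G)) := by
    refine Cfsg.Agent.H862.T5.SpRow.mem_zpowers_of_orderOf hp.out ?_ ?_
    · rw [Subgroup.orderOf_mk, hz]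
    · rw [Subgroup.orderOf_mk, ← hx]
      exact orderOf_injective (MulAut.conj g).toMonoidHom (MulAut.conj g).injective x
  obtain ⟨k, hk⟩ := h2
  exact ⟨k, congrArg Subtype.val hk⟩

theorem mapSp_blk {k l : ℕ} (σ : F ≃+* F) (x : symplecticGroup (Fin k) F × symplecticGroup (Fin l) F) :
    mapSp (k + l) (σ : F →+* F) (blkSp k l x) =
      blkSp k l (mapSp k (σ : F →+* F) x.1, mapSp l (σ : F →+* F) x.2) := by
  apply Subtype.ext
  change ((Matrix.fromBlocks x.1.1 0 0 x.2.1).submatrix (spE k l).symm (spE k l).symm).map σ =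
    (Matrix.fromBlocks (x.1.1.map σ) 0 0 (x.2.1.map σ)).submatrix (spE k l).symm (spE k l).symm
  rw [← Matrix.submatrix_map, Matrix.fromBlocks_map, Matrix.map_zero _ (map_zero σ), Matrix.map_zero _ (map_zero σ)]

/-- **Elements of order `p` have conjugates fixed by `σ`.** -/
theorem exists_fixed_conj {p : ℕ} [hp : Fact p.Prime] (h5 : 5 ≤ p) (hpF : (p : F) ≠ 0) {σ : F ≃+* F}
    (hσ : orderOf σ = p) : ∀ (m : ℕ) (A : symplecticGroup (Fin m) F), A ^ p = 1 →
    ∃ g : symplecticGroup (Fin m) F, mapSp m (σ : F →+* F) (g * A * g⁻¹) = g * A * g⁻¹ := by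
  intro m
  induction m using Nat.strong_induction_on with
  | _ m ih =>
    intro A hA
    by_cases hA1 : A = 1
    · exact ⟨1, by rw [hA1]; simp only [_root_.mul_one, _root_.inv_one, _root_.map_one]⟩
    have hA' : orderOf A = p := orderOf_eq_prime hA hA1
    have hk0 := kk_pos (F := F) (p := p) hpF
    rcases (kk_le h5 hpF hA').lt_or_eq with h | h
    · obtain ⟨l, rfl⟩ := Nat.exists_eq_add_of_le h.le
      obtain ⟨g, x, hx, hx1, hx2⟩ := exists_blk h5 hpF rfl hA'
      obtain ⟨g₁, h₁⟩ := ih (kk (Fintype.card F) p) h x.1 (orderOf_dvd_iff_pow_eq_one.1 (by rw [hx1]))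
      obtain ⟨g₂, h₂⟩ := ih l (by omega) x.2 hx2
      refine ⟨blkSp _ l (g₁, g₂) * g, ?_⟩
      have e : blkSp (kk (Fintype.card F) p) l (g₁, g₂) * g * A * (blkSp _ l (g₁, g₂) * g)⁻¹ =
          blkSp (kk (Fintype.card F) p) l (g₁ * x.1 * g₁⁻¹, g₂ * x.2 * g₂⁻¹) := by
        have e1 : blkSp (kk (Fintype.card F) p) l (g₁, g₂) * g * A * (blkSp _ l (g₁, g₂) * g)⁻¹ =
          blkSp (kk (Fintype.card F) p) l (g₁, g₂) * (g * A * g⁻¹) * (blkSp _ l (g₁, g₂))⁻¹ := by group
        rw [e1, hx, ← map_inv, ← map_mul, ← map_mul]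
        rfl
      rw [e, mapSp_blk, h₁, h₂]
    · obtain ⟨z, hz, hzσ⟩ := exists_fixed_elt hpF h.symm hσ
      obtain ⟨g, hg⟩ := exists_conj_mem_zpowers (fun P => cyclic_sylow_sp h5 hpF h.symm P) hA' hz
      obtain ⟨k, hk⟩ := hg
      have hk' : z ^ k = g * A * g⁻¹ := hk
      exact ⟨g, by rw [← hk', map_zpow, hzσ]⟩

/-! ### the fixed points of field automorphisms -/

theorem le_range_psi {m : ℕ} (hm1 : 1 ≤ m) {p : ℕ} (h2 : Odd p) {σ : F ≃+* F} (hσ : orderOf σ = p) {K₀ : Subfield F}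
    (hj : ∀ a, σ a = a ↔ ∃ b : K₀, K₀.subtype b = a) {c : PSp m F} (hc : phi m F σ c = c) :
    c ∈ (psi m K₀.subtype).range := by
  obtain ⟨s, rfl⟩ := QuotientGroup.mk_surjective c
  rw [phi_mk, eq_comm, QuotientGroup.eq] at hc
  obtain ⟨a, ha⟩ := (LieClassical.SympCenter.mem_center_iff m _).1 hc
  have haa := LieClassical.SympCenter.sq_eq_one_of_smul_mem (F := F) hm1 (ha ▸ (s⁻¹ * mapSp m (σ : F →+* F) s).2)
  have ha1 : a = 1 ∨ a = -1 := mul_self_eq_one_iff.1 haa
  -- `σ(s) = a s`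
  have h3 : s.1.map σ = a • s.1 := by
    have h4 : mapSp m (σ : F →+* F) s = s * (s⁻¹ * mapSp m (σ : F →+* F) s) := by group
    have h5 := congrArg Subtype.val h4
    change s.1.map σ = s.1 * (s⁻¹ * mapSp m (σ : F →+* F) s).1 at h5
    rw [h5, ha, mul_smul_comm, mul_one]
  have hσa : ∀ n : ℕ, (σ ^ n) a = a := by
    intro n
    rcases ha1 with rfl | rfl
    · exact map_one _
    · rw [map_neg, map_one]
  have h6 : ∀ n : ℕ, s.1.map (σ ^ n) = a ^ n • s.1 := by
    intro n
    induction n with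
    | zero => ext i k; simp
    | succ n ih =>
      ext i k
      have h7 := congrFun (congrFun h3 i) k
      have h8 := congrFun (congrFun ih i) k
      rw [Matrix.map_apply, Matrix.smul_apply, smul_eq_mul] at h7 h8 ⊢
      rw [pow_succ, RingAut.mul_apply, h7, map_mul, hσa, h8, pow_succ]
      ring
  have h7 := h6 p
  rw [← hσ, pow_orderOf_eq_one, hσ] at h7
  have h8 : a = 1 := by
    rcases ha1 with h | h
    · exact h
    · rw [h, h2.neg_one_pow, neg_one_smul] at h7
      by_cases h2F : (2 : F) = 0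
      · rw [h]
        linear_combination -h2F
      · exfalso
        have h10 : s.1 = 0 := by
          ext i k
          have h11 := congrFun (congrFun h7 i) k
          have h12 : s.1 i k = -s.1 i k := h11
          have h13 : (2 : F) * s.1 i k = 0 := by linear_combination h12
          exact (mul_eq_zero.1 h13).resolve_left h2F
        have h11 : rho m F s (Pi.single (Sum.inl ⟨0, hm1⟩) 1) = rho m F s 0 := by
          rw [rho_apply, rho_apply, h10, Matrix.zero_mulVec, Matrix.zero_mulVec]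
        have h12 := congrFun ((rho m F s).injective h11) (Sum.inl ⟨0, hm1⟩)
        rw [Pi.single_eq_same] at h12
        exact one_ne_zero h12
  rw [h8, one_smul] at h3
  obtain ⟨B, hB⟩ := (mem_range_mapSp hj (s := s)).2 (Subtype.ext h3)
  exact ⟨B, by rw [psi_apply, hB]⟩

open Cfsg.Agent.H28.T5Mid Cfsg.Agent.H28.T5Ok in
/-- `SB` from the fixed points -/
theorem sb_of_fix {S H : Type*} [Group S] [Group H] {d : MulAut S} (f : H →* S) (hf : Function.Injective f)
    (hfix : ∀ y, d y = y ↔ y ∈ f.range) (N : Subgroup H) (hNn : N.Normal) (hN : IsSimpleGroup ↥N)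
    (hna : ¬ IsMulCommutative ↥N) (hc : ∀ y, y ∈ Subgroup.centralizer (N : Set H) → y = 1) : SB d := by
  have e := N.equivMapOfInjective f hf
  refine ⟨N.map f, ?_, ?_, e.symm.isSimpleGroup, ?_, ?_⟩
  · rintro _ ⟨n, -, rfl⟩
    exact (hfix _).2 ⟨n, rfl⟩
  · intro y hy
    obtain ⟨h, rfl⟩ := (hfix y).1 hy
    have h1 : N ≤ Subgroup.normalizer ((N : Subgroup H) : Set H) := Subgroup.le_normalizer
    have h2 : h ∈ Subgroup.normalizer ((N : Subgroup H) : Set H) := by
      rw [Subgroup.normalizer_eq_top_iff.2 hNn]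
      exact Subgroup.mem_top _
    rw [Subgroup.mem_normalizer_iff] at h2 ⊢
    intro z
    constructor
    · rintro ⟨w, hw, rfl⟩
      exact ⟨h * w * h⁻¹, (h2 w).1 hw, by rw [map_mul, map_mul, map_inv]⟩
    · rintro ⟨w, hw, hw'⟩
      refine ⟨h⁻¹ * w * h, ?_, ?_⟩
      · rw [SetLike.mem_coe, h2]
        have : h * (h⁻¹ * w * h) * h⁻¹ = w := by group
        rw [this]
        exact hw
      · rw [map_mul, map_mul, map_inv, hw']
        group
  · rintro ⟨⟨h⟩⟩
    refine hna ⟨⟨fun a b => e.injective ?_⟩⟩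
    rw [map_mul, map_mul]
    exact h _ _
  · intro y hy hyc
    obtain ⟨h, rfl⟩ := (hfix y).1 hy
    rw [hc h, map_one]
    rw [Subgroup.mem_centralizer_iff] at hyc ⊢
    intro n hn
    apply hf
    rw [map_mul, map_mul]
    exact hyc _ ⟨n, hn, rfl⟩

theorem centralizer_alt_six (y : Equiv.Perm (Fin 6))
    (hy : y ∈ Subgroup.centralizer ((alternatingGroup (Fin 6) : Subgroup _) : Set (Equiv.Perm (Fin 6)))) : y = 1 := by
  have hcard : 5 ≤ Nat.card (Fin 6) := by
    rw [Nat.card_eq_fintype_card, Fintype.card_fin]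
    omega
  have hnC : (Subgroup.centralizer ((alternatingGroup (Fin 6) : Subgroup _) : Set (Equiv.Perm (Fin 6)))).Normal :=
    inferInstance
  by_contra hy1
  have hne : Nontrivial ↥(Subgroup.centralizer ((alternatingGroup (Fin 6) : Subgroup _) : Set (Equiv.Perm (Fin 6)))) := by
    rw [Subgroup.nontrivial_iff_ne_bot]
    intro h
    rw [h, Subgroup.mem_bot] at hy
    exact hy1 hy
  have h1 := Equiv.Perm.alternatingGroup_le_of_normal hcard hne
  have h2 : IsMulCommutative (alternatingGroup (Fin 6)) := ⟨⟨fun a b => by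
    apply Subtype.ext
    exact ((Subgroup.mem_centralizer_iff.1 (h1 a.2)) b b.2).symm⟩⟩
  rw [alternatingGroup.isMulCommutative_iff_card_le_three] at h2
  omega

open Cfsg.Agent.H28.T5Mid Cfsg.Agent.H28.T5Ok in
/-- the fixed points of a field automorphism -/
theorem sb_phi {m : ℕ} (hm : 2 ≤ m) {p : ℕ} (hp : Odd p) {σ : F ≃+* F} (hσ : orderOf σ = p) :
    SB (phi m F σ) := by
  obtain ⟨K₀, hj, -⟩ := exists_subfield hσ
  have hm1 : 1 ≤ m := by omega
  have hfin : Finite K₀ := Subtype.finite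
  have : Fintype K₀ := Fintype.ofFinite _
  have hker := ker_psi (m := m) K₀.subtype hm1
  have hfix : ∀ y, phi m F σ y = y ↔ y ∈ (psi m K₀.subtype).range := by
    intro y
    constructor
    · exact fun h => le_range_psi hm1 hp hσ hj h
    · rintro ⟨A, rfl⟩
      rw [psi_apply, phi_mk, (mem_range_mapSp hj).1 ⟨A, rfl⟩]
  by_cases hs : m = 2 → 3 ≤ Fintype.card K₀
  · have hsimp := S0270.result (F := K₀) m hm hs
    have hna := Cfsg.Agent.H458.RowPSp.not_comm (F := K₀) hm hs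
    let e : PSp m K₀ ≃* (psi m K₀.subtype).range :=
      (QuotientGroup.quotientMulEquivOfEq hker.symm).trans (QuotientGroup.quotientKerEquivRange _)
    have et : (⊤ : Subgroup (PSp m K₀)) ≃* PSp m K₀ := Subgroup.topEquiv
    refine sb_of_fix ((psi m K₀.subtype).range.subtype.comp e.toMonoidHom)
      (Subtype.val_injective.comp e.injective) ?_ ⊤ inferInstance et.isSimpleGroup ?_ ?_
    · intro y
      rw [hfix]
      constructor
      · intro hy
        exact ⟨e.symm ⟨y, hy⟩, by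
          change ((e (e.symm ⟨y, hy⟩) : (psi m K₀.subtype).range) : PSp m F) = y
          rw [e.apply_symm_apply]⟩
      · rintro ⟨z, rfl⟩
        exact (e z).2
    · rintro ⟨⟨h⟩⟩
      refine hna ⟨⟨fun a b => et.symm.injective ?_⟩⟩
      rw [map_mul, map_mul]
      exact h _ _
    · intro y hy
      rw [Subgroup.coe_top, Subgroup.centralizer_univ, Cfsg.Agent.H533.T5.center_eq_bot_of_simple hna,
        Subgroup.mem_bot] at hy
      exact hy
  · push Not at hs
    obtain ⟨rfl, hs⟩ := hs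
    have hc2 : Fintype.card K₀ = 2 := by
      have := Fintype.one_lt_card (α := K₀)
      omega
    obtain ⟨e⟩ := LieClassical.SpFourTwo.nonempty_equiv_perm hc2
    have hker' : (psi 2 K₀.subtype).ker = ⊥ := by
      rw [hker]
      exact Subgroup.card_eq_one.1 (by rw [S0246.result hc2 2 (by omega)]; rfl)
    have hcard : 5 ≤ Nat.card (Fin 6) := by
      rw [Nat.card_eq_fintype_card, Fintype.card_fin]
      omega
    refine sb_of_fix ((psi 2 K₀.subtype).comp e.symm.toMonoidHom)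
      (((MonoidHom.ker_eq_bot_iff _).1 hker').comp e.symm.injective) ?_ (alternatingGroup (Fin 6)) inferInstance
      (alternatingGroup.isSimpleGroup hcard) ?_ centralizer_alt_six
    · intro y
      rw [hfix]
      constructor
      · rintro ⟨A, rfl⟩
        exact ⟨e A, by
          change psi 2 K₀.subtype (e.symm (e A)) = _
          rw [e.symm_apply_apply]⟩
      · rintro ⟨z, rfl⟩
        exact ⟨e.symm z, rfl⟩
    · intro h
      rw [alternatingGroup.isMulCommutative_iff_card_le_three] at h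
      omega

/-! ### the outer automorphisms -/

open Cfsg.Agent.H862.T5.SpRow in
theorem outer_cases {m : ℕ} (hm : 2 ≤ m) (h22 : m = 2 → 3 ≤ Fintype.card F) {p : ℕ} (hp : p.Prime) (h5 : 5 ≤ p)
    {a : MulAut (PSp m F)} (ha : orderOf a = p) (hao : ¬ ∃ g, a = MulAut.conj g) :
    ∃ φ : F ≃+* F, orderOf φ = p ∧ ∃ s ∈ (MulAut.conj : PSp m F →* MulAut (PSp m F)).range,
      a = s * phi m F φ * s⁻¹ := by
  have hap : a ^ p = 1 := by rw [← ha, pow_orderOf_eq_one]
  rcases Cfsg.Agent.H458.SpAut.inner_or_field hm h22 (hp.odd_of_ne_two (by omega)) hap with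
    ⟨s, rfl⟩ | ⟨g, φ, l, hl, hg, hφ, rfl⟩
  · exact absurd ⟨s, rfl⟩ hao
  · obtain ⟨h1, h2⟩ := exists_inner_conj hm h22 hp (by omega) hl hg hap hφ
    exact ⟨φ, h1, h2⟩

open Cfsg.Agent.H28.T5Mid Cfsg.Agent.H28.T5Ok in
/-- **The outer automorphisms of order `p` of `PSp`.** -/
theorem outerOk_psp {m : ℕ} (hm : 2 ≤ m) (h22 : m = 2 → 3 ≤ Fintype.card F) {p : ℕ} (hp : p.Prime) (h5 : 5 ≤ p) :
    OuterOk p (PSp m F) where
  sb d hd hdo _ := by
    obtain ⟨φ, hφ, s, -, rfl⟩ := outer_cases hm h22 hp h5 hd hdo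
    refine SB.conj s⁻¹ ?_
    have e : s⁻¹ * (s * phi m F φ * s⁻¹) * s⁻¹⁻¹ = phi m F φ := by group
    rw [e]
    exact sb_phi hm (hp.odd_of_ne_two (by omega)) hφ
  conj c d hc hd hco hdo := by
    obtain ⟨φ, hφ, s, hs, rfl⟩ := outer_cases hm h22 hp h5 hc hco
    obtain ⟨ψ, hψ, t, ht, rfl⟩ := outer_cases hm h22 hp h5 hd hdo
    have hcy : IsCyclic (F ≃+* F) := Cfsg.Agent.LieRecognition.FieldSemilinear.isCyclic_ringAut F
    have hfin : Finite (F ≃+* F) := Cfsg.Agent.H862.T5.SpRow.finite_ringAut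
    obtain ⟨j, hj⟩ := Subgroup.mem_zpowers_iff.1 (Cfsg.Agent.H862.T5.SpRow.mem_zpowers_of_orderOf hp hψ hφ)
    refine ⟨s * t⁻¹, mul_mem hs (inv_mem ht), j, ?_⟩
    have e : s * t⁻¹ * (t * phi m F ψ * t⁻¹) * (s * t⁻¹)⁻¹ = s * phi m F ψ * s⁻¹ := by group
    rw [e, conj_zpow, ← map_zpow, hj]

/-- **Elements of order `p` have conjugates fixed by an outer automorphism of order `p`.** -/
theorem fix_psp {m : ℕ} (hm : 2 ≤ m) (h22 : m = 2 → 3 ≤ Fintype.card F) {p : ℕ} (hp : p.Prime) (h5 : 5 ≤ p)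
    (hpF : (p : F) ≠ 0) {d : MulAut (PSp m F)} (hd : orderOf d = p) (hdo : ¬ ∃ g, d = MulAut.conj g) {x : PSp m F}
    (hx : orderOf x = p) : ∃ s, d (s * x * s⁻¹) = s * x * s⁻¹ := by
  have hpf : Fact p.Prime := ⟨hp⟩
  obtain ⟨φ, hφ, _, ⟨t, rfl⟩, rfl⟩ := outer_cases hm h22 hp h5 hd hdo
  obtain ⟨A, rfl, hA⟩ := Cfsg.Agent.H458.SpOp.exists_lift (by omega) hp (by omega) x hx
  obtain ⟨g, hg⟩ := exists_fixed_conj h5 hpF hφ m A (by rw [← hA, pow_orderOf_eq_one])
  refine ⟨t * QuotientGroup.mk g, ?_⟩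
  have h1 : phi m F φ (QuotientGroup.mk (g * A * g⁻¹)) = QuotientGroup.mk (g * A * g⁻¹) := by
    rw [phi_mk, hg]
  have e : t * QuotientGroup.mk g * (Cfsg.Agent.H458.SpOp.pr m F A) * (t * QuotientGroup.mk g)⁻¹ =
      t * (QuotientGroup.mk (g * A * g⁻¹) : PSp m F) * t⁻¹ := by
    rw [mk_conj]
    change t * QuotientGroup.mk g * (QuotientGroup.mk A : PSp m F) * (t * QuotientGroup.mk g)⁻¹ = _
    group
  rw [e, MulAut.mul_apply, MulAut.mul_apply]
  have e2 : (MulAut.conj t)⁻¹ (t * (QuotientGroup.mk (g * A * g⁻¹) : PSp m F) * t⁻¹) =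
      QuotientGroup.mk (g * A * g⁻¹) := by
    rw [← map_inv, MulAut.conj_apply]
    group
  rw [e2, h1, MulAut.conj_apply]

/-- **The strong row of `PSp_2m(q)`**, `m ≥ 2`, `p` prime to `q`. -/
theorem srow_psp {S : Type u} [Group S] [Finite S] {p : ℕ} (hp : p.Prime) (h5 : 5 ≤ p) (hpF : (p : F) ≠ 0)
    (B : SBox.{u} p) (hlt : SBelow.{u} p (Nat.card S)) {m : ℕ} (hm : 2 ≤ m) (h22 : m = 2 → 3 ≤ Fintype.card F)
    (e : S ≃* PSp m F) : SRow p S := by
  have hsimple : IsSimpleGroup (PSp m F) := S0270.result m hm h22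
  have hna : ¬ IsMulCommutative (PSp m F) := Cfsg.Agent.H458.RowPSp.not_comm hm h22
  have hs : IsSimpleGroup S := e.isSimpleGroup
  have hnaS : ¬ IsMulCommutative S := fun h => hna ⟨⟨fun a b => e.symm.injective (by
    rw [map_mul, map_mul]
    exact h.is_comm.comm _ _)⟩⟩
  have hO := (outerOk_psp hm h22 hp h5).congr e
  refine srow_of B.aa B.rs hp hnaS (fun x y hx hy => spair_inner hp h5 hpF B hlt hm h22 e hx hy) ?_ hO.sb hO.conj
  intro d hd hdo x hx
  have hor : orderOf (e x) = p := by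
    rw [← hx]
    exact orderOf_injective e.toMonoidHom e.injective x
  obtain ⟨s, hs⟩ := fix_psp hm h22 hp h5 hpF (d := MulAut.congr e d) (by rw [MulEquiv.orderOf_eq, hd])
    (by rwa [Cfsg.Agent.H28.T5Ok.inner_iff]) hor
  refine ⟨e.symm s, e.injective ?_⟩
  have h1 : MulAut.congr e d (s * e x * s⁻¹) = e (d (e.symm s * x * (e.symm s)⁻¹)) := by
    simp only [MulAut.congr, _root_.MulEquiv.coe_mk, _root_.Equiv.coe_fn_mk, _root_.MulEquiv.trans_apply, _root_.map_mul, _root_.MulEquiv.symm_apply_apply, _root_.map_inv]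
  rw [← h1, hs]
  simp only [_root_.map_mul, _root_.MulEquiv.apply_symm_apply, _root_.map_inv]

/-- **S2274, row C5.** -/
theorem srow_isPSp {S : Type u} [Group S] [Finite S] {p : ℕ} (hp : p.Prime) (h5 : 5 ≤ p) (B : SBox.{u} p)
    (hlt : SBelow.{u} p (Nat.card S)) (hS : IsPSp S) (hch : ¬ IsPSpChar p S) : SRow p S := by
  obtain ⟨F, _, _, m, hm, h22, ⟨e⟩⟩ := hS
  refine srow_psp hp h5 (Cfsg.Agent.H862.T5.SpRow.cast_ne hp ?_) B hlt hm h22 e
  rintro ⟨hF⟩
  exact hch ⟨F, _, _, hF, m, hm, h22, ⟨e⟩⟩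

end Cfsg.Agent.H157.S5
end

-- part: H43/SP/Cross
section
prune_inst 0x95105b000da0000000008590c1000200340000000040800000a003000200800244020000080020021020010000000008110000004040000004000000000501000000000400000000c00000000000000000000000000000000000000000000000000000000
set_option linter.all false
open scoped Cfsg.Agent.FastGrp

-- part: H43/SP/KRE
section
/-!
# S2274, row `PSU`, cross characteristic: the configurations K, R, E, part (b) with exact products

The theorems `up_K`, `up_R`, `up_E` of H957/T5U4 (helper957) for `BPs`.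
-/

set_option autoImplicit false

namespace Cfsg.Agent.H43.SP

open Cfsg Cfsg.Agent.LieClassical.HermBasic Cfsg.Agent.LieClassical.HermSiegel
open Cfsg.Agent.H533.T5 Cfsg.Agent.H106.MT Cfsg.Agent.H132.S5
open Cfsg.Agent.H957.T5V Cfsg.Agent.H957.T5Conf Cfsg.Agent.H957.T5Pairs Cfsg.Agent.H957.T5U
  Cfsg.Agent.H957.T5Two Cfsg.Agent.H957.T5Semi
open Cfsg.Agent.H177.MeetPSU (rho rho_apply)

variable {F : Type} [Field F] [Fintype F] {n q p : ℕ}
variable {σ τ : F ≃+* F} {c c' d d' : Equiv.Perm (Fin n → F)}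

/-- It suffices to find suitable products for all elements with prescribed action on a family. -/
theorem bps_of_family (hF : Fintype.card F = q ^ 2) (hd : SI q τ d) {k : ℕ}
    {a b : Fin k → (Fin n → F)} (ha : LinearIndependent F a) (hb : LinearIndependent F b)
    (hab : ∀ i j, hermForm n F q (a i) (a j) = hermForm n F q (b i) (b j))
    {z : Fin n → F} (hz : hermForm n F q z z ≠ 0) (hzb : ∀ i, hermForm n F q z (b i) = 0)
    (h : ∀ d' : Equiv.Perm (Fin n → F), SI q τ d' → ∀ s : SU n F q, (∀ i, act s (a i) = b i) →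
      (∀ x, d' (act s x) = act s (d x)) → (∀ m : ℕ, ¬ IsScal F ((c * d') ^ p ^ m))) :
    BPs F p (rho n F q).range c d := by
  obtain ⟨s, hs⟩ := Cfsg.Agent.H77.Witt.exists_su_ext hF a b ha hb hab hz hzb
  refine ⟨rho n F q s, ⟨s, rfl⟩, fun m => ?_⟩
  refine h _ (hd.conj s) s hs (fun x => ?_) m
  rw [Equiv.Perm.mul_apply, Equiv.Perm.mul_apply]
  have h1 : (rho n F q s)⁻¹ (act s x) = x := by
    rw [← rho_apply, inv_apply_self]
  rw [h1, rho_apply]

theorem bps_R (hF : Fintype.card F = q ^ 2) (hn : 5 ≤ n) (hpF : (p : F) ≠ 0)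
    (hc : SI q (1 : F ≃+* F) c) (hd : SI q τ d) (h1 : D5 q c) (h2 : RI q d) :
    BPs F p (rho n F q).range c d := by
  obtain ⟨u0, u1, hu1, n1, n01, n0, hβ⟩ := h2
  have h1q : (1 : F) ^ q = 1 := one_pow q
  -- data for `c`, shifted by `c`
  obtain ⟨w, hwli, w0, w1, w2⟩ := h1 1 1 (1 - hermForm n F q u0 (d u0)) h1q (Or.inl one_ne_zero)
  have hcc : ∀ x y, hermForm n F q (c x) (c y) = hermForm n F q x y := fun x y => hc.herm x y
  have w1' : hermForm n F q w (c w) = 1 := by rw [herm_swap hF (c w) w, w1, h1q]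
  have n01' : hermForm n F q u1 u0 = 0 := herm_eq_zero_swap hF n01
  have n10 : hermForm n F q (d u0) u1 = 0 := by
    have := hd.herm u0 u1
    rwa [hu1, n01, map_zero] at this
  have n10' : hermForm n F q u1 (d u0) = 0 := herm_eq_zero_swap hF n10
  have n00 : hermForm n F q (d u0) (d u0) = 0 := by rw [hd.herm, n0, map_zero]
  -- `v1 = c w`, `c⁻¹ v1 = w`
  have hbli : LinearIndependent F ![c w, c (c w) - c w, c w - w] := by
    rw [li3_iff] at hwli ⊢
    intro x y z h
    obtain ⟨e1, e2, e3⟩ := hwli (-z) (x - y + z) y (by rw [← h]; module)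
    have e1' : z = 0 := neg_eq_zero.1 e1
    subst e1' e3
    exact ⟨by simpa using e2, rfl, rfl⟩
  have hali : LinearIndependent F ![u1, u0, d u0] := by
    rw [li3_iff]
    intro x y z h
    have h3 : hermForm n F q (x • u1 + y • u0 + z • d u0) u1 = 0 := by
      rw [h]; exact herm_zero_left _
    rw [herm_add_left, herm_add_left, herm_smul_left, herm_smul_left, herm_smul_left, n1, n01, n10,
      mul_zero, mul_zero, mul_one, add_zero, add_zero] at h3
    have h4 : hermForm n F q (x • u1 + y • u0 + z • d u0) (d u0) = 0 := by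
      rw [h]; exact herm_zero_left _
    rw [herm_add_left, herm_add_left, herm_smul_left, herm_smul_left, herm_smul_left, n10', n00,
      mul_zero, mul_zero, zero_add, add_zero] at h4
    have hy : y = 0 := (mul_eq_zero.1 h4).resolve_right hβ
    have h5 : hermForm n F q u0 (x • u1 + y • u0 + z • d u0) = 0 := by
      rw [h]; exact herm_zero_right hF _
    rw [herm_add_right hF, herm_add_right hF, herm_smul_right, herm_smul_right, herm_smul_right,
      n01, n0, mul_zero, mul_zero, zero_add, zero_add] at h5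
    exact ⟨h3, hy, (pow_q_eq_zero hF).1 ((mul_eq_zero.1 h5).resolve_right hβ)⟩
  have k00 : hermForm n F q (c (c w) - c w) (c (c w) - c w) = 0 := by
    simp only [herm_sub_left, herm_sub_right hF, hcc, w0, w1, w1']
    ring
  have k22 : hermForm n F q (c w - w) (c w - w) = 0 := by
    simp only [herm_sub_left, herm_sub_right hF, hcc, w0, w1, w1']
    ring
  have k12 : hermForm n F q (c (c w) - c w) (c w - w) = hermForm n F q u0 (d u0) := by
    simp only [herm_sub_left, herm_sub_right hF, hcc, w0, w1, w2]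
    ring
  obtain ⟨z, hz, hzb⟩ := exists_z hF hbli (by omega) (e := c (c w) - c w) (f := c w - w)
    (Submodule.subset_span ⟨1, rfl⟩) (Submodule.subset_span ⟨2, rfl⟩) k00 (by rw [k12]; exact hβ)
  refine bps_of_family hF hd (a := ![u1, u0, d u0]) hali hbli ?_ hz hzb ?_
  · intro i j
    fin_cases i <;> fin_cases j
    · change hermForm n F q u1 u1 = hermForm n F q (c w) (c w)
      rw [hcc, n1, w0]
    · change hermForm n F q u1 u0 = hermForm n F q (c w) (c (c w) - c w)
      rw [herm_sub_right hF, hcc, hcc, w1', w0, n01', sub_self]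
    · change hermForm n F q u1 (d u0) = hermForm n F q (c w) (c w - w)
      rw [herm_sub_right hF, hcc, w1, w0, n10', sub_self]
    · change hermForm n F q u0 u1 = hermForm n F q (c (c w) - c w) (c w)
      rw [herm_sub_left, hcc, hcc, w1, w0, n01, sub_self]
    · exact n0.trans k00.symm
    · exact k12.symm
    · change hermForm n F q (d u0) u1 = hermForm n F q (c w - w) (c w)
      rw [herm_sub_left, hcc, w1', w0, n10, sub_self]
    · change hermForm n F q (d u0) u0 = hermForm n F q (c w - w) (c (c w) - c w)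
      rw [herm_swap hF u0 (d u0), herm_swap hF (c (c w) - c w) (c w - w), k12]
    · exact n00.trans k22.symm
  · intro d' hd' s hs hds m
    have s0 : act s u1 = c w := hs 0
    have s1 : act s u0 = c (c w) - c w := hs 1
    have s2 : act s (d u0) = c w - w := hs 2
    refine not_scal_jordan (hc.semi.mul hd'.semi) (v0 := c (c w) - c w) (v1 := c w) ?_ ?_ ?_
      (cast_pow_ne hpF m)
    · exact hbli.ne_zero 1
    · rw [Equiv.Perm.mul_apply]
      conv_lhs => rw [← s1, hds, s2, hc.semi.sub]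
    · rw [Equiv.Perm.mul_apply]
      conv_lhs => rw [← s0, hds, hu1, s0]
      module

theorem bps_E (hF : Fintype.card F = q ^ 2) (hn : 3 ≤ n)
    (hc : SI q (1 : F ≃+* F) c) (hd : SI q τ d) (h1 : D3 q c) {u0 : Fin n → F}
    (n0 : hermForm n F q u0 u0 = 0) (hβ : hermForm n F q u0 (d u0) ≠ 0) {ν : F}
    (hν0 : ν ≠ 0) (hνq : ν ^ q = ν) (hντ : τ ν = ν) (hν : ∀ m : ℕ, ν ^ p ^ m ≠ 1) :
    BPs F p (rho n F q).range c d := by
  obtain ⟨α, hα0, hα⟩ := exists_norm_eq_ne hF hνq hν0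
  have hαq0 : α ^ q ≠ 0 := pow_ne_zero _ hα0
  have hαν : α * α ^ q = ν := by rw [← hα]
  obtain ⟨w, w0, w1⟩ := h1 (hermForm n F q u0 (d u0) / α ^ q) (div_ne_zero hβ hαq0)
  have hcc : ∀ x y, hermForm n F q (c x) (c y) = hermForm n F q x y := fun x y => hc.herm x y
  have n00 : hermForm n F q (d u0) (d u0) = 0 := by rw [hd.herm, n0, map_zero]
  have hali : LinearIndependent F ![u0, d u0] := li_of_hyp hF hβ n0 n00 rfl
  have k0 : hermForm n F q (c w) (c w) = 0 := by rw [hcc, w0]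
  have k1 : hermForm n F q (α • w) (α • w) = 0 := by
    rw [herm_smul_left, herm_smul_right, w0, mul_zero, mul_zero]
  have k01 : hermForm n F q (c w) (α • w) = hermForm n F q u0 (d u0) := by
    rw [herm_smul_right, w1]
    field_simp
  have hbli : LinearIndependent F ![c w, α • w] := li_of_hyp hF hβ k0 k1 k01
  obtain ⟨z, hz, hzb⟩ := exists_z hF hbli (by omega) (e := c w) (f := α • w)
    (Submodule.subset_span ⟨0, rfl⟩) (Submodule.subset_span ⟨1, rfl⟩) k0 (by rw [k01]; exact hβ)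
  refine bps_of_family hF hd (a := ![u0, d u0]) hali hbli ?_ hz hzb ?_
  · intro i j
    fin_cases i <;> fin_cases j
    · exact n0.trans k0.symm
    · exact k01.symm
    · change hermForm n F q (d u0) u0 = hermForm n F q (α • w) (c w)
      rw [herm_swap hF u0 (d u0), herm_swap hF (c w) (α • w), k01]
    · exact n00.trans k1.symm
  · intro d' hd' s hs hds m
    have s0 : act s u0 = c w := hs 0
    have s1 : act s (d u0) = α • w := hs 1
    rintro ⟨t, ht⟩
    have hx : SI q (1 * τ) (c * d') := hc.mul hd'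
    have hxw : (c * d') (c w) = α • c w := by
      rw [Equiv.Perm.mul_apply]
      conv_lhs => rw [← s0, hds, s1, hc.semi.smul]
      rfl
    have h2 := pow_eigen hx.semi hxw (p ^ m)
    rw [ht, one_mul] at h2
    have hcw0 : c w ≠ 0 := hbli.ne_zero 0
    have ht2 : t = nm τ α (p ^ m) := by
      have h3 : (t - nm τ α (p ^ m)) • c w = 0 := by rw [sub_smul, h2, sub_self]
      exact sub_eq_zero.1 ((smul_eq_zero.1 h3).resolve_right hcw0)
    have h4 := scal_norm (by omega) (hx.pow (p ^ m)) ht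
    rw [ht2, ← nm_pow, ← nm_mul, hαν, nm_fixed hντ] at h4
    exact hν m h4

end Cfsg.Agent.H43.SP
end

-- part: H43/SP/Blk
section
/-!
# S2274, row `PSU`, cross characteristic: nondegenerate blocks

`Blk q c b` : `b` is orthonormal, its span is invariant under `c` and `c` is not a scalar on it.
`sps_blk` : two semilinear isometries with blocks of the same dimension `m < n` and the strong row
of `PSU_m(q)`.
-/

set_option autoImplicit false

namespace Cfsg.Agent.H43.SP

open Cfsg Cfsg.Agent.LieClassical.HermBasic Cfsg.Agent.LieClassical.HermSiegel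
open Cfsg.Agent.H533.T5 Cfsg.Agent.H106.MT Cfsg.Agent.H132.S5
open Cfsg.Agent.H957.T5V Cfsg.Agent.H957.T5Conf Cfsg.Agent.H957.T5Pairs Cfsg.Agent.H957.T5U
open Cfsg.Agent.H177.MeetPSU (rho rho_apply)
open Cfsg.Agent.ClassicalGeometry.HermOrtho
open scoped Matrix

variable {F : Type} [Field F] {n m q p : ℕ}
variable {σ τ : F ≃+* F} {c c' d d' : Equiv.Perm (Fin n → F)}

/-- An invariant nondegenerate subspace on which `c` is not a scalar. -/
structure Blk (q : ℕ) (c : Equiv.Perm (Fin n → F)) (b : Fin m → (Fin n → F)) : Prop where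
  on : ∀ i j, hermForm n F q (b i) (b j) = if i = j then 1 else 0
  inv : ∀ v ∈ Submodule.span F (Set.range b), c v ∈ Submodule.span F (Set.range b)
  ns : ¬ ∃ t : F, ∀ v ∈ Submodule.span F (Set.range b), c v = t • v

/-- Coordinates. -/
def iob (b : Fin m → (Fin n → F)) (v : Fin m → F) : Fin n → F := ∑ i, v i • b i

section iob

variable {b : Fin m → (Fin n → F)}

theorem iob_add (u v : Fin m → F) : iob b (u + v) = iob b u + iob b v := by
  simp only [iob, Pi.add_apply, add_smul, Finset.sum_add_distrib]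

theorem iob_smul (a : F) (v : Fin m → F) : iob b (a • v) = a • iob b v := by
  simp only [iob, Pi.smul_apply, smul_eq_mul, Finset.smul_sum, smul_smul]

theorem iob_mem (v : Fin m → F) : iob b v ∈ Submodule.span F (Set.range b) :=
  Submodule.sum_mem _ fun i _ => Submodule.smul_mem _ _ (Submodule.subset_span ⟨i, rfl⟩)

theorem exists_iob {x : Fin n → F} (h : x ∈ Submodule.span F (Set.range b)) :
    ∃ v, iob b v = x := by
  rw [Submodule.mem_span_range_iff_exists_fun] at h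
  exact h

theorem iob_single (i : Fin m) : iob b (Pi.single i 1) = b i := by
  rw [iob, Finset.sum_eq_single i]
  · simp
  · intro j _ hj
    simp [Pi.single_eq_of_ne hj]
  · intro h
    exact absurd (Finset.mem_univ _) h

theorem iob_inj (hb : ∀ i j, hermForm n F q (b i) (b j) = if i = j then 1 else 0) :
    Function.Injective (iob b) := by
  intro u v h
  funext j
  have h1 := congrArg (fun x => hermForm n F q x (b j)) h
  simp only [iob, herm_sum_smul_left hb] at h1
  exact h1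

variable [Fintype F]

theorem herm_iob (hF : Fintype.card F = q ^ 2)
    (hb : ∀ i j, hermForm n F q (b i) (b j) = if i = j then 1 else 0) (u v : Fin m → F) :
    hermForm n F q (iob b u) (iob b v) = hermForm m F q u v := by
  rw [iob, iob, herm_sum_right hF]
  simp only [herm_smul_right, herm_sum_smul_left hb]
  unfold hermForm
  exact Finset.sum_congr rfl fun i _ => mul_comm _ _

theorem Blk.res (hF : Fintype.card F = q ^ 2) (hc : SI q σ c) (h : Blk q c b) :
    ∃ c0 : Equiv.Perm (Fin m → F), Res (iob b) c c0 ∧ SI q σ c0 ∧ ¬ IsScal F c0 := by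
  have hinj := iob_inj h.on
  obtain ⟨c0, hc0⟩ := exists_res (x := c) hinj (fun v => by
    obtain ⟨w, hw⟩ := exists_iob (h.inv _ (iob_mem v))
    exact ⟨w, hw.symm⟩)
  refine ⟨c0, hc0, ⟨⟨fun u v => hinj ?_, fun a v => hinj ?_⟩, fun u v => ?_⟩, ?_⟩
  · rw [← hc0, iob_add, hc.semi.add, hc0, hc0, iob_add]
  · rw [← hc0, iob_smul, hc.semi.smul, hc0, iob_smul]
  · rw [← herm_iob hF h.on, ← herm_iob hF h.on, ← hc0, ← hc0, hc.herm]
  · rintro ⟨t, ht⟩
    apply h.ns
    refine ⟨t, fun v hv => ?_⟩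
    obtain ⟨w, rfl⟩ := exists_iob hv
    rw [hc0, ht, iob_smul]

theorem nondeg_span (_ : Fintype.card F = q ^ 2)
    (hb : ∀ i j, hermForm n F q (b i) (b j) = if i = j then 1 else 0) :
    ∀ u ∈ Submodule.span F (Set.range b),
      (∀ v ∈ Submodule.span F (Set.range b), hermForm n F q u v = 0) → u = 0 := by
  intro u hu h
  obtain ⟨v, rfl⟩ := exists_iob hu
  have h1 : ∀ j, v j = 0 := by
    intro j
    rw [← herm_sum_smul_left hb v j]
    exact h _ (Submodule.subset_span ⟨j, rfl⟩)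
  have h2 : v = 0 := funext h1
  rw [h2]
  simp only [iob, _root_.Cfsg.Agent.H43.SP.iob, _root_.Pi.zero_apply, _root_.zero_smul, _root_.Finset.sum_const_zero]

/-- A non-isotropic vector orthogonal to the block. -/
theorem exists_z_blk (hF : Fintype.card F = q ^ 2) (hmn : m < n)
    (hb : ∀ i j, hermForm n F q (b i) (b j) = if i = j then 1 else 0) :
    ∃ z, hermForm n F q z z ≠ 0 ∧
      ∀ v ∈ Submodule.span F (Set.range b), hermForm n F q z v = 0 := by
  have hW := nondeg_span hF hb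
  have h1 := finrank_hermPerp_of_nondeg hF _ hW
  rw [finrank_span_eq_card (linearIndependent_of_orthonormal hb), Fintype.card_fin] at h1
  obtain ⟨z, hz, hzz⟩ := exists_norm_one_vector hF _ (hermPerp_nondeg hF _ hW) (by
    intro h0
    rw [h0, finrank_bot] at h1
    omega)
  exact ⟨z, by rw [hzz]; exact one_ne_zero, fun v hv => hz v hv⟩

/-- Two orthonormal systems of `m < n` vectors are conjugate under `SU`. -/
theorem exists_su_onb (hF : Fintype.card F = q ^ 2) (hmn : m < n) {a : Fin m → (Fin n → F)}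
    (ha : ∀ i j, hermForm n F q (a i) (a j) = if i = j then 1 else 0)
    (hb : ∀ i j, hermForm n F q (b i) (b j) = if i = j then 1 else 0) :
    ∃ s : SU n F q, ∀ i, act s (a i) = b i := by
  obtain ⟨z, hz, hzb⟩ := exists_z_blk hF hmn hb
  exact Cfsg.Agent.H77.Witt.exists_su_ext hF a b (linearIndependent_of_orthonormal ha)
    (linearIndependent_of_orthonormal hb) (fun i j => by rw [ha, hb]) hz
    (fun i => hzb _ (Submodule.subset_span ⟨i, rfl⟩))

/-- `SU_m` extends to `SU_n`. -/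
theorem exists_ext_blk (hF : Fintype.card F = q ^ 2) (hmn : m < n)
    (hb : ∀ i j, hermForm n F q (b i) (b j) = if i = j then 1 else 0) (s0 : SU m F q) :
    ∃ s : SU n F q, Res (iob b) (rho n F q s) (rho m F q s0) := by
  have h1 : ∀ i j, hermForm n F q (iob b (act s0 (Pi.single i 1))) (iob b (act s0 (Pi.single j 1)))
      = if i = j then 1 else 0 := by
    intro i j
    rw [herm_iob hF hb, herm_act, ← hb i j, ← herm_iob hF hb, iob_single, iob_single]
  obtain ⟨s, hs⟩ := exists_su_onb hF hmn hb h1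
  refine ⟨s, fun v => ?_⟩
  rw [rho_apply, rho_apply]
  have h2 : v = ∑ i, v i • (Pi.single i 1 : Fin m → F) := by
    funext j
    simp only [Finset.sum_apply, Pi.single_apply, _root_.Finset.sum_apply, _root_.Pi.smul_apply, _root_.Pi.single_apply, _root_.smul_eq_mul, _root_.mul_ite, _root_.mul_one, _root_.MulZeroClass.mul_zero, _root_.Finset.sum_ite_eq, _root_.Finset.mem_univ, ↓ _root_.reduceIte]
  have h3 : act s0 v = ∑ i, v i • act s0 (Pi.single i 1 : Fin m → F) := by
    conv_lhs => rw [h2]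
    rw [act_sum]
    exact Finset.sum_congr rfl fun i _ => act_smul _ _ _
  rw [h3]
  have h4 : ∀ (f : Fin m → (Fin m → F)), iob b (∑ i, v i • f i) = ∑ i, v i • iob b (f i) := by
    intro f
    have h5 : ∀ t : Finset (Fin m), iob b (∑ i ∈ t, v i • f i) = ∑ i ∈ t, v i • iob b (f i) := by
      intro t
      induction t using Finset.induction_on with
      | empty => simp only [iob, _root_.Cfsg.Agent.H43.SP.iob, _root_.Finset.sum_apply, _root_.Pi.smul_apply, _root_.smul_eq_mul, _root_.Finset.sum_empty, _root_.zero_smul, _root_.Finset.sum_const_zero]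
      | insert a t ha ih => rw [Finset.sum_insert ha, Finset.sum_insert ha, iob_add, iob_smul, ih]
    exact h5 _
  rw [h4, iob, act_sum]
  exact Finset.sum_congr rfl fun i _ => by rw [act_smul, hs]

end iob

variable [Fintype F] {b b' : Fin m → (Fin n → F)}

theorem Blk.move (_ : Fintype.card F = q ^ 2) (h : Blk q d b') {s : SU n F q}
    (hs : ∀ i, act s (b' i) = b i)
    (hb : ∀ i j, hermForm n F q (b i) (b j) = if i = j then 1 else 0) :
    Blk q (rho n F q s * d * (rho n F q s)⁻¹) b := by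
  have hd2 : ∀ u, (rho n F q s * d * (rho n F q s)⁻¹) (act s u) = act s (d u) := by
    intro v
    rw [Equiv.Perm.mul_apply, Equiv.Perm.mul_apply]
    have h1 : (rho n F q s)⁻¹ (act s v) = v := by rw [← rho_apply, inv_apply_self]
    rw [h1, rho_apply]
  have hio : ∀ v, iob b v = act s (iob b' v) := by
    intro v
    rw [iob, iob, act_sum]
    exact Finset.sum_congr rfl fun i _ => by rw [act_smul, hs]
  refine ⟨hb, fun v hv => ?_, ?_⟩
  · obtain ⟨w, rfl⟩ := exists_iob hv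
    rw [hio, hd2]
    obtain ⟨w', hw'⟩ := exists_iob (h.inv _ (iob_mem w))
    rw [← hw', ← hio]
    exact iob_mem _
  · rintro ⟨t, ht⟩
    apply h.ns
    refine ⟨t, fun v hv => act_injective s ?_⟩
    obtain ⟨w, rfl⟩ := exists_iob hv
    have h1 := ht _ (iob_mem w)
    rwa [hio, hd2, ← act_smul] at h1

/-- **Blocks.** -/
theorem sps_blk (hF : Fintype.card F = q ^ 2) (hm : 3 ≤ m) (hmn : m < n) (hp : p.Prime)
    (hrow : SRow p (PSU m F q)) (hc : SI q σ c) (hd : SI q τ d) (h : Blk q c b)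
    (h' : Blk q d b') (hcp : IsScal F (c ^ p)) (hdp : IsScal F (d ^ p)) :
    SPs F p (rho n F q).range c d := by
  obtain ⟨s, hs⟩ := exists_su_onb hF hmn h'.on h.on
  refine sps_conj_right s ?_
  obtain ⟨c0, hc0, hcs, hcn⟩ := h.res hF hc
  obtain ⟨d0, hd0, hds, hdn⟩ := (h'.move hF hs h.on).res hF (hd.conj s)
  have hinj := iob_inj h.on
  have key : ∀ (w : Equiv.Perm (Fin n → F)) (w0 : Equiv.Perm (Fin m → F)), Res (iob b) w w0 →
      IsScal F w → IsScal F w0 := by
    rintro w w0 hw ⟨a, ha⟩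
    refine ⟨a, fun v => hinj ?_⟩
    rw [← hw, ha, iob_smul]
  have hdp' : IsScal F ((rho n F q s * d * (rho n F q s)⁻¹) ^ p) := by
    rw [conj_pow]
    exact isScal_conj (si_rho s).semi hdp
  refine SPs.of_res hinj hc0 hd0 ?_ key (sps_SU hF hm hp hrow hcs hds (key _ _ (hc0.pow p) hcp)
    hcn (key _ _ (hd0.pow p) hdp') hdn)
  rintro _ ⟨s0, rfl⟩
  obtain ⟨s, hs⟩ := exists_ext_blk hF hmn h.on s0
  exact ⟨_, ⟨s, rfl⟩, hs⟩

end Cfsg.Agent.H43.SP
end

-- part: H43/SP/Types
section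
/-!
# S2274, row `PSU`, cross characteristic: blocks of the elements of the different types
-/

set_option autoImplicit false

namespace Cfsg.Agent.H43.SP

open Cfsg Cfsg.Agent.LieClassical.HermBasic Cfsg.Agent.LieClassical.HermSiegel
open Cfsg.Agent.H957.T5V Cfsg.Agent.H957.T5Conf Cfsg.Agent.H957.T5Pairs Cfsg.Agent.H957.T5U
open Cfsg.Agent.ClassicalGeometry.HermOrtho
open Polynomial

variable {F : Type} [Field F] [Fintype F] {n m q p : ℕ}
variable {θ : F ≃+* F} {c : Equiv.Perm (Fin n → F)}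

theorem blk_of_nt (hF : Fintype.card F = q ^ 2) (hpF : (p : F) ≠ 0)
    (hc : SI q (1 : F ≃+* F) c) {P : F[X]} (h : NT q p c P) (hdeg : 2 ≤ P.natDegree) :
    ∃ b : Fin P.natDegree → (Fin n → F), Blk q c b := by
  obtain ⟨⟨f, j, l, u, hfc, hj, hN, hl, hlp, hPd, hu, hPu⟩, hirr⟩ := h
  have hfm : ∀ (m : ℕ) (v : Fin n → F), (f ^ m) v = (c ^ m) v := by
    intro m
    induction m with
    | zero => intro v; rfl
    | succ m ih =>
      intro v
      rw [pow_succ, pow_succ]
      change (f ^ m) (f v) = (c ^ m) (c v)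
      rw [ih, hfc]
  have hf : ∀ u v, hermForm n F q (f u) (f v) = hermForm n F q u v := by
    intro u v
    rw [hfc, hfc]
    exact hc.herm u v
  have hfN : f ^ (q ^ j + 1) = 1 := by
    refine LinearMap.ext fun v => ?_
    rw [hfm, hN]
    rfl
  have hfp : f ^ p = algebraMap F _ l := by
    refine LinearMap.ext fun v => ?_
    rw [hfm, hlp, Module.algebraMap_end_apply]
  obtain ⟨w, hPw, hww⟩ := exists_aniso hF hj hf hfN hpF hl hfp hPd hu hPu
  have hw0 : w ≠ 0 := by
    rintro rfl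
    exact hww (herm_zero_left _)
  have hdvd : ∀ a : F[X], aeval f a w = 0 → P ∣ a := by
    intro a ha
    by_contra hcon
    obtain ⟨A, B, hAB⟩ := (hirr.coprime_iff_not_dvd (n := a)).2 hcon
    apply hw0
    have := congrArg (fun r => aeval f r w) hAB
    simp only [map_add, LinearMap.add_apply, map_one, Module.End.one_apply, map_mul,
      Module.End.mul_apply, ha, hPw, map_zero, add_zero] at this
    exact this.symm
  let Φ : Polynomial.degreeLT F P.natDegree →ₗ[F] (Fin n → F) :=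
    (LinearMap.applyₗ w) ∘ₗ (aeval f).toLinearMap ∘ₗ (Polynomial.degreeLT F P.natDegree).subtype
  have hΦ : ∀ a : Polynomial.degreeLT F P.natDegree, Φ a = aeval f (a : F[X]) w := fun a => rfl
  have hinj : Function.Injective Φ := by
    rw [injective_iff_map_eq_zero]
    intro a ha
    rw [hΦ] at ha
    apply Subtype.ext
    have h1 := Polynomial.mem_degreeLT.1 a.2
    rw [← Polynomial.degree_eq_natDegree hirr.ne_zero] at h1
    exact eq_zero_of_dvd_of_degree_lt (hdvd _ ha) h1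
  set W := LinearMap.range Φ with hW
  have hfr : Module.finrank F W = P.natDegree := by
    rw [hW, LinearMap.finrank_range_of_inj hinj,
      (Polynomial.degreeLTEquiv F P.natDegree).finrank_eq, Module.finrank_fin_fun]
  have hmem : ∀ a : F[X], aeval f a w ∈ W := by
    intro a
    have h1 : aeval f a w = aeval f (a % P) w := by
      conv_lhs => rw [← EuclideanDomain.div_add_mod a P]
      rw [map_add, mul_comm, map_mul, LinearMap.add_apply, Module.End.mul_apply, hPw, map_zero,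
        zero_add]
    rw [h1]
    exact ⟨⟨a % P, Polynomial.mem_degreeLT.2 (by
      rw [← Polynomial.degree_eq_natDegree hirr.ne_zero]
      exact Polynomial.degree_mod_lt a hirr.ne_zero)⟩, rfl⟩
  have hmem' : ∀ v ∈ W, ∃ a : F[X], aeval f a w = v := by
    rintro _ ⟨a, rfl⟩
    exact ⟨a, rfl⟩
  have hnd : ∀ u ∈ W, (∀ v ∈ W, hermForm n F q u v = 0) → u = 0 := by
    intro u hu h
    by_contra hu0
    obtain ⟨a, rfl⟩ := hmem' u hu
    have hna : ¬ P ∣ a := by
      rintro ⟨r, rfl⟩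
      apply hu0
      rw [mul_comm, map_mul, Module.End.mul_apply, hPw, map_zero]
    obtain ⟨A, B, hAB⟩ := (hirr.coprime_iff_not_dvd (n := a)).2 hna
    apply hww
    have h1 := congrArg (fun r => aeval f r w) hAB
    simp only [map_add, LinearMap.add_apply, map_one, Module.End.one_apply, map_mul,
      Module.End.mul_apply, hPw, map_zero, zero_add] at h1
    have h2 : hermForm n F q (aeval f B (aeval f a w)) w = 0 := by
      rw [herm_aeval hF hj hf hfN]
      exact h _ (hmem _)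
    rwa [h1] at h2
  obtain ⟨b, hbW, hb⟩ := exists_orthonormal hF W hnd hfr
  have hsp : Submodule.span F (Set.range b) = W :=
    span_eq_of_orthonormal W (by rw [hfr, Fintype.card_fin]) hbW hb
  refine ⟨b, hb, ?_, ?_⟩
  · rw [hsp]
    intro v hv
    obtain ⟨a, rfl⟩ := hmem' v hv
    have h1 : c (aeval f a w) = aeval f (X * a) w := by
      rw [map_mul, aeval_X, Module.End.mul_apply, hfc]
    rw [h1]
    exact hmem _
  · rw [hsp]
    rintro ⟨t, ht⟩
    have hwW : w ∈ W := by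
      have := hmem 1
      rwa [map_one, Module.End.one_apply] at this
    have h1 : aeval f (X - C t) w = 0 := by
      rw [map_sub, aeval_X, aeval_C, LinearMap.sub_apply, Module.algebraMap_end_apply, hfc,
        ht w hwW, sub_self]
    have h2 := natDegree_le_of_dvd (hdvd _ h1) (X_sub_C_ne_zero t)
    rw [natDegree_X_sub_C] at h2
    omega

theorem blk_fix (hF : Fintype.card F = q ^ 2) (hp : p.Prime) (hp2 : p ≠ 2)
    (hθ : orderOf θ = p) (hc : SI q θ c) (hcp : c ^ p = 1) (hm : 1 ≤ m) (hmn : m ≤ n) :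
    ∃ b : Fin m → (Fin n → F), Blk q c b := by
  obtain ⟨b, hb, hcb⟩ := exists_onb_fix hF hp hp2 hθ hc hcp m hmn
  have hsum : ∀ x : Fin m → F, c (iob b x) = iob b (fun i => θ (x i)) := by
    intro x
    have h1 : ∀ t : Finset (Fin m), c (∑ i ∈ t, x i • b i) = ∑ i ∈ t, θ (x i) • b i := by
      intro t
      induction t using Finset.induction_on with
      | empty => simp [hc.semi.zero]
      | insert a t ha ih =>
        rw [Finset.sum_insert ha, Finset.sum_insert ha, hc.semi.add, ih, hc.semi.smul, hcb]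
    exact h1 _
  refine ⟨b, hb, fun v hv => ?_, ?_⟩
  · obtain ⟨x, rfl⟩ := exists_iob hv
    rw [hsum]
    exact iob_mem _
  · rintro ⟨t, ht⟩
    have h0 : (⟨0, by omega⟩ : Fin m) = (⟨0, by omega⟩ : Fin m) := rfl
    set i0 : Fin m := ⟨0, by omega⟩
    have hb0 : b i0 ≠ 0 := (linearIndependent_of_orthonormal hb).ne_zero i0
    have h1 := ht (b i0) (Submodule.subset_span ⟨i0, rfl⟩)
    rw [hcb] at h1
    have ht1 : t = 1 := by
      have h2 : (1 - t) • b i0 = 0 := by rw [sub_smul, one_smul, ← h1, sub_self]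
      exact (sub_eq_zero.1 ((smul_eq_zero.1 h2).resolve_right hb0)).symm
    have hθ1 : θ = 1 := by
      ext a
      have h2 := ht (a • b i0) (Submodule.smul_mem _ _ (Submodule.subset_span ⟨i0, rfl⟩))
      rw [hc.semi.smul, hcb, ht1, one_smul] at h2
      have h3 : (θ a - a) • b i0 = 0 := by rw [sub_smul, h2, sub_self]
      exact sub_eq_zero.1 ((smul_eq_zero.1 h3).resolve_right hb0)
    rw [hθ1, orderOf_one] at hθ
    exact hp.one_lt.ne hθ

theorem blk_eig (hF : Fintype.card F = q ^ 2) (hp : p.Prime)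
    (hpq : p ∣ q + 1) (hc : SI q (1 : F ≃+* F) c) (hcp : c ^ p = 1)
    (hns : ¬ IsScal F c) (hm : 2 ≤ m) (hmn : m ≤ n) :
    ∃ b : Fin m → (Fin n → F), Blk q c b := by
  obtain ⟨b, η, hb, hη, hηp, hηq, i, j, hij⟩ := exists_eig_data hF hp hpq (by omega) hc hcp hns
  have hne : i ≠ j := by rintro rfl; exact hij rfl
  let a0 : Fin n := ⟨0, by omega⟩
  let a1 : Fin n := ⟨1, by omega⟩
  have h01 : a0 ≠ a1 := by
    intro h
    have := congrArg Fin.val h
    change 0 = 1 at this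
    omega
  let e : Equiv.Perm (Fin n) := Equiv.swap (Equiv.swap a0 i a1) j * Equiv.swap a0 i
  have he0 : e a0 = i := by
    change Equiv.swap (Equiv.swap a0 i a1) j (Equiv.swap a0 i a0) = i
    rw [Equiv.swap_apply_left]
    refine Equiv.swap_apply_of_ne_of_ne ?_ hne
    intro h
    have h1 : Equiv.swap a0 i a0 = Equiv.swap a0 i a1 := by rw [Equiv.swap_apply_left, ← h]
    exact h01 ((Equiv.swap a0 i).injective h1)
  have he1 : e a1 = j := by
    change Equiv.swap (Equiv.swap a0 i a1) j (Equiv.swap a0 i a1) = j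
    rw [Equiv.swap_apply_left]
  let g : Fin m → Fin n := fun k => e (Fin.castLE hmn k)
  have hg : Function.Injective g := fun x y h => Fin.castLE_injective hmn (e.injective h)
  have hg0 : g ⟨0, by omega⟩ = i := he0
  have hg1 : g ⟨1, by omega⟩ = j := he1
  have hbg : ∀ k l : Fin m, hermForm n F q (b (g k)) (b (g l)) = if k = l then 1 else 0 := by
    intro k l
    rw [hb]
    by_cases h : k = l
    · rw [if_pos h, if_pos (congrArg g h)]
    · rw [if_neg h, if_neg (fun h' => h (hg h'))]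
  have hsum : ∀ x : Fin m → F, c (iob (fun k => b (g k)) x) =
      iob (fun k => b (g k)) (fun k => x k * η (g k)) := by
    intro x
    have h1 : ∀ t : Finset (Fin m), c (∑ k ∈ t, x k • b (g k)) =
        ∑ k ∈ t, (x k * η (g k)) • b (g k) := by
      intro t
      induction t using Finset.induction_on with
      | empty => simp [hc.semi.zero]
      | insert a t ha ih =>
        rw [Finset.sum_insert ha, Finset.sum_insert ha, hc.semi.add, ih, hc.semi.smul, hη,
          smul_smul]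
        rfl
    exact h1 _
  refine ⟨fun k => b (g k), hbg, fun v hv => ?_, ?_⟩
  · obtain ⟨x, rfl⟩ := exists_iob hv
    rw [hsum]
    exact iob_mem _
  · rintro ⟨t, ht⟩
    have key : ∀ k : Fin m, η (g k) = t := by
      intro k
      have h1 := ht (b (g k)) (Submodule.subset_span ⟨k, rfl⟩)
      rw [hη] at h1
      have h2 : (η (g k) - t) • b (g k) = 0 := by rw [sub_smul, h1, sub_self]
      exact sub_eq_zero.1 ((smul_eq_zero.1 h2).resolve_right
        ((linearIndependent_of_orthonormal hb).ne_zero _))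
    apply hij
    rw [← hg0, ← hg1, key, key]

end Cfsg.Agent.H43.SP
end

-- part: H43/SP/Full1
section
/-!
# S2274, row `PSU_n(q)`, cross characteristic, `n` = the order of `q ^ 2` modulo `p`

The Sylow `p`-subgroups are cyclic.
-/

set_option autoImplicit false

namespace Cfsg.Agent.H43.SP

open Cfsg Cfsg.Agent.LieClassical.HermBasic Cfsg.Agent.LieClassical.HermSiegel
open Cfsg.Agent.H533.T5 Cfsg.Agent.H106.MB Cfsg.Agent.H106.MT Cfsg.Agent.H132.S5
open Cfsg.Agent.H957.T5V Cfsg.Agent.H957.T5Tr Cfsg.Agent.H957.T5Conf Cfsg.Agent.H957.T5Pairs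
  Cfsg.Agent.H957.T5U
open Cfsg.Agent.LieClassical.SUBasic Cfsg.Agent.ClassicalGeometry.PSUAutCount
  Cfsg.Agent.ClassicalGeometry.UnitAutBasic
open Cfsg.Agent.H903.SylSemi (Ind scal scal_apply)
open Cfsg.Agent.H177.MeetPSU (rho rho_apply rho_injective)
open Polynomial

section cyc

variable {F V : Type*} [Field F] [AddCommGroup V] [Module F V] {f : Module.End F V} {P : F[X]}

theorem dvd_of_aeval (hirr : Irreducible P) {w : V} (hw0 : w ≠ 0) (hPw : aeval f P w = 0)
    {a : F[X]} (ha : aeval f a w = 0) : P ∣ a := by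
  by_contra hcon
  obtain ⟨A, B, hAB⟩ := (hirr.coprime_iff_not_dvd (n := a)).2 hcon
  apply hw0
  have := congrArg (fun r => aeval f r w) hAB
  simp only [map_add, LinearMap.add_apply, map_one, Module.End.one_apply, map_mul,
    Module.End.mul_apply, ha, hPw, map_zero, add_zero] at this
  exact this.symm

theorem cyclic_vector [FiniteDimensional F V] (hirr : Irreducible P) {w : V} (hw0 : w ≠ 0)
    (hPw : aeval f P w = 0) (hdeg : P.natDegree = Module.finrank F V) (v : V) :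
    ∃ a : F[X], aeval f a w = v := by
  let Φ : Polynomial.degreeLT F P.natDegree →ₗ[F] V :=
    (LinearMap.applyₗ w) ∘ₗ (aeval f).toLinearMap ∘ₗ (Polynomial.degreeLT F P.natDegree).subtype
  have hΦ : ∀ a : Polynomial.degreeLT F P.natDegree, Φ a = aeval f (a : F[X]) w := fun a => rfl
  have hinj : Function.Injective Φ := by
    rw [injective_iff_map_eq_zero]
    intro a ha
    rw [hΦ] at ha
    apply Subtype.ext
    have h1 := Polynomial.mem_degreeLT.1 a.2
    rw [← Polynomial.degree_eq_natDegree hirr.ne_zero] at h1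
    exact eq_zero_of_dvd_of_degree_lt (dvd_of_aeval hirr hw0 hPw ha) h1
  have hfr : Module.finrank F (LinearMap.range Φ) = Module.finrank F V := by
    rw [LinearMap.finrank_range_of_inj hinj,
      (Polynomial.degreeLTEquiv F P.natDegree).finrank_eq, Module.finrank_fin_fun, hdeg]
  have htop : LinearMap.range Φ = ⊤ := Submodule.eq_top_of_finrank_eq hfr
  have hv : v ∈ LinearMap.range Φ := by rw [htop]; trivial
  obtain ⟨a, ha⟩ := hv
  exact ⟨a, ha⟩

theorem commute_aeval {g : Module.End F V} (hg : Commute g f) (b : F[X]) (v : V) :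
    g (aeval f b v) = aeval f b (g v) := by
  have h1 : Commute g (aeval f b) := by
    induction b using Polynomial.induction_on' with
    | add a b ha hb =>
      rw [map_add]
      exact ha.add_right hb
    | monomial k t =>
      rw [aeval_monomial]
      exact Commute.mul_right (show Commute g (algebraMap F (Module.End F V) t) from
        (Algebra.commutes t g).symm) (hg.pow_right k)
  exact congrArg (fun x : Module.End F V => x v) h1.eq

theorem cyc_of_irr (hirr : Irreducible P) {w : V} (hw0 : w ≠ 0)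
    (hPw : aeval f P w = 0) (hcyc : ∀ v, ∃ a : F[X], aeval f a w = v) {G : Type*} [Group G]
    [Finite G] (r : G →* Module.End F V) (hr : Function.Injective r)
    (hcomm : ∀ g, Commute (r g) f) : IsCyclic G := by
  have : Fact (Irreducible P) := ⟨hirr⟩
  choose a ha using fun g => hcyc (r g w)
  have hmk : ∀ {x y : F[X]}, aeval f x w = aeval f y w →
      AdjoinRoot.mk P x = AdjoinRoot.mk P y := by
    intro x y h
    rw [AdjoinRoot.mk_eq_mk]
    refine dvd_of_aeval hirr hw0 hPw ?_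
    rw [map_sub, LinearMap.sub_apply, h, sub_self]
  let φ : G →* AdjoinRoot P :=
    { toFun := fun g => AdjoinRoot.mk P (a g)
      map_one' := by
        rw [← map_one (AdjoinRoot.mk P)]
        refine hmk ?_
        rw [ha, map_one, map_one]
      map_mul' := fun g h => by
        rw [← map_mul]
        refine hmk ?_
        rw [ha, map_mul, map_mul, Module.End.mul_apply, Module.End.mul_apply, ha,
          ← commute_aeval (hcomm h) (a g) w, ha, ← Module.End.mul_apply,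
          ← Module.End.mul_apply]
        have hgh : r h (r g w) = aeval f (a g) (r h w) := by
          rw [← ha g, commute_aeval (hcomm h)]
        have hgh2 : r g (r h w) = aeval f (a h) (r g w) := by
          rw [← ha h, commute_aeval (hcomm g)]
        change r g (r h w) = r h (r g w)
        rw [hgh, hgh2, ← ha g, ← ha h, ← Module.End.mul_apply, ← Module.End.mul_apply,
          ← map_mul, ← map_mul, mul_comm] }
  refine isCyclic_of_injective_ringHom φ ?_
  intro g h hgh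
  have h1 : AdjoinRoot.mk P (a g) = AdjoinRoot.mk P (a h) := hgh
  rw [AdjoinRoot.mk_eq_mk] at h1
  obtain ⟨t, ht⟩ := h1
  have h2 : r g w = r h w := by
    rw [← ha, ← ha, ← sub_eq_zero, ← LinearMap.sub_apply, ← map_sub, ht, mul_comm, map_mul,
      Module.End.mul_apply, hPw, map_zero]
  apply hr
  refine LinearMap.ext fun v => ?_
  obtain ⟨b, rfl⟩ := hcyc v
  rw [commute_aeval (hcomm g), commute_aeval (hcomm h), h2]

end cyc

section trans

variable {F : Type*} [Field F] {V : Type*} [AddCommGroup V] [Module F V] [Finite V]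
  {T : Type*} [Group T] [Finite T] {X : Type*} [Group X] {π : X →* T} {ρ : X →* Equiv.Perm V}

omit [Finite V] [Finite T] in
/-- Part (b), from automorphisms to maps. -/
theorem bps_of_aut [Nontrivial V] {p : ℕ} (hπ : Function.Surjective π)
    (hρ : Function.Injective ρ) (hρlin : ∀ s : X, Semi (1 : F ≃+* F) (ρ s))
    {y z : Equiv.Perm V} {c d : MulAut T} (hyc : Ind π ρ y c) (hzd : Ind π ρ z d)
    (h : BPair p (Inn T) c d) : BPs F p ρ.range y z := by
  obtain ⟨_, ⟨t, rfl⟩, h2⟩ := h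
  obtain ⟨s, rfl⟩ := hπ t
  refine ⟨ρ s, ⟨s, rfl⟩, fun k hk => h2 k ?_⟩
  have e1 : (ρ s)⁻¹ = ρ s⁻¹ := (map_inv ρ s).symm
  have e2 : (MulAut.conj (π s))⁻¹ = MulAut.conj (π s⁻¹) := by rw [map_inv π, map_inv]
  have hz' : Ind π ρ (ρ s * z * (ρ s)⁻¹) (MulAut.conj (π s) * d * (MulAut.conj (π s))⁻¹) := by
    rw [e1, e2]
    exact ((Ind.conj π ρ s).mul hzd).mul (Ind.conj π ρ s⁻¹)
  obtain ⟨a, ha⟩ := exists_scal hk
  have h3 := (hyc.mul hz').pow (p ^ k)
  rw [ha] at h3
  exact Ind.unique hπ hρ h3 (ind_scal hρlin a)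

end trans

section SU

variable {F : Type} [Field F] [Fintype F] {n q p : ℕ} {c d : Equiv.Perm (Fin n → F)}

/-- The linear map of an element of `SU`. -/
noncomputable def lin (n : ℕ) (F : Type) [Field F] (q : ℕ) :
    SU n F q →* Module.End F (Fin n → F) where
  toFun s :=
    { toFun := act s
      map_add' := act_add s
      map_smul' := fun a v => act_smul s a v }
  map_one' := LinearMap.ext fun v => act_one v
  map_mul' g h := LinearMap.ext fun v => act_mul g h v

omit [Fintype F] in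
theorem lin_injective : Function.Injective (lin n F q) := fun _ _ h =>
  Cfsg.Agent.LieClassical.HermSiegel.ext_act fun v => congrArg (fun x : Module.End F _ => x v) h

theorem cyc_data (hF : Fintype.card F = q ^ 2) (hp : p.Prime) (hpF : (p : F) ≠ 0)
    (hn : n = orderOf ((q : ZMod p) ^ 2)) {f : Module.End F (Fin n → F)} (hfp : f ^ p = 1)
    (hf1 : f ≠ 1) : ∃ (P : F[X]) (w : Fin n → F), Irreducible P ∧ w ≠ 0 ∧ aeval f P w = 0 ∧
      ∀ v, ∃ a : F[X], aeval f a w = v := by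
  obtain ⟨P, hirr, hd, w, hw0, hPw⟩ := exists_cyc_factor hp hfp hf1
  have hdeg := natDegree_cyc hF hp hpF hirr hd
  exact ⟨P, w, hirr, hw0, hPw, cyclic_vector hirr hw0 hPw (by
    rw [hdeg, Module.finrank_fin_fun, hn])⟩

/-- **The `p`-subgroups of `SU_n(q)` are cyclic.** -/
theorem cyc_SU (hF : Fintype.card F = q ^ 2) (hp : p.Prime) (hpF : (p : F) ≠ 0)
    (hn : n = orderOf ((q : ZMod p) ^ 2)) {G : Type*} [Group G] [Finite G] (hG : IsPGroup p G)
    (r : G →* SU n F q) (hr : Function.Injective r) : IsCyclic G := by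
  have hpf : Fact p.Prime := ⟨hp⟩
  by_cases htriv : Subsingleton G
  · exact isCyclic_of_subsingleton
  have hnt : Nontrivial G := not_subsingleton_iff_nontrivial.1 htriv
  have hcn := hG.center_nontrivial
  have hcp : IsPGroup p (Subgroup.center G) := hG.to_subgroup _
  obtain ⟨k, hk⟩ := hcp.exists_card_eq
  have hk0 : k ≠ 0 := by
    rintro rfl
    rw [pow_zero] at hk
    have := (Nat.card_eq_one_iff_unique.1 hk).1
    exact not_subsingleton (Subgroup.center G) this
  obtain ⟨z, hz⟩ := exists_prime_orderOf_dvd_card' (G := Subgroup.center G) p (by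
    rw [hk]; exact dvd_pow_self p hk0)
  have hzp : (z : G) ^ p = 1 := by
    have := pow_orderOf_eq_one z
    rw [hz] at this
    simpa only [_root_.SubmonoidClass.coe_pow, _root_.OneMemClass.coe_one] using congrArg Subtype.val this
  have hz1 : (z : G) ≠ 1 := by
    intro h
    have h1 : z = 1 := Subtype.ext h
    rw [h1, orderOf_one] at hz
    exact hp.one_lt.ne hz
  have hinj : Function.Injective ((lin n F q).comp r) := lin_injective.comp hr
  obtain ⟨P, w, hirr, hw0, hPw, hcyc⟩ := cyc_data hF hp hpF hn (f := (lin n F q).comp r z) (by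
    rw [← map_pow, hzp, map_one]) (fun h => hz1 (hinj (by rw [h, map_one])))
  refine cyc_of_irr hirr hw0 hPw hcyc ((lin n F q).comp r) hinj fun g => ?_
  have h1 : g * z = z * g := ((Subgroup.mem_center_iff.1 z.2) g)
  change (lin n F q).comp r g * (lin n F q).comp r z = (lin n F q).comp r z * (lin n F q).comp r g
  rw [← map_mul, ← map_mul, h1]

theorem finite_SU : Finite (SU n F q) :=
  Finite.of_injective _ (rho_injective (n := n) (F := F) (q := q))

theorem finite_PSU : Finite (PSU n F q) := by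
  have := finite_SU (n := n) (F := F) (q := q)
  exact Finite.of_surjective _ (pr_surjective (n := n) (F := F) (q := q))

theorem psu_simple (hF : Fintype.card F = q ^ 2) (hn : 3 ≤ n) (h32 : ¬ (n = 3 ∧ q = 2)) :
    IsSimpleGroup (PSU n F q) :=
  Cfsg.Agent.LieClassical.HermSimple.isSimpleGroup_of_perfect hF hn
    (Cfsg.Agent.LieClassical.HermPerfect.commutator_SU_eq_top hF hn h32)

theorem psu_na (hF : Fintype.card F = q ^ 2) (hn : 3 ≤ n) (h32 : ¬ (n = 3 ∧ q = 2)) :
    ¬ IsMulCommutative (PSU n F q) := by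
  intro h
  have hs := psu_simple hF hn h32
  have h1 : commutator (PSU n F q) = ⊥ := by
    rw [commutator_eq_bot_iff_center_eq_top, Subgroup.eq_top_iff']
    intro x
    rw [Subgroup.mem_center_iff]
    exact fun y => h.is_comm.comm y x
  have h2 : commutator (PSU n F q) = ⊤ := by
    have h3 := Cfsg.Agent.LieClassical.HermPerfect.commutator_SU_eq_top hF hn h32
    rw [commutator_def] at h3 ⊢
    have h4 := congrArg (Subgroup.map (pr n F q)) h3
    rw [Subgroup.map_commutator, Subgroup.map_top_of_surjective _ pr_surjective] at h4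
    exact h4
  rw [h1] at h2
  exact bot_ne_top h2

theorem exists_rho (hF : Fintype.card F = q ^ 2) (hp : p.Prime) (hpq : ¬ p ∣ q + 1)
    (hc : SI q (1 : F ≃+* F) c) (hcp : c ^ p = 1) : ∃ s : SU n F q, rho n F q s = c := by
  obtain ⟨f, hf, hfc⟩ := exists_end hc.semi
  have hfp : (f : Module.End F (Fin n → F)) ^ p = 1 := by
    refine LinearMap.ext fun v => ?_
    rw [pow_end hf, hcp]
    rfl
  set M := LinearMap.toMatrix' (f : (Fin n → F) →ₗ[F] (Fin n → F)) with hM
  have hMv : ∀ v, M.mulVec v = c v := fun v => by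
    rw [hM, LinearMap.toMatrix'_mulVec]
    exact hf v
  have h1 := Cfsg.Agent.LieClassical.GUOrder.det_mul_frob_det hF M (fun u v => by
    rw [hMv, hMv, hc.herm]; rfl)
  have h2 : M.det ^ p = 1 := by
    rw [← Matrix.det_pow]
    have h3 : M ^ p = 1 := by
      have h4 : M ^ p = LinearMap.toMatrix' ((f : Module.End F (Fin n → F)) ^ p) := by
        rw [hM]
        exact (map_pow (LinearMap.toMatrixAlgEquiv' (R := F) (n := Fin n)) _ p).symm
      rw [h4, hfp]
      exact LinearMap.toMatrix'_one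
    rw [h3, Matrix.det_one]
  have h3 : M.det = 1 := by
    have h4 : orderOf M.det ∣ Nat.gcd p (q + 1) :=
      Nat.dvd_gcd (orderOf_dvd_of_pow_eq_one h2) (orderOf_dvd_of_pow_eq_one h1)
    rw [(Nat.Prime.coprime_iff_not_dvd hp).2 hpq, Nat.dvd_one, orderOf_eq_one_iff] at h4
    exact h4
  refine Cfsg.Agent.H177.MeetPSU.exists_su ⟨⟨f, hf, ?_⟩, fun u v => ?_⟩
  · rw [← LinearMap.det_toMatrix']
    exact h3
  · rw [hc.herm]; rfl

/-- Linear elements in the case of cyclic Sylow `p`-subgroups. -/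
theorem sps_full_AA (hAA : AAHyp.{0} p) (hRS : RSHyp.{0} p) (hF : Fintype.card F = q ^ 2)
    (hn3 : 3 ≤ n) (h32 : ¬ (n = 3 ∧ q = 2)) (hp : p.Prime) (hpF : (p : F) ≠ 0)
    (hn : n = orderOf ((q : ZMod p) ^ 2)) (hpq : ¬ p ∣ q + 1)
    (hc : SI q (1 : F ≃+* F) c) (hcp : c ^ p = 1) (hcn : ¬ IsScal F c)
    (hd : SI q (1 : F ≃+* F) d) (hdp : d ^ p = 1) (hdn : ¬ IsScal F d) :
    SPs F p (rho n F q).range c d := by
  have hpf : Fact p.Prime := ⟨hp⟩
  have : Nonempty (Fin n) := ⟨⟨0, by omega⟩⟩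
  have : Nontrivial (Fin n → F) := Function.nontrivial
  have := finite_SU (n := n) (F := F) (q := q)
  have := finite_PSU (n := n) (F := F) (q := q)
  have hs := psu_simple hF hn3 h32
  have hna := psu_na hF hn3 h32
  obtain ⟨s, rfl⟩ := exists_rho hF hp hpq hc hcp
  obtain ⟨t, rfl⟩ := exists_rho hF hp hpq hd hdp
  have hord : ∀ s : SU n F q, rho n F q s ^ p = 1 → ¬ IsScal F (rho n F q s) →
      orderOf (pr n F q s) = p := by
    intro s h1 h2
    refine orderOf_eq_prime ?_ ?_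
    · have h3 : s ^ p = 1 := rho_injective (by rw [map_pow, h1, map_one])
      rw [← map_pow, h3, map_one]
    · intro h3
      apply h2
      have h4 := Ind.conj (pr n F q) (rho n F q) s
      rw [h3, map_one] at h4
      exact uniqSU hF hn3 ⟨1, si_rho s⟩ h4
  obtain ⟨Q⟩ : Nonempty (Sylow p (SU n F q)) := inferInstance
  have hQ : (IsCyclic (Q : Subgroup (SU n F q)) :) :=
    cyc_SU hF hp hpF hn Q.2 ((Q : Subgroup (SU n F q)).subtype :) Subtype.val_injective
  have hP : (IsCyclic ((Q.mapSurjective (pr_surjective (n := n) (F := F) (q := q)) :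
      Sylow p (PSU n F q)) : Subgroup (PSU n F q)) :) := by
    rw [Sylow.coe_mapSurjective]
    exact isCyclic_of_surjective _ (((pr n F q).subgroupMap_surjective (Q : Subgroup (SU n F q)) :))
  have h1 := spair_of_cyclic hAA hRS hna _ hP (hord s hcp hcn) (hord t hdp hdn)
  have h2 := h1.of_injective (MulAut.conj : PSU n F q →* MulAut (PSU n F q))
    (conj_injective_of_simple hna)
  rw [← MonoidHom.range_eq_map] at h2
  exact ⟨apair_of_aut pr_surjective rho_injective (Ind.conj _ _ s) (Ind.conj _ _ t) h2.1,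
    bps_of_aut pr_surjective rho_injective (fun s => (si_rho s).semi) (Ind.conj _ _ s)
      (Ind.conj _ _ t) ((spair_iff hp).1 h2).2⟩

end SU

end Cfsg.Agent.H43.SP
end

-- part: H43/SP/Full2
section
/-!
# S2274, row `PSU_n(q)`, cross characteristic, `n` = the order of `q ^ 2` modulo `p`:
a linear element against a field automorphism, part (a)
-/

set_option autoImplicit false

namespace Cfsg.Agent.H43.SP

open Cfsg Cfsg.Agent.LieClassical.HermBasic Cfsg.Agent.LieClassical.HermSiegel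
open Cfsg.Agent.H533.T5 Cfsg.Agent.H106.MB Cfsg.Agent.H106.MT Cfsg.Agent.H132.S5
open Cfsg.Agent.H957.T5V Cfsg.Agent.H957.T5Tr Cfsg.Agent.H957.T5Conf Cfsg.Agent.H957.T5Pairs
  Cfsg.Agent.H957.T5U
open Cfsg.Agent.LieClassical.SUBasic Cfsg.Agent.ClassicalGeometry.PSUAutCount
  Cfsg.Agent.ClassicalGeometry.UnitAutBasic
open Cfsg.Agent.H903.SylSemi (Ind scal scal_apply)
open Cfsg.Agent.H177.MeetPSU (rho rho_apply rho_injective)
open Cfsg.Agent.H967.CopMat (Fx mem_Fx card_Fx)
open Cfsg.Agent.ClassicalGeometry.HermOrtho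
open scoped Matrix

variable {F : Type} [Field F] {n q q0 p : ℕ} {θ : F ≃+* F} {c d h : Equiv.Perm (Fin n → F)}
  {b : Fin n → (Fin n → F)}

/-- Coordinates over the fixed field. -/
def io0 (b : Fin n → (Fin n → F)) (v : Fin n → Fx θ) : Fin n → F := iob b (fun i => (v i : F))

theorem io0_add (u v : Fin n → Fx θ) : io0 b (u + v) = io0 b u + io0 b v := by
  rw [io0, io0, io0, ← iob_add]
  rfl

theorem io0_smul (a : Fx θ) (v : Fin n → Fx θ) : io0 b (a • v) = (a : F) • io0 b v := by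
  rw [io0, io0, ← iob_smul]
  rfl

theorem io0_inj (hb : ∀ i j, hermForm n F q (b i) (b j) = if i = j then 1 else 0) :
    Function.Injective (io0 (θ := θ) b) := by
  intro u v huv
  have h1 := iob_inj hb huv
  funext i
  exact Subtype.ext (congrFun h1 i)

variable [Fintype F]

theorem herm_io0 (hF : Fintype.card F = q ^ 2)
    (hb : ∀ i j, hermForm n F q (b i) (b j) = if i = j then 1 else 0)
    (hpow : ∀ x : Fx θ, ((x ^ q0 : Fx θ) : F) = (x : F) ^ q) (u v : Fin n → Fx θ) :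
    hermForm n F q (io0 b u) (io0 b v) = ((hermForm n (Fx θ) q0 u v : Fx θ) : F) := by
  rw [io0, io0, herm_iob hF hb]
  unfold hermForm
  rw [← Subfield.coe_subtype, map_sum]
  refine Finset.sum_congr rfl fun i _ => ?_
  rw [map_mul, Subfield.coe_subtype, hpow]

omit [Fintype F] in
theorem iob_surj [Finite F] (hb : ∀ i j, hermForm n F q (b i) (b j) = if i = j then 1 else 0)
    (v : Fin n → F) : ∃ x, iob b x = v :=
  Finite.injective_iff_surjective.1 (iob_inj hb) v

omit [Fintype F] in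
theorem semi_iob (hh : SI q θ h) (hhb : ∀ i, h (b i) = b i) (x : Fin n → F) :
    h (iob b x) = iob b (fun i => θ (x i)) := by
  have h1 : ∀ t : Finset (Fin n), h (∑ i ∈ t, x i • b i) = ∑ i ∈ t, θ (x i) • b i := by
    intro t
    induction t using Finset.induction_on with
    | empty => simp [hh.semi.zero]
    | insert a t ha ih =>
      rw [Finset.sum_insert ha, Finset.sum_insert ha, hh.semi.add, ih, hh.semi.smul, hhb]
  exact h1 _

omit [Fintype F] in
theorem fix_io0 (hh : SI q θ h) (hhb : ∀ i, h (b i) = b i) (x : Fin n → Fx θ) :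
    h (io0 b x) = io0 b x := by
  rw [io0, semi_iob hh hhb]
  congr 1
  funext i
  exact (x i).2

omit [Fintype F] in
theorem exists_io0 [Finite F] (hb : ∀ i j, hermForm n F q (b i) (b j) = if i = j then 1 else 0)
    (hh : SI q θ h) (hhb : ∀ i, h (b i) = b i) {v : Fin n → F} (hv : h v = v) :
    ∃ x : Fin n → Fx θ, io0 b x = v := by
  obtain ⟨x, rfl⟩ := iob_surj hb v
  rw [semi_iob hh hhb] at hv
  have h1 := iob_inj hb hv
  exact ⟨fun i => ⟨x i, congrFun h1 i⟩, rfl⟩

/-- Elements of `SU_n(q₀)` extend. -/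
theorem exists_ext0 [Fintype (Fx θ)] (hF : Fintype.card F = q ^ 2)
    (hb : ∀ i j, hermForm n F q (b i) (b j) = if i = j then 1 else 0)
    (hpow : ∀ x : Fx θ, ((x ^ q0 : Fx θ) : F) = (x : F) ^ q) (s0 : SU n (Fx θ) q0) :
    ∃ s : SU n F q, Res (io0 b) (rho n F q s) (rho n (Fx θ) q0 s0) := by
  classical
  have hbs : ∀ i, io0 (θ := θ) b (Pi.single i 1) = b i := by
    intro i
    rw [io0, ← iob_single (b := b) i]
    congr 1
    funext j
    by_cases hj : j = i
    · subst hj; simp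
    · simp [Pi.single_eq_of_ne hj]
  have h1 : ∀ i j, hermForm n F q (io0 b (act s0 (Pi.single i 1)))
      (io0 b (act s0 (Pi.single j 1))) = if i = j then 1 else 0 := by
    intro i j
    rw [herm_io0 hF hb hpow, herm_act, ← herm_io0 hF hb hpow, hbs, hbs, hb]
  obtain ⟨M, hM, hMb⟩ := exists_iso_ext hF b _ (linearIndependent_of_orthonormal hb)
    (linearIndependent_of_orthonormal h1) (fun i j => by rw [hb, h1])
  have hsum : ∀ x : Fin n → Fx θ, M *ᵥ io0 b x = io0 b (act s0 x) := by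
    intro x
    have h2 : x = ∑ i, x i • (Pi.single i 1 : Fin n → Fx θ) := by
      funext j
      simp only [Finset.sum_apply, Pi.single_apply, _root_.Finset.sum_apply, _root_.Pi.smul_apply, _root_.Pi.single_apply, _root_.smul_eq_mul, _root_.mul_ite, _root_.mul_one, _root_.MulZeroClass.mul_zero, _root_.Finset.sum_ite_eq, _root_.Finset.mem_univ, ↓ _root_.reduceIte]
    have h3 : act s0 x = ∑ i, x i • act s0 (Pi.single i 1 : Fin n → Fx θ) := by
      conv_lhs => rw [h2]
      rw [act_sum]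
      exact Finset.sum_congr rfl fun i _ => act_smul _ _ _
    have h4 : ∀ (f : Fin n → (Fin n → Fx θ)),
        io0 b (∑ i, x i • f i) = ∑ i, (x i : F) • io0 b (f i) := by
      intro f
      have h5 : ∀ t : Finset (Fin n), io0 b (∑ i ∈ t, x i • f i) =
          ∑ i ∈ t, (x i : F) • io0 b (f i) := by
        intro t
        induction t using Finset.induction_on with
        | empty => simp only [io0, iob, _root_.Cfsg.Agent.H43.SP.io0, _root_.Cfsg.Agent.H43.SP.iob, _root_.Finset.sum_apply, _root_.Pi.smul_apply, _root_.smul_eq_mul, _root_.Finset.sum_empty, _root_.ZeroMemClass.coe_zero, _root_.zero_smul, _root_.Finset.sum_const_zero]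
        | insert a t ha ih =>
          rw [Finset.sum_insert ha, Finset.sum_insert ha, io0_add, io0_smul, ih]
      exact h5 _
    have h6 : io0 b x = ∑ i, (x i : F) • b i := rfl
    rw [h3, h4, h6, Matrix.mulVec_sum]
    exact Finset.sum_congr rfl fun i _ => by rw [Matrix.mulVec_smul, hMb]
  -- the determinant
  have hdet : M.det = 1 := by
    rcases Nat.eq_zero_or_pos n with hn | hn
    · subst hn
      exact Matrix.det_isEmpty
    have : Nonempty (Fin n) := ⟨⟨0, hn⟩⟩
    let B : Module.Basis (Fin n) F (Fin n → F) :=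
      basisOfLinearIndependentOfCardEqFinrank (linearIndependent_of_orthonormal hb) (by
        rw [Module.finrank_fin_fun, Fintype.card_fin])
    have hB : ∀ i, B i = b i := fun i => by simp [B]
    have h2 : LinearMap.toMatrix B B M.mulVecLin =
        (((s0 : Matrix.SpecialLinearGroup (Fin n) (Fx θ)) : Matrix (Fin n) (Fin n) (Fx θ))).map
          (Fx θ).subtype := by
      ext i j
      rw [LinearMap.toMatrix_apply, hB, Matrix.mulVecLin_apply, hMb]
      have h3 : io0 b (act s0 (Pi.single j 1)) =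
          ∑ i, ((act s0 (Pi.single j 1 : Fin n → Fx θ) i : Fx θ) : F) • B i := by
        rw [io0, iob]
        exact Finset.sum_congr rfl fun i _ => by rw [hB]
      rw [h3, Module.Basis.repr_sum_self, Matrix.map_apply]
      have h4 : act s0 (Pi.single j 1 : Fin n → Fx θ) i =
          ((s0 : Matrix.SpecialLinearGroup (Fin n) (Fx θ)) :
            Matrix (Fin n) (Fin n) (Fx θ)) i j := by
        change (((s0 : Matrix.SpecialLinearGroup (Fin n) (Fx θ)) :
            Matrix (Fin n) (Fin n) (Fx θ)) *ᵥ (Pi.single j 1)) i = _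
        rw [Matrix.mulVec_single_one]
        rfl
      rw [h4]
      rfl
    have h3 : (LinearMap.toMatrix B B M.mulVecLin).det = M.det := by
      rw [LinearMap.det_toMatrix, ← Matrix.toLin'_apply', LinearMap.det_toLin']
    rw [← h3, h2]
    have h4 := RingHom.map_det (Fx θ).subtype
      ((s0 : Matrix.SpecialLinearGroup (Fin n) (Fx θ)) : Matrix (Fin n) (Fin n) (Fx θ))
    rw [RingHom.mapMatrix_apply] at h4
    rw [← h4]
    have h5 : ((s0 : Matrix.SpecialLinearGroup (Fin n) (Fx θ)) :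
        Matrix (Fin n) (Fin n) (Fx θ)).det = 1 :=
      (s0 : Matrix.SpecialLinearGroup (Fin n) (Fx θ)).2
    rw [h5, map_one]
  exact ⟨mkSU M hdet hM, fun x => hsum x⟩

omit [Fintype F] in
theorem commute_of_io0 [Finite F]
    (hb : ∀ i j, hermForm n F q (b i) (b j) = if i = j then 1 else 0)
    (hh : SI q θ h) (hhb : ∀ i, h (b i) = b i) {s : SU n F q} {w : Equiv.Perm (Fin n → Fx θ)}
    (hs : Res (io0 b) (rho n F q s) w) : Commute (rho n F q s) h := by
  have hbs : ∀ i, io0 (θ := θ) b (Pi.single i 1) = b i := by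
    intro i
    rw [io0, ← iob_single (b := b) i]
    congr 1
    funext j
    by_cases hj : j = i
    · subst hj; simp
    · simp [Pi.single_eq_of_ne hj]
  ext1 v
  rw [Equiv.Perm.mul_apply, Equiv.Perm.mul_apply]
  obtain ⟨x, rfl⟩ := iob_surj hb v
  have h1 : ∀ x : Fin n → F, rho n F q s (iob b x) = ∑ i, x i • rho n F q s (b i) := by
    intro x
    rw [rho_apply, iob, act_sum]
    exact Finset.sum_congr rfl fun i _ => by rw [act_smul, rho_apply]
  have h2 : ∀ i, h (rho n F q s (b i)) = rho n F q s (b i) := by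
    intro i
    rw [← hbs i, hs, fix_io0 hh hhb]
  rw [semi_iob hh hhb, h1, h1]
  have h3 : ∀ t : Finset (Fin n), h (∑ i ∈ t, x i • rho n F q s (b i)) =
      ∑ i ∈ t, θ (x i) • rho n F q s (b i) := by
    intro t
    induction t using Finset.induction_on with
    | empty => simp [hh.semi.zero]
    | insert a t ha ih =>
      rw [Finset.sum_insert ha, Finset.sum_insert ha, hh.semi.add, ih, hh.semi.smul, h2]
  exact (h3 _).symm

/-- The normal closure of a non-scalar element of `SU_n(q)` is not solvable. -/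
theorem not_solvable_SU (hF : Fintype.card F = q ^ 2) (hn : 3 ≤ n) (h32 : ¬ (n = 3 ∧ q = 2))
    (s : SU n F q) (hs : ¬ IsScal F (rho n F q s)) :
    ¬ Group.IsSolvable ↥(Subgroup.closure {y : Equiv.Perm (Fin n → F) |
      ∃ r : SU n F q, y = rho n F q r * rho n F q s * (rho n F q r)⁻¹}) := by
  intro hsol
  have hsim := psu_simple hF hn h32
  have hna := psu_na hF hn h32
  have h0 : pr n F q s ≠ 1 := by
    intro h3
    apply hs
    have h4 := Ind.conj (pr n F q) (rho n F q) s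
    rw [h3, map_one] at h4
    exact uniqSU hF hn ⟨1, si_rho s⟩ h4
  have h1 : (Subgroup.closure {y : SU n F q | ∃ r : SU n F q, y = r * s * r⁻¹}).map (rho n F q) =
      Subgroup.closure {y : Equiv.Perm (Fin n → F) |
        ∃ r : SU n F q, y = rho n F q r * rho n F q s * (rho n F q r)⁻¹} := by
    rw [MonoidHom.map_closure]
    congr 1
    ext y
    constructor
    · rintro ⟨_, ⟨r, rfl⟩, rfl⟩
      exact ⟨r, by rw [map_mul, map_mul, map_inv]⟩
    · rintro ⟨r, rfl⟩
      exact ⟨_, ⟨r, rfl⟩, by rw [map_mul, map_mul, map_inv]⟩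
  have h2 : Group.IsSolvable
      ↥(Subgroup.closure {y : SU n F q | ∃ r : SU n F q, y = r * s * r⁻¹}) := by
    rw [← h1] at hsol
    exact Group.isSolvable_of_isSolvable_injective
      (f := ((Subgroup.closure {y : SU n F q | ∃ r : SU n F q, y = r * s * r⁻¹}).equivMapOfInjective
        _ rho_injective).toMonoidHom) (MulEquiv.injective _)
  have h3 : (Subgroup.closure {y : SU n F q | ∃ r : SU n F q, y = r * s * r⁻¹}).map
      (pr n F q) = ⊤ := by
    have hN : ((Subgroup.closure {y : SU n F q | ∃ r : SU n F q, y = r * s * r⁻¹}).map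
        (pr n F q)).Normal := by
      refine Subgroup.Normal.map ?_ _ pr_surjective
      constructor
      intro x hx g
      induction hx using Subgroup.closure_induction with
      | mem x hx =>
        obtain ⟨r, rfl⟩ := hx
        exact Subgroup.subset_closure ⟨g * r, by group⟩
      | one => simp only [_root_.Subtype.exists, _root_.mul_one, _root_.mul_inv_cancel, _root_.OneMemClass.one_mem]
      | mul a b _ _ ha hb =>
        have : g * (a * b) * g⁻¹ = (g * a * g⁻¹) * (g * b * g⁻¹) := by group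
        rw [this]; exact mul_mem ha hb
      | inv a _ ha =>
        have : g * a⁻¹ * g⁻¹ = (g * a * g⁻¹)⁻¹ := by group
        rw [this]; exact inv_mem ha
    rcases hN.eq_bot_or_eq_top with h | h
    · exfalso
      apply h0
      have : pr n F q s ∈ ((Subgroup.closure {y : SU n F q | ∃ r : SU n F q, y = r * s * r⁻¹}).map
          (pr n F q)) := ⟨s, Subgroup.subset_closure ⟨1, by group⟩, rfl⟩
      rwa [h, Subgroup.mem_bot] at this
    · exact h
  have h4 : Group.IsSolvable (PSU n F q) := by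
    have h5 : Group.IsSolvable ↥((Subgroup.closure {y : SU n F q |
        ∃ r : SU n F q, y = r * s * r⁻¹}).map (pr n F q)) :=
      Group.isSolvable_of_surjective (f := (pr n F q).subgroupMap _)
        ((pr n F q).subgroupMap_surjective _)
    rw [h3] at h5
    exact Group.isSolvable_of_surjective (f := (Subgroup.topEquiv (G := PSU n F q)).toMonoidHom)
      (MulEquiv.surjective _)
  exact hna ⟨⟨IsSimpleGroup.comm_iff_isSolvable.2 h4⟩⟩

end Cfsg.Agent.H43.SP
end

-- part: H43/SP/Full3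
section
/-!
# S2274, row `PSU_n(q)`, cross characteristic, `n` = the order of `q ^ 2` modulo `p`:
a linear element against a field automorphism
-/

set_option autoImplicit false

namespace Cfsg.Agent.H43.SP

open Cfsg Cfsg.Agent.LieClassical.HermBasic Cfsg.Agent.LieClassical.HermSiegel
open Cfsg.Agent.H533.T5 Cfsg.Agent.H106.MB Cfsg.Agent.H106.MT Cfsg.Agent.H132.S5
open Cfsg.Agent.H957.T5V Cfsg.Agent.H957.T5Tr Cfsg.Agent.H957.T5Conf Cfsg.Agent.H957.T5Pairs
  Cfsg.Agent.H957.T5U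
open Cfsg.Agent.LieClassical.SUBasic Cfsg.Agent.ClassicalGeometry.PSUAutCount
  Cfsg.Agent.ClassicalGeometry.UnitAutBasic
open Cfsg.Agent.H903.SylSemi (Ind scal scal_apply)
open Cfsg.Agent.H177.MeetPSU (rho rho_apply rho_injective yy yy_apply ind_yy)
open Cfsg.Agent.H967.CopMat (Fx mem_Fx card_Fx)
open Cfsg.Agent.ClassicalGeometry.HermOrtho

theorem solvable_of_res {S V : Type*} {ι : S → V} (hι : Function.Injective ι)
    {N : Subgroup (Equiv.Perm V)} {N0 : Subgroup (Equiv.Perm S)}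
    (hN : ∀ w0 ∈ N0, ∃ w ∈ N, Res ι w w0) (h : Group.IsSolvable N) : Group.IsSolvable N0 := by
  let M : Subgroup (Equiv.Perm V) :=
    { carrier := {w | ∃ w0, Res ι w w0}
      mul_mem' := by
        rintro a b ⟨a0, ha⟩ ⟨b0, hb⟩
        exact ⟨a0 * b0, ha.mul hb⟩
      one_mem' := ⟨1, Res.one⟩
      inv_mem' := by
        rintro a ⟨a0, ha⟩
        exact ⟨a0⁻¹, ha.inv⟩ }
  have huni : ∀ {w : Equiv.Perm V} {a b : Equiv.Perm S}, Res ι w a → Res ι w b → a = b := by
    intro w a b ha hb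
    ext v
    apply hι
    rw [← ha, ← hb]
  let φ : M →* Equiv.Perm S :=
    { toFun := fun w => Classical.choose w.2
      map_one' := huni (Classical.choose_spec (1 : M).2) Res.one
      map_mul' := fun a b => huni (Classical.choose_spec (a * b).2)
        ((Classical.choose_spec a.2).mul (Classical.choose_spec b.2)) }
  have hφ : ∀ {w : Equiv.Perm V} {w0 : Equiv.Perm S} (hw : Res ι w w0),
      φ ⟨w, w0, hw⟩ = w0 := fun {w w0} hw =>
    huni (Classical.choose_spec (⟨w0, hw⟩ : ∃ w0, Res ι w w0)) hw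
  have h1 : N0 ≤ (N.subgroupOf M).map φ := by
    intro w0 hw0
    obtain ⟨w, hw, hww⟩ := hN w0 hw0
    exact ⟨⟨w, w0, hww⟩, hw, hφ hww⟩
  refine isSolvable_of_le h1 ?_
  have h2 : Group.IsSolvable (N.subgroupOf M) :=
    Group.isSolvable_of_isSolvable_injective
      (f := ((M.subtype.comp (N.subgroupOf M).subtype).codRestrict N (fun x => x.2)))
      (fun a b hab => Subtype.ext (Subtype.ext (congrArg (fun x : N => (x : Equiv.Perm V)) hab)))
  exact Group.isSolvable_of_surjective (f := φ.subgroupMap (N.subgroupOf M))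
    (φ.subgroupMap_surjective _)

theorem not_scal_semi {F V : Type*} [Field F] [AddCommGroup V] [Module F V] [Nontrivial V]
    {p : ℕ} (hp : p.Prime) {θ : F ≃+* F} (hθ : orderOf θ = p) {d : Equiv.Perm V}
    (hd : Semi θ d) : ¬ IsScal F d := by
  rintro ⟨t, ht⟩
  obtain ⟨v, hv⟩ := exists_ne (0 : V)
  have ht0 : t • v ≠ 0 := by
    rw [← ht]
    intro h
    apply hv
    apply d.injective
    rw [h, hd.zero]
  have hθ1 : θ = 1 := by
    ext a
    have h1 := hd.smul a v
    rw [ht, ht, smul_comm] at h1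
    have h2 : (a - θ a) • (t • v) = 0 := by rw [sub_smul, h1, sub_self]
    exact (sub_eq_zero.1 ((smul_eq_zero.1 h2).resolve_right ht0)).symm
  rw [hθ1, orderOf_one] at hθ
  exact hp.one_lt.ne hθ

variable {F : Type} [Field F] [Fintype F] {n q p : ℕ} {θ : F ≃+* F}
  {c d z : Equiv.Perm (Fin n → F)}

/-- A linear element and a field automorphism which commute. -/
theorem apair_comm (hRS : RSHyp.{0} p) (hF : Fintype.card F = q ^ 2) (hn3 : 3 ≤ n)
    (h32 : ¬ (n = 3 ∧ q = 2 ^ p)) (hp : p.Prime) (hp2 : p ≠ 2) (hpq : ¬ p ∣ q + 1)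
    (hθ : orderOf θ = p) (hz : SI q (1 : F ≃+* F) z) (hzp : z ^ p = 1) (hzn : ¬ IsScal F z)
    (hd : SI q θ d) (hdp : d ^ p = 1) (hcomm : Commute z d) :
    APair (rho n F q).range z d := by
  classical
  obtain ⟨h, hh⟩ : ∃ h, h = z⁻¹ * d := ⟨_, rfl⟩
  have hsi : SI q θ h := by
    rw [hh]
    have := hz.inv.mul hd
    rwa [inv_one, one_mul] at this
  have hhp : h ^ p = 1 := by
    rw [hh, (hcomm.inv_left).mul_pow, inv_pow, hzp, hdp, inv_one, one_mul]
  have hzh : Commute z h := by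
    rw [hh]
    exact (Commute.refl z).inv_right.mul_right hcomm
  obtain ⟨b, hb, hhb⟩ := exists_onb_fix hF hp hp2 hθ hsi hhp n le_rfl
  obtain ⟨q0, hq, h0⟩ := exists_q0 hF hp hp2 hθ
  have : Fintype (Fx θ) := Fintype.ofFinite _
  rw [Nat.card_eq_fintype_card] at h0
  have hpow := pow_q_eq (hp.odd_of_ne_two hp2) hq h0
  have h320 : ¬ (n = 3 ∧ q0 = 2) := by
    rintro ⟨h1, h2⟩
    exact h32 ⟨h1, by rw [hq, h2]⟩
  have hpq0 : ¬ p ∣ q0 + 1 := by
    intro h1
    apply hpq
    rw [hq]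
    have h2 := (hp.odd_of_ne_two hp2).nat_add_dvd_pow_add_pow q0 1
    rw [one_pow] at h2
    exact h1.trans h2
  have hinj : Function.Injective (io0 (θ := θ) b) := io0_inj hb
  -- the restriction of `z`
  obtain ⟨z0, hz0⟩ := exists_res (x := z) hinj (fun v => by
    obtain ⟨x, hx⟩ := exists_io0 hb hsi hhb (v := z (io0 b v)) (by
      have h1 : h (z (io0 b v)) = z (h (io0 b v)) := by
        rw [← Equiv.Perm.mul_apply, ← Equiv.Perm.mul_apply, hzh.eq]
      rw [h1, fix_io0 hsi hhb])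
    exact ⟨x, hx.symm⟩)
  have hz0s : SI q0 (1 : Fx θ ≃+* Fx θ) z0 := by
    refine ⟨⟨fun u v => hinj ?_, fun a v => hinj ?_⟩, fun u v => ?_⟩
    · rw [← hz0, io0_add, hz.semi.add, hz0, hz0, io0_add]
    · rw [← hz0, io0_smul, hz.semi.smul, hz0]
      exact (io0_smul a (z0 v)).symm
    · apply Subtype.ext
      rw [← herm_io0 hF hb hpow, ← hz0, ← hz0, hz.herm]
      exact herm_io0 hF hb hpow u v
  have hz0p : z0 ^ p = 1 := by
    ext1 v
    apply hinj
    rw [← hz0.pow p, hzp]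
    rfl
  have hz0n : ¬ IsScal (Fx θ) z0 := by
    rintro ⟨t, ht⟩
    apply hzn
    refine ⟨t, fun v => ?_⟩
    obtain ⟨x, rfl⟩ := iob_surj hb v
    have hbs : ∀ i, io0 (θ := θ) b (Pi.single i 1) = b i := by
      intro i
      rw [io0, ← iob_single (b := b) i]
      congr 1
      funext j
      by_cases hj : j = i
      · subst hj; simp
      · simp [Pi.single_eq_of_ne hj]
    have h1 : ∀ i, z (b i) = (t : F) • b i := by
      intro i
      rw [← hbs i, hz0, ht, io0_smul]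
    have h2 : ∀ s : Finset (Fin n), z (∑ i ∈ s, x i • b i) = (t : F) • ∑ i ∈ s, x i • b i := by
      intro s
      induction s using Finset.induction_on with
      | empty => simp [hz.semi.zero]
      | insert a s ha ih =>
        rw [Finset.sum_insert ha, hz.semi.add, ih, hz.semi.smul, h1, smul_add, smul_comm]
        rfl
    exact h2 _
  obtain ⟨s0, hs0⟩ := exists_rho h0 hp hpq0 hz0s hz0p
  -- the subgroup `R`
  let R : Subgroup (Equiv.Perm (Fin n → F)) := (rho n F q).range ⊓ Subgroup.centralizer {h}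
  have hmemR : ∀ w, w ∈ R ↔ w ∈ (rho n F q).range ∧ Commute w h := by
    intro w
    rw [Subgroup.mem_inf, Subgroup.mem_centralizer_singleton_iff]
    exact and_congr_right fun _ => ⟨fun h => h, fun h => h⟩
  have hzR : z ∈ R := by
    rw [hmemR]
    obtain ⟨s, hs⟩ := exists_rho hF hp hpq hz hzp
    exact ⟨⟨s, hs⟩, hzh⟩
  have hz1 : z ≠ 1 := by
    rintro rfl
    exact hzn ⟨1, fun v => by rw [one_smul]; rfl⟩
  refine APair.of_aligned (R := R) hRS inf_le_left (orderOf_eq_prime_iff (hp := ⟨hp⟩) |>.2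
    ⟨hzp, hz1⟩) (fun r hr => mul_mem (mul_mem hzR hr) (inv_mem hzR)) (s := 1) (one_mem _) 1 hzh
    (fun r hr => ((hmemR r).1 hr).2) (by rw [hh]; group) ?_
  intro hsol
  refine not_solvable_SU h0 hn3 h320 s0 (by rw [hs0]; exact hz0n)
    (solvable_of_res hinj ?_ hsol)
  intro w0 hw0
  induction hw0 using Subgroup.closure_induction with
  | mem x hx =>
    obtain ⟨r, rfl⟩ := hx
    obtain ⟨s, hs⟩ := exists_ext0 hF hb hpow r
    refine ⟨rho n F q s * z * (rho n F q s)⁻¹, Subgroup.subset_closure ⟨rho n F q s, ?_, rfl⟩, ?_⟩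
    · rw [hmemR]
      exact ⟨⟨s, rfl⟩, commute_of_io0 hb hsi hhb hs⟩
    · rw [hs0]
      exact (hs.mul hz0).mul hs.inv
  | one => exact ⟨1, one_mem _, Res.one⟩
  | mul a b _ _ ha hb =>
    obtain ⟨x, hx, hxa⟩ := ha
    obtain ⟨y, hy, hyb⟩ := hb
    exact ⟨x * y, mul_mem hx hy, hxa.mul hyb⟩
  | inv a _ ha =>
    obtain ⟨x, hx, hxa⟩ := ha
    exact ⟨x⁻¹, inv_mem hx, hxa.inv⟩

theorem conj_mem_range (hF : Fintype.card F = q ^ 2) (hd : SI q θ d) {w : Equiv.Perm (Fin n → F)}
    (hw : w ∈ (rho n F q).range) : d * w * d⁻¹ ∈ (rho n F q).range := by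
  obtain ⟨s, rfl⟩ := hw
  obtain ⟨A, rfl⟩ := exists_yy hF hd
  obtain ⟨s', hs', -⟩ := ind_yy A θ s
  exact ⟨s', hs'⟩

/-- A conjugate of a linear element commutes with a field automorphism, if the Sylow `p`-subgroups
are cyclic. -/
theorem exists_commute (hF : Fintype.card F = q ^ 2) (hn3 : 3 ≤ n) (hp : p.Prime)
    (hpF : (p : F) ≠ 0) (hn : n = orderOf ((q : ZMod p) ^ 2))
    (hθ : orderOf θ = p) {s : SU n F q} (hs : orderOf s = p)
    (hd : SI q θ d) (hdp : d ^ p = 1) :
    ∃ t : SU n F q, Commute (rho n F q t * rho n F q s * (rho n F q t)⁻¹) d := by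
  have hpf : Fact p.Prime := ⟨hp⟩
  have : Nonempty (Fin n) := ⟨⟨0, by omega⟩⟩
  have : Nontrivial (Fin n → F) := Function.nontrivial
  have := finite_SU (n := n) (F := F) (q := q)
  obtain ⟨S, hS⟩ : ∃ S, S = (rho n F q).range := ⟨_, rfl⟩
  have hdS : d ∈ Subgroup.normalizer (S : Set (Equiv.Perm (Fin n → F))) := by
    rw [Subgroup.mem_normalizer_iff, hS]
    intro w
    refine ⟨fun hw => conj_mem_range hF hd hw, fun hw => ?_⟩
    have h1 := conj_mem_range hF hd.inv hw
    have h2 : d⁻¹ * (d * w * d⁻¹) * d⁻¹⁻¹ = w := by group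
    rwa [h2] at h1
  let δ : MulAut S := S.normalizerMonoidHom ⟨d, hdS⟩
  have hδ : ∀ x : S, ((δ x : S) : Equiv.Perm (Fin n → F)) = d * x * d⁻¹ := fun x => rfl
  have hδp : orderOf δ = p := by
    refine orderOf_eq_prime ?_ ?_
    · change (S.normalizerMonoidHom ⟨d, hdS⟩) ^ p = 1
      rw [← map_pow]
      have h1 : (⟨d, hdS⟩ : Subgroup.normalizer (S : Set (Equiv.Perm (Fin n → F)))) ^ p = 1 :=
        Subtype.ext hdp
      rw [h1, map_one]
    · intro h1
      refine not_scal_semi hp hθ hd.semi (uniqSU hF hn3 ⟨θ, hd⟩ ?_)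
      intro s
      refine ⟨s, ?_, rfl⟩
      have h2 := hδ ⟨rho n F q s, by rw [hS]; exact ⟨s, rfl⟩⟩
      rw [h1] at h2
      exact h2
  have hom : ∀ E : Subgroup S, IsPGroup p E → (∀ e ∈ E, δ e ∈ E) → ∀ e ∈ E, e ^ p = 1 →
      δ e = e := by
    intro E hE hδE e he hep
    let e1 : S ≃* (rho n F q).range := MulEquiv.subgroupCongr hS
    let e2 : (rho n F q).range ≃* SU n F q := (MonoidHom.ofInjective (rho_injective (n := n)
      (F := F) (q := q))).symm
    let r : E →* SU n F q := ((e1.trans e2).toMonoidHom).comp E.subtype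
    have hr : Function.Injective r := fun a b hab =>
      E.subtype_injective ((e1.trans e2).injective hab)
    have hEc := cyc_SU hF hp hpF hn hE r hr
    have hE' : IsCyclic ↥(E.map S.subtype) :=
      isCyclic_of_surjective _ (S.subtype.subgroupMap_surjective E)
    have h1 := Cfsg.Agent.H28.T5Abs.omega_of_cyclic hp (E := E.map S.subtype) hE' (c := d) hdp
      (by
        rintro _ ⟨x, hx, rfl⟩
        exact ⟨δ x, hδE x hx, rfl⟩) (e := (e : Equiv.Perm (Fin n → F))) ⟨e, he, rfl⟩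
      (by
        have := congrArg Subtype.val hep
        simpa only [_root_.SubmonoidClass.coe_pow, _root_.OneMemClass.coe_one] using this)
    apply Subtype.ext
    rw [hδ, h1, mul_inv_cancel_right]
  have hso : orderOf (⟨rho n F q s, by rw [hS]; exact ⟨s, rfl⟩⟩ : S) = p := by
    rw [Subgroup.orderOf_mk, orderOf_injective _ rho_injective, hs]
  obtain ⟨⟨t, ht⟩, h1⟩ := Cfsg.Agent.H28.T5Mid.exists_fix δ hδp hom hso
  have ht' := ht
  rw [hS] at ht'
  obtain ⟨t', rfl⟩ := ht'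
  refine ⟨t', ?_⟩
  have h2 := congrArg (fun x : S => (x : Equiv.Perm (Fin n → F))) h1
  simp only [hδ] at h2
  have h3 : d * (rho n F q t' * rho n F q s * (rho n F q t')⁻¹) * d⁻¹ =
      rho n F q t' * rho n F q s * (rho n F q t')⁻¹ := h2
  exact (mul_inv_eq_iff_eq_mul.1 h3).symm

/-- A linear element against a field automorphism, part (a). -/
theorem apair_full_AC (hRS : RSHyp.{0} p) (hF : Fintype.card F = q ^ 2) (hn3 : 3 ≤ n)
    (h32 : ¬ (n = 3 ∧ q = 2 ^ p)) (hp : p.Prime) (hp2 : p ≠ 2) (hpF : (p : F) ≠ 0)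
    (hn : n = orderOf ((q : ZMod p) ^ 2)) (hpq : ¬ p ∣ q + 1)
    (hθ : orderOf θ = p) (hc : SI q (1 : F ≃+* F) c) (hcp : c ^ p = 1) (hcn : ¬ IsScal F c)
    (hd : SI q θ d) (hdp : d ^ p = 1) : APair (rho n F q).range c d := by
  have hpf : Fact p.Prime := ⟨hp⟩
  obtain ⟨s, rfl⟩ := exists_rho hF hp hpq hc hcp
  have hs : orderOf s = p := by
    refine orderOf_eq_prime (rho_injective (by rw [map_pow, hcp, map_one])) ?_
    rintro rfl
    apply hcn
    rw [map_one]
    exact ⟨1, fun v => by rw [one_smul]; rfl⟩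
  obtain ⟨t, ht⟩ := exists_commute hF hn3 hp hpF hn hθ hs hd hdp
  refine APair.conj_left (s := rho n F q t) ⟨t, rfl⟩ ?_
  refine apair_comm hRS hF hn3 h32 hp hp2 hpq hθ (hc.conj t) ?_ ?_ hd hdp ht
  · rw [conj_pow, hcp, mul_one, mul_inv_cancel]
  · intro h1
    apply hcn
    have h2 := isScal_conj ((si_rho t).semi.inv) h1
    have h3 : (rho n F q t)⁻¹ * (rho n F q t * rho n F q s * (rho n F q t)⁻¹) *
        (rho n F q t)⁻¹⁻¹ = rho n F q s := by group
    rwa [h3] at h2

end Cfsg.Agent.H43.SP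
end

-- part: H43/SP/Main
section
/-!
# S2274, row `PSU_n(q)`, cross characteristic: assembly

`sps_main` : all pairs of semilinear isometries of order `p` modulo scalars, given the strong rows
of the smaller groups `PSL_2(q)`, `PSL_m(q ^ 2)` (`2 * m ≤ n`), `PSU_m(q)` (`m < n`).
-/

set_option autoImplicit false

namespace Cfsg.Agent.H43.SP

open Cfsg Cfsg.Agent.LieClassical.HermBasic Cfsg.Agent.LieClassical.HermSiegel
open Cfsg.Agent.H533.T5 Cfsg.Agent.H106.MT Cfsg.Agent.H132.S5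
open Cfsg.Agent.H957.T5V Cfsg.Agent.H957.T5Conf Cfsg.Agent.H957.T5Pairs Cfsg.Agent.H957.T5U
open Cfsg.Agent.H957.T5Main (isScal_of_pow_one not_isScal_smulA)
open Cfsg.Agent.H177.MeetPSU (rho rho_apply)
open Cfsg.Agent.H650.S5U (TB sps_TB)
open Polynomial

variable {F : Type} [Field F] [Fintype F] {n q p : ℕ} {σ τ : F ≃+* F}
  {c d : Equiv.Perm (Fin n → F)}

/-- The rows of the smaller groups. -/
structure Rows (p : ℕ) (hF : Fintype.card F = q ^ 2) (n : ℕ) : Prop where
  h1 : 4 ≤ q → SRow p (Matrix.ProjectiveSpecialLinearGroup (Fin 2) (Kq hF))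
  h2 : ∀ m, 2 ≤ m → 2 * m ≤ n → SRow p (Matrix.ProjectiveSpecialLinearGroup (Fin m) F)
  h3 : ∀ m, 3 ≤ m → m < n → ¬ (m = 3 ∧ q = 2) → SRow p (PSU m F q)

theorem not_dvd_sq (hp : p.Prime) (h1 : ¬ p ∣ q - 1) (h2 : ¬ p ∣ q + 1) : ¬ p ∣ q ^ 2 - 1 := by
  intro h
  rw [show q ^ 2 - 1 = (q + 1) * (q - 1) by
    rw [show (1 : ℕ) = 1 ^ 2 by norm_num, Nat.sq_sub_sq, one_pow]] at h
  rcases hp.dvd_mul.1 h with h | h
  · exact h2 h
  · exact h1 h

theorem four_le_of_theta (hF : Fintype.card F = q ^ 2) (hp : p.Prime) (hp5 : 5 ≤ p)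
    (hθ : orderOf σ = p) : 4 ≤ q := by
  obtain ⟨q0, hq, -⟩ := exists_q0 hF hp (by omega) hθ
  have h2 := two_le hF
  have h3 : 2 ≤ q0 := by
    by_contra hcon
    have h4 : q0 = 0 ∨ q0 = 1 := by omega
    rcases h4 with rfl | rfl
    · rw [zero_pow (by omega)] at hq; omega
    · rw [one_pow] at hq; omega
  calc 4 ≤ 2 ^ 5 := by norm_num
    _ ≤ q0 ^ 5 := Nat.pow_le_pow_left h3 5
    _ ≤ q0 ^ p := Nat.pow_le_pow_right (by omega) hp5
    _ = q := hq.symm

theorem blk_of_nt' (hF : Fintype.card F = q ^ 2) (hpF : (p : F) ≠ 0)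
    (hc : SI q (1 : F ≃+* F) c) {P : F[X]} (h : NT q p c P) {m : ℕ} (hm : 2 ≤ m)
    (hdeg : P.natDegree = m) : ∃ b : Fin m → (Fin n → F), Blk q c b := by
  have h1 := blk_of_nt hF hpF hc h (by omega)
  rwa [hdeg] at h1

section core

variable (hF : Fintype.card F = q ^ 2) (hn : 3 ≤ n) (hp : p.Prime) (hp5 : 5 ≤ p)
  (hpF : (p : F) ≠ 0) (h32 : ¬ (n = 3 ∧ q = 2)) (hAA : AAHyp.{0} p) (hRS : RSHyp.{0} p)
  (hR : Rows p hF n)

include hF hn hp hp5 hpF h32 hAA hRS hR

theorem m_AA (hc : SI q (1 : F ≃+* F) c) (hcp : c ^ p = 1) (hcn : ¬ IsScal F c)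
    (hd : SI q (1 : F ≃+* F) d) (hdp : d ^ p = 1) (hdn : ¬ IsScal F d) :
    SPs F p (rho n F q).range c d := by
  have hp2 : p ≠ 2 := by omega
  have hnq := not_dvd_q hF hp hpF
  have hq2 := two_le hF
  obtain ⟨t, ht⟩ := exists_not_fixed hF
  have hε : t ^ q - t ≠ 0 := sub_ne_zero.2 ht
  have hεq : (t ^ q - t) ^ q = -(t ^ q - t) := by
    rw [sub_pow_q hF, pow_q_pow_q hF]
    ring
  by_cases h1 : p ∣ q - 1
  · obtain ⟨e, f, h⟩ := fr_split hF hp hp2 h1 hpF hc hcp hcn hε
    obtain ⟨e', f', h'⟩ := fr_split hF hp hp2 h1 hpF hd hdp hdn hε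
    have hq4 : 4 ≤ q := by have := Nat.le_of_dvd (by omega) h1; omega
    exact sps_plane hF hn hp (hR.h1 hq4) hε hεq hc hd h h' (isScal_of_pow_one hcp)
      (isScal_of_pow_one hdp)
  by_cases h2 : p ∣ q + 1
  · obtain ⟨s, hs, e, f, h⟩ := fr_eig hF hp hp2 h2 (by omega) hc hcp hcn ht
    obtain ⟨s', hs', e', f', h'⟩ := fr_eig hF hp hp2 h2 (by omega) hd hdp hdn ht
    have hq4 : 4 ≤ q := by have := Nat.le_of_dvd (by omega) h2; omega
    refine sps_of_smulA hc hd s s' ?_
    exact sps_plane hF hn hp (hR.h1 hq4) hε hεq (hc.smulA hs) (hd.smulA hs') h h'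
      (scal_pow_smulA hc s hcp) (scal_pow_smulA hd s' hdp)
  have h3 : ¬ p ∣ q ^ 2 - 1 := not_dvd_sq hp h1 h2
  have hm2 := two_le_ord hp hnq h3
  by_cases h4 : ∃ j, Odd j ∧ p ∣ q ^ j + 1
  · obtain ⟨j, hj, hpj⟩ := h4
    obtain ⟨P, hP, hPd⟩ := nt_one hF hp hpF hj hpj hc hcp hcn
    obtain ⟨P', hP', hPd'⟩ := nt_one hF hp hpF hj hpj hd hdp hdn
    have hdd := deg_data hp hp5 h3 hj hpj (by omega) rfl
    have hm3 : 3 ≤ orderOf ((q : ZMod p) ^ 2) := by omega
    rcases (hPd ▸ hP.le_n : orderOf ((q : ZMod p) ^ 2) ≤ n).lt_or_eq with hlt | heq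
    · obtain ⟨b, hb⟩ := blk_of_nt' hF hpF hc hP hm2 hPd
      obtain ⟨b', hb'⟩ := blk_of_nt' hF hpF hd hP' hm2 hPd'
      exact sps_blk hF hm3 hlt hp (hR.h3 _ hm3 hlt (by omega)) hc hd hb hb'
        (isScal_of_pow_one hcp) (isScal_of_pow_one hdp)
    · exact sps_full_AA hAA hRS hF hn h32 hp hpF heq.symm h2 hc hcp hcn hd hdp hdn
  · push Not at h4
    have hti := ti_lin hF hp hpF h4 hc hcp hcn rfl hm2
    exact sps_ti hF hp hm2 (hR.h2 _ hm2 (hti.le hF)) hc hd hti
      (ti_lin hF hp hpF h4 hd hdp hdn rfl hm2) (isScal_of_pow_one hcp) (isScal_of_pow_one hdp)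

theorem m_AC (hc : SI q (1 : F ≃+* F) c) (hcp : c ^ p = 1) (hcn : ¬ IsScal F c)
    (hτ : orderOf τ = p) (hd : SI q τ d) (hdp : d ^ p = 1) :
    SPs F p (rho n F q).range c d := by
  have hp2 : p ≠ 2 := by omega
  have hp3 : 3 ≤ p := by omega
  have hnq := not_dvd_q hF hp hpF
  have hq2 := two_le hF
  have hq4 : 4 ≤ q := four_le_of_theta hF hp hp5 hτ
  obtain ⟨t, htτ, ht⟩ := exists_tau hF hp hp2 hτ
  have hε : t ^ q - t ≠ 0 := sub_ne_zero.2 ht
  have hεq : (t ^ q - t) ^ q = -(t ^ q - t) := by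
    rw [sub_pow_q hF, pow_q_pow_q hF]
    ring
  by_cases h1 : p ∣ q - 1
  · obtain ⟨e, f, h⟩ := fr_split hF hp hp2 h1 hpF hc hcp hcn hε
    obtain ⟨e', f', h'⟩ := fr_semi hF hp hp3 hτ hd hdp (by omega) htτ ht
    exact sps_plane hF hn hp (hR.h1 hq4) hε hεq hc hd h h' (isScal_of_pow_one hcp)
      (isScal_of_pow_one hdp)
  by_cases h2 : p ∣ q + 1
  · obtain ⟨s, hs, e, f, h⟩ := fr_eig hF hp hp2 h2 (by omega) hc hcp hcn ht
    obtain ⟨e', f', h'⟩ := fr_semi hF hp hp3 hτ hd hdp (by omega) htτ ht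
    refine sps_of_scl hc hd (scl_smulA s c) (Scl.refl d) ?_
    exact sps_plane hF hn hp (hR.h1 hq4) hε hεq (hc.smulA hs) hd h h'
      (scal_pow_smulA hc s hcp) (isScal_of_pow_one hdp)
  have h3 : ¬ p ∣ q ^ 2 - 1 := not_dvd_sq hp h1 h2
  have hm2 := two_le_ord hp hnq h3
  by_cases h4 : ∃ j, Odd j ∧ p ∣ q ^ j + 1
  · obtain ⟨j, hj, hpj⟩ := h4
    obtain ⟨P, hP, hPd⟩ := nt_one hF hp hpF hj hpj hc hcp hcn
    have hdd := deg_data hp hp5 h3 hj hpj (by omega) rfl
    have hm3 : 3 ≤ orderOf ((q : ZMod p) ^ 2) := by omega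
    rcases (hPd ▸ hP.le_n : orderOf ((q : ZMod p) ^ 2) ≤ n).lt_or_eq with hlt | heq
    · obtain ⟨b, hb⟩ := blk_of_nt' hF hpF hc hP hm2 hPd
      obtain ⟨b', hb'⟩ := blk_fix (m := orderOf ((q : ZMod p) ^ 2)) hF hp hp2 hτ hd hdp
        (by omega) hlt.le
      exact sps_blk hF hm3 hlt hp (hR.h3 _ hm3 hlt (by omega)) hc hd hb hb'
        (isScal_of_pow_one hcp) (isScal_of_pow_one hdp)
    · refine ⟨apair_full_AC hRS hF hn ?_ hp hp2 hpF heq.symm h2 hτ hc hcp hcn hd hdp, ?_⟩
      · rintro ⟨h5, h6⟩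
        rcases hdd with h7 | ⟨-, -, h7⟩
        · omega
        · exact h7 h6
      have hri : RI q d := ri_semi hF hp hp3 hτ hd hdp hn
      rcases hdd with h5 | ⟨h5, h6, h7⟩
      · have hP5 : 5 ≤ P.natDegree := by omega
        exact bps_R hF (hP5.trans hP.le_n) hpF hc hd (hP.d5 hF hpF hc hP5) hri
      · obtain ⟨u0, u1, -, -, -, hu0, hβ⟩ := hri
        obtain ⟨ν, hν0, hν1, hντ, hνq⟩ := exists_nu hF hp hp2 hτ h7
        exact bps_E hF hn hc hd (hP.d3 hF hpF hc (by omega)) hu0 hβ hν0 hνq hντ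
          (nu_pow hp h1 (by omega) hν0 hν1 hνq)
  · push Not at h4
    have hti := ti_lin hF hp hpF h4 hc hcp hcn rfl hm2
    exact sps_ti hF hp hm2 (hR.h2 _ hm2 (hti.le hF)) hc hd hti
      (ti_semi hF hp hp3 hτ hd hdp (by omega) (hti.le hF)) (isScal_of_pow_one hcp)
      (isScal_of_pow_one hdp)

theorem m_CC (hσ : orderOf σ = p) (hc : SI q σ c) (hcp : c ^ p = 1)
    (hτ : orderOf τ = p) (hd : SI q τ d) (hdp : d ^ p = 1) :
    SPs F p (rho n F q).range c d := by
  have hq4 : 4 ≤ q := four_le_of_theta hF hp hp5 hτ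
  obtain ⟨t, htσ, ht⟩ := exists_tau hF hp (by omega) hσ
  obtain ⟨j, hj⟩ := exists_pow_inv hp hτ hσ
  have htτ : τ t = t := by
    have h1 : ∀ m : ℕ, (σ ^ m) t = t := by
      intro m
      induction m with
      | zero => rfl
      | succ m ih =>
        rw [pow_succ]
        change (σ ^ m) (σ t) = t
        rw [htσ, ih]
    have h2 := h1 j
    rw [hj] at h2
    have h3 : τ (τ⁻¹ t) = t := RingEquiv.apply_symm_apply τ t
    rwa [h2] at h3
  have hε : t ^ q - t ≠ 0 := sub_ne_zero.2 ht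
  have hεq : (t ^ q - t) ^ q = -(t ^ q - t) := by
    rw [sub_pow_q hF, pow_q_pow_q hF]
    ring
  obtain ⟨e, f, h⟩ := fr_semi hF hp (by omega) hσ hc hcp (by omega) htσ ht
  obtain ⟨e', f', h'⟩ := fr_semi hF hp (by omega) hτ hd hdp (by omega) htτ ht
  exact sps_plane hF hn hp (hR.h1 hq4) hε hεq hc hd h h' (isScal_of_pow_one hcp)
    (isScal_of_pow_one hdp)

omit h32 hAA hRS hR in
/-- A `p`-dimensional block for an element of type B. -/
theorem blk_B (hc : SI q (1 : F ≃+* F) c) (hpq : p ∣ q + 1)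
    (h : ∃ l : F, l * l ^ q = 1 ∧ (∀ v, (c ^ p) v = l • v) ∧ ∀ t : F, t ^ p ≠ l) :
    p ≤ n ∧ ∃ b : Fin p → (Fin n → F), Blk q c b := by
  obtain ⟨l, hll, hl, hlp⟩ := h
  have hP := nt_two hF (by omega) hp (by omega) hpq hc hll hl hlp
  have hdeg : (X ^ p - C l : F[X]).natDegree = p := natDegree_X_pow_sub_C
  obtain ⟨b, hb⟩ := blk_of_nt' hF hpF hc hP (by omega) hdeg
  exact ⟨by rw [← hdeg]; exact hP.le_n, b, hb⟩

omit h32 hAA in
/-- Type B for `n > p`. -/
theorem m_B_lt (hpn : p < n) (hpq : p ∣ q + 1) (hc : SI q (1 : F ≃+* F) c)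
    (hcp : IsScal F (c ^ p))
    (h : ∃ l : F, l * l ^ q = 1 ∧ (∀ v, (c ^ p) v = l • v) ∧ ∀ t : F, t ^ p ≠ l)
    (hd : SI q τ d) (hdp : IsScal F (d ^ p)) (hdn : ¬ IsScal F d)
    (hτ : τ = 1 ∨ orderOf τ = p) : SPs F p (rho n F q).range c d := by
  have hp2 : p ≠ 2 := by omega
  have hn0 : 0 < n := by omega
  obtain ⟨-, b, hb⟩ := blk_B hF hn hp hp5 hpF hc hpq h
  have hrow := hR.h3 p (by omega) hpn (by omega)
  rcases hτ with rfl | hτ
  · rcases scale_lin hF hn0 hp hp2 hd hdp with ⟨t, ht, h2⟩ | ⟨hpq', h2⟩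
    · refine sps_of_scl hc hd (Scl.refl c) (scl_smulA t d) ?_
      obtain ⟨b', hb'⟩ := blk_eig (m := p) hF hp hpq (hd.smulA ht) h2 (not_isScal_smulA hdn)
        (by omega) hpn.le
      exact sps_blk hF (by omega) hpn hp hrow hc (hd.smulA ht) hb hb' hcp (isScal_of_pow_one h2)
    · obtain ⟨-, b', hb'⟩ := blk_B hF hn hp hp5 hpF hd hpq' h2
      exact sps_blk hF (by omega) hpn hp hrow hc hd hb hb' hcp hdp
  · obtain ⟨t, ht, h2⟩ := scale_semi hF hn0 hp hp2 hτ hd hdp
    refine sps_of_scl hc hd (Scl.refl c) (scl_smulA t d) ?_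
    obtain ⟨b', hb'⟩ := blk_fix (m := p) hF hp hp2 hτ (hd.smulA ht) h2 (by omega) hpn.le
    exact sps_blk hF (by omega) hpn hp hrow hc (hd.smulA ht) hb hb' hcp (isScal_of_pow_one h2)

omit hAA in
/-- Type B. -/
theorem m_B (hpq : p ∣ q + 1) (hc : SI q (1 : F ≃+* F) c)
    (hcp : IsScal F (c ^ p)) (hcn : ¬ IsScal F c)
    (h : ∃ l : F, l * l ^ q = 1 ∧ (∀ v, (c ^ p) v = l • v) ∧ ∀ t : F, t ^ p ≠ l)
    (hd : SI q τ d) (hdp : IsScal F (d ^ p)) (hdn : ¬ IsScal F d)
    (hτ : τ = 1 ∨ orderOf τ = p) : SPs F p (rho n F q).range c d := by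
  obtain ⟨hpn, -⟩ := blk_B hF hn hp hp5 hpF hc hpq h
  rcases hpn.lt_or_eq with hlt | rfl
  · exact m_B_lt hF hn hp hp5 hpF hRS hR hlt hpq hc hcp h hd hdp hdn hτ
  · have := psu_simple hF hn h32
    exact sps_TB (psu_na hF hn h32) hRS hF hp hp5 hpF hc hcp hcn hd hdp hdn
      (Or.inl ⟨hc, hpq, h⟩)

/-- **All pairs of semilinear isometries of order `p` modulo scalars.** -/
theorem sps_main (hc : SI q σ c) (hcp : IsScal F (c ^ p)) (hcn : ¬ IsScal F c)
    (hd : SI q τ d) (hdp : IsScal F (d ^ p)) (hdn : ¬ IsScal F d) :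
    SPs F p (rho n F q).range c d := by
  have hp2 : p ≠ 2 := by omega
  have hn0 : 0 < n := by omega
  have : Fact p.Prime := ⟨hp⟩
  have hord : ∀ {θ : F ≃+* F} {x : Equiv.Perm (Fin n → F)}, SI q θ x → IsScal F (x ^ p) →
      θ = 1 ∨ orderOf θ = p := by
    intro θ x hx ⟨a, ha⟩
    have h1 : θ ^ p = 1 := by
      have hv : ∃ v : Fin n → F, v ≠ 0 := ⟨fun _ => 1, fun h => one_ne_zero (congrFun h ⟨0, hn0⟩)⟩
      obtain ⟨v, hv⟩ := hv
      have ha0 : a ≠ 0 := by
        rintro rfl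
        apply hv
        have h2 := ha v
        rw [zero_smul] at h2
        exact (x ^ p).injective (h2.trans (hx.pow p).semi.zero.symm)
      ext b
      have h2 := (hx.pow p).semi.smul b v
      rw [ha, ha, smul_smul, smul_smul, mul_comm a b] at h2
      have h3 : (b * a - (θ ^ p) b * a) • v = 0 := by rw [sub_smul, h2, sub_self]
      have h4 := (smul_eq_zero.1 h3).resolve_right hv
      have h5 : b * a = (θ ^ p) b * a := sub_eq_zero.1 h4
      exact (mul_right_cancel₀ ha0 h5).symm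
    by_cases h : θ = 1
    · exact Or.inl h
    · exact Or.inr (orderOf_eq_prime h1 h)
  have hos := hord hc hcp
  have hot := hord hd hdp
  -- type B
  have hB : ∀ {σ τ : F ≃+* F} {c d : Equiv.Perm (Fin n → F)}, p ∣ q + 1 →
      (∃ l : F, l * l ^ q = 1 ∧ (∀ v, (c ^ p) v = l • v) ∧ ∀ t : F, t ^ p ≠ l) → SI q σ c →
      σ = 1 → IsScal F (c ^ p) → ¬ IsScal F c → SI q τ d → IsScal F (d ^ p) → ¬ IsScal F d →
      (τ = 1 ∨ orderOf τ = p) → SPs F p (rho n F q).range c d := by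
    rintro σ τ c d hpq h hc rfl hcp hcn hd hdp hdn hτ
    exact m_B hF hn hp hp5 hpF h32 hRS hR hpq hc hcp hcn h hd hdp hdn hτ
  have hot' := hot
  have hos' := hos
  rcases hos with rfl | hσ <;> rcases hot with rfl | hτ
  · rcases scale_lin hF hn0 hp hp2 hc hcp with ⟨s, hs, h1⟩ | ⟨hpq, h1⟩
    · rcases scale_lin hF hn0 hp hp2 hd hdp with ⟨t, ht, h2⟩ | ⟨hpq', h2⟩
      · exact sps_of_smulA hc hd s t (m_AA hF hn hp hp5 hpF h32 hAA hRS hR (hc.smulA hs) h1
          (not_isScal_smulA hcn) (hd.smulA ht) h2 (not_isScal_smulA hdn))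
      · exact sps_symm hc (hB hpq' h2 hd rfl hdp hdn hc hcp hcn hos')
    · exact hB hpq h1 hc rfl hcp hcn hd hdp hdn hot'
  · rcases scale_lin hF hn0 hp hp2 hc hcp with ⟨s, hs, h1⟩ | ⟨hpq, h1⟩
    · obtain ⟨t, ht, h2⟩ := scale_semi hF hn0 hp hp2 hτ hd hdp
      exact sps_of_smulA hc hd s t (m_AC hF hn hp hp5 hpF h32 hAA hRS hR (hc.smulA hs) h1
        (not_isScal_smulA hcn) hτ (hd.smulA ht) h2)
    · exact hB hpq h1 hc rfl hcp hcn hd hdp hdn hot'
  · apply sps_symm hc
    rcases scale_lin hF hn0 hp hp2 hd hdp with ⟨s, hs, h1⟩ | ⟨hpq, h1⟩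
    · obtain ⟨t, ht, h2⟩ := scale_semi hF hn0 hp hp2 hσ hc hcp
      exact sps_of_smulA hd hc s t (m_AC hF hn hp hp5 hpF h32 hAA hRS hR (hd.smulA hs) h1
        (not_isScal_smulA hdn) hσ (hc.smulA ht) h2)
    · exact hB hpq h1 hd rfl hdp hdn hc hcp hcn hos'
  · obtain ⟨s, hs, h1⟩ := scale_semi hF hn0 hp hp2 hσ hc hcp
    obtain ⟨t, ht, h2⟩ := scale_semi hF hn0 hp hp2 hτ hd hdp
    exact sps_of_smulA hc hd s t (m_CC hF hn hp hp5 hpF h32 hAA hRS hR hσ (hc.smulA hs) h1 hτ
      (hd.smulA ht) h2)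

/-- **The strong row of `PSU_n(q)`, cross characteristic, from the rows of the smaller groups.** -/
theorem srow_psu : SRow p (PSU n F q) :=
  srow_SU hF hn h32 hp fun _ _ _ _ hy hz hyp hyn hzp hzn =>
    sps_main hF hn hp hp5 hpF h32 hAA hRS hR hy hyp hyn hz hzp hzn

end core

end Cfsg.Agent.H43.SP
end

-- part: H236/S5U/BelowPSU
section
/-!
# S2274: using `SBelow` for `PSU_m(q)`

* `card_psu_lt` : `|PSU_m(q)| < |PSU_n(q)|` for `2 ≤ m < n`;
* `below_psu` : the strong row of `PSU_m(q)` from the rows of the groups smaller than `PSU_n(q)`;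
* `rsHyp_down` : the solvable Baer-Suzuki theorem in the universe 0.
-/

set_option autoImplicit false

universe u

namespace Cfsg.Agent.H236.S5U

open Cfsg Cfsg.Agent.H533.T5 Cfsg.Agent.H132.S5

theorem card_psu_succ {F : Type*} [Field F] [Fintype F] {q : ℕ} (hF : Fintype.card F = q ^ 2) {n : ℕ} (hn : 2 ≤ n)
    (hfin : 0 < Nat.card (PSU n F q)) : Nat.card (PSU n F q) < Nat.card (PSU (n + 1) F q) := by
  have hq : 2 ≤ q := by
    have h1 : 1 < Fintype.card F := Fintype.one_lt_card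
    rw [hF] at h1
    by_contra hcon
    have h2 : q ≤ 1 := by omega
    have h3 : q ^ 2 ≤ 1 ^ 2 := Nat.pow_le_pow_left h2 2
    omega
  have h1 := S0280.result hF n hn
  have h2 := S0280.result hF (n + 1) (by omega)
  rw [Finset.prod_range_succ] at h2
  set A := Nat.card (PSU n F q) with hA
  set B := Nat.card (PSU (n + 1) F q) with hB
  set X := ∏ i ∈ Finset.range n, (if Even i then q ^ (i + 1) + 1 else q ^ (i + 1) - 1) with hX
  set Y := (if Even n then q ^ (n + 1) + 1 else q ^ (n + 1) - 1) with hY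
  have he : (n + 1) * (n + 1 - 1) / 2 = n + n * (n - 1) / 2 := by
    have : (n + 1) * (n + 1 - 1) = n * 2 + n * (n - 1) := by
      obtain ⟨m, rfl⟩ : ∃ m, n = m + 1 := ⟨n - 1, by omega⟩
      simp only [Nat.add_sub_cancel]
      ring
    rw [this, Nat.mul_comm n 2, Nat.mul_add_div (by norm_num)]
  rw [he, pow_add] at h2
  have h3 : Nat.gcd (n + 1) (q + 1) * ((q + 1) * B) = q ^ n * Y * (Nat.gcd n (q + 1) * ((q + 1) * A)) := by
    rw [h1, h2]; ring
  have hg1 : Nat.gcd (n + 1) (q + 1) ≤ q + 1 := Nat.gcd_le_right _ (by omega)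
  have hg0 : 1 ≤ Nat.gcd n (q + 1) := Nat.gcd_pos_of_pos_left _ (by omega)
  have h4 : (q + 1) * B * (q + 1) ≥ q ^ n * Y * ((q + 1) * A) := by
    calc (q + 1) * B * (q + 1) ≥ Nat.gcd (n + 1) (q + 1) * ((q + 1) * B) := by
          rw [mul_comm]; exact Nat.mul_le_mul_right _ hg1
      _ = q ^ n * Y * (Nat.gcd n (q + 1) * ((q + 1) * A)) := h3
      _ ≥ q ^ n * Y * (1 * ((q + 1) * A)) :=
          Nat.mul_le_mul_left _ (Nat.mul_le_mul_right _ hg0)
      _ = _ := by rw [one_mul]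
  have h5 : q ^ n * Y > q + 1 := by
    have e1 : q ^ 2 ≤ q ^ n := Nat.pow_le_pow_right (by omega) hn
    have e2 : q + 2 ≤ q ^ 2 := by nlinarith only [hq]
    have e3 : 1 ≤ Y := by
      have : 2 ^ 1 ≤ q ^ (n + 1) :=
        le_trans (Nat.pow_le_pow_left hq 1) (Nat.pow_le_pow_right (by omega) (by omega))
      rw [hY]
      split_ifs <;> omega
    have e4 : q ^ n * 1 ≤ q ^ n * Y := Nat.mul_le_mul_left _ e3
    omega
  by_contra hcon
  push Not at hcon
  have h6 : (q + 1) * B * (q + 1) ≤ (q + 1) * ((q + 1) * A) := by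
    calc (q + 1) * B * (q + 1) = (q + 1) * ((q + 1) * B) := by ring
      _ ≤ _ := Nat.mul_le_mul_left _ (Nat.mul_le_mul_left _ hcon)
  have h7 : (q + 1) * ((q + 1) * A) < q ^ n * Y * ((q + 1) * A) :=
    Nat.mul_lt_mul_of_pos_right h5 (Nat.mul_pos (by omega) hfin)
  omega

theorem finite_psu {F : Type*} [Field F] [Fintype F] (n q : ℕ) : Finite (PSU n F q) := by
  have h1 : Finite (SU n F q) := by
    unfold SU
    infer_instance
  unfold PSU
  infer_instance

theorem card_psu_lt {F : Type*} [Field F] [Fintype F] {q : ℕ} (hF : Fintype.card F = q ^ 2) {m n : ℕ} (hm : 2 ≤ m)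
    (hmn : m < n) : Nat.card (PSU m F q) < Nat.card (PSU n F q) := by
  have hpos : ∀ k, 0 < Nat.card (PSU k F q) := fun k => by
    have := finite_psu (F := F) k q
    exact Nat.card_pos
  induction n, hmn using Nat.le_induction with
  | base => exact card_psu_succ hF hm (hpos m)
  | succ n hmn ih => exact ih.trans (card_psu_succ hF (by omega) (hpos n))

/-- The strong row of `PSU_m(q)`, `m < n`. -/
theorem below_psu {p : ℕ} {S : Type u} [Group S] [Finite S] {F : Type} [Field F] [Fintype F] {n q : ℕ}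
    (hF : Fintype.card F = q ^ 2) {m : ℕ} (hm : 3 ≤ m) (hmn : m < n) (h32 : ¬ (m = 3 ∧ q = 2))
    (e : S ≃* PSU n F q) (hlt : SBelow.{u} p (Nat.card S)) : SRow p (PSU m F q) := by
  have hfin := finite_psu (F := F) m q
  have hs : IsSimpleGroup (PSU m F q) :=
    Cfsg.Agent.LieClassical.HermSimple.isSimpleGroup_of_perfect hF hm
      (Cfsg.Agent.LieClassical.HermPerfect.commutator_SU_eq_top hF hm h32)
  have hna : ¬ IsMulCommutative (PSU m F q) := by
    intro h
    have h1 : commutator (PSU m F q) = ⊥ := by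
      rw [commutator_eq_bot_iff_center_eq_top, Subgroup.eq_top_iff']
      intro x
      rw [Subgroup.mem_center_iff]
      exact fun y => h.is_comm.comm y x
    have h2 : commutator (SU m F q) = ⊤ :=
      Cfsg.Agent.LieClassical.HermPerfect.commutator_SU_eq_top hF hm h32
    have h3 : commutator (PSU m F q) = ⊤ := by
      have hsurj : Function.Surjective (QuotientGroup.mk' (Subgroup.center (SU m F q))) :=
        QuotientGroup.mk'_surjective _
      have := congrArg (Subgroup.map (QuotientGroup.mk' (Subgroup.center (SU m F q)))) h2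
      rw [commutator_def, Subgroup.map_commutator, Subgroup.map_top_of_surjective _ hsurj] at this
      exact this
    rw [h3] at h1
    exact top_ne_bot h1
  refine Cfsg.Agent.H716.S5.SBelow.row hlt hna ?_
  rw [Nat.card_congr e.toEquiv]
  exact card_psu_lt hF (by omega) hmn

/-- the solvable Baer-Suzuki theorem in the universe 0 -/
theorem rsHyp_down {p : ℕ} (h : RSHyp.{u} p) : RSHyp.{0} p := by
  intro K _ _ x hx hgx
  let e : ULift.{u} K ≃* K := MulEquiv.ulift
  have h1 := h (ULift.{u} K) (e.symm x) (by rw [MulEquiv.orderOf_eq, hx]) (fun g => by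
    have h2 := hgx (e g)
    have h3 : (Subgroup.closure ({e.symm x, g * e.symm x * g⁻¹} : Set (ULift.{u} K))).map (e : ULift.{u} K →* K) =
        Subgroup.closure ({x, e g * x * (e g)⁻¹} : Set K) := by
      rw [MonoidHom.map_closure]
      congr 1
      rw [Set.image_pair]
      show ({e (e.symm x), e (g * e.symm x * g⁻¹)} : Set K) = _
      rw [map_mul, map_mul, map_inv, e.apply_symm_apply]
    rw [← h3] at h2
    exact Group.isSolvable_of_isSolvable_injective
      (f := ((Subgroup.closure ({e.symm x, g * e.symm x * g⁻¹} : Set (ULift.{u} K))).equivMapOfInjective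
        (e : ULift.{u} K →* K) e.injective).toMonoidHom) (MulEquiv.injective _))
  have h2 : Subgroup.closure {y : K | ∃ g : K, y = g * x * g⁻¹} =
      (Subgroup.closure {y : ULift.{u} K | ∃ g : ULift.{u} K, y = g * e.symm x * g⁻¹}).map (e : ULift.{u} K →* K) := by
    rw [MonoidHom.map_closure]
    congr 1
    ext y
    constructor
    · rintro ⟨g, rfl⟩
      refine ⟨e.symm g * e.symm x * (e.symm g)⁻¹, ⟨e.symm g, rfl⟩, ?_⟩
      show e (e.symm g * e.symm x * (e.symm g)⁻¹) = _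
      rw [map_mul, map_mul, map_inv, e.apply_symm_apply, e.apply_symm_apply]
    · rintro ⟨_, ⟨g, rfl⟩, rfl⟩
      refine ⟨e g, ?_⟩
      show e (g * e.symm x * g⁻¹) = _
      rw [map_mul, map_mul, map_inv, e.apply_symm_apply]
  rw [h2]
  exact Group.isSolvable_of_surjective (f := (e : ULift.{u} K →* K).subgroupMap _)
    ((e : ULift.{u} K →* K).subgroupMap_surjective _)

end Cfsg.Agent.H236.S5U
end

-- part: H43/SP/BelowPSL
section
/-!
# S2274, row `PSU`: the rows of `PSL_2(q)` and `PSL_m(q ^ 2)` from the rows of the groups smaller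
than `PSU_n(q)`
-/

set_option autoImplicit false

universe u

namespace Cfsg.Agent.H43.SP

open Cfsg Cfsg.Agent.H533.T5 Cfsg.Agent.H132.S5 Cfsg.Agent.H957.T5U Cfsg.Agent.H716.S5
open Cfsg.Agent.LieClassical.HermBasic

theorem prod_split (q m : ℕ) :
    ∏ i ∈ Finset.range (2 * m), (if Even i then q ^ (i + 1) + 1 else q ^ (i + 1) - 1) =
      (∏ i ∈ Finset.range m, ((q ^ 2) ^ (i + 1) - 1)) * ∏ j ∈ Finset.range m, (q ^ (2 * j + 1) + 1) := by
  induction m with
  | zero => simp only [_root_.MulZeroClass.mul_zero, _root_.Finset.range_zero, _root_.Finset.prod_empty, _root_.mul_one]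
  | succ m ih =>
    rw [show 2 * (m + 1) = 2 * m + 1 + 1 by ring, Finset.prod_range_succ, Finset.prod_range_succ,
      ih, Finset.prod_range_succ _ m, Finset.prod_range_succ _ m, if_pos (even_two_mul m),
      if_neg (by rw [Nat.not_even_iff_odd]; exact odd_two_mul_add_one m), ← pow_mul,
      show 2 * (m + 1) = 2 * m + 1 + 1 by ring]
    ring

theorem finite_psl {F : Type*} [Field F] [Finite F] (m : ℕ) :
    Finite (Matrix.ProjectiveSpecialLinearGroup (Fin m) F) := by
  unfold Matrix.ProjectiveSpecialLinearGroup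
  infer_instance

theorem not_comm_of_perfect {G : Type*} [Group G] (hs : IsSimpleGroup G)
    (h : commutator G = ⊤) : ¬ IsMulCommutative G := by
  intro hc
  have h5 : commutator G = ⊥ := by
    rw [commutator_eq_bot_iff_center_eq_top, Subgroup.eq_top_iff']
    intro x
    rw [Subgroup.mem_center_iff]
    exact fun y => hc.is_comm.comm y x
  rw [h] at h5
  exact top_ne_bot h5

theorem psl_simple {F : Type*} [Field F] [Fintype F] (h3 : 3 < Fintype.card F) {m : ℕ}
    (hm : 2 ≤ m) : IsSimpleGroup (Matrix.ProjectiveSpecialLinearGroup (Fin m) F) ∧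
      ¬ IsMulCommutative (Matrix.ProjectiveSpecialLinearGroup (Fin m) F) := by
  have h1 : IsSimpleGroup (Matrix.ProjectiveSpecialLinearGroup (Fin m) F) ∧
      commutator (Matrix.SpecialLinearGroup (Fin m) F) = ⊤ := by
    rcases hm.eq_or_lt with rfl | hm
    · exact ⟨TwoFusion.SLTwoFacts.isSimpleGroup_psl h3, TwoFusion.SLTwoFacts.commutator_eq_top h3⟩
    · exact ⟨Cfsg.Agent.LieClassical.SLGen.psl_isSimpleGroup (by rw [Fintype.card_fin]; omega),
        Cfsg.Agent.LieClassical.SLGen.commutator_eq_top (by rw [Fintype.card_fin]; omega)⟩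
  refine ⟨h1.1, not_comm_of_perfect h1.1 ?_⟩
  exact Cfsg.Agent.H897.T5Sub.commutator_of_surjective h1.2 (f := QuotientGroup.mk' _)
    (QuotientGroup.mk'_surjective _)

theorem card_psl_lt_psu {F : Type*} [Field F] [Fintype F] {q : ℕ} (hF : Fintype.card F = q ^ 2)
    {m : ℕ} (hm : 2 ≤ m) :
    Nat.card (Matrix.ProjectiveSpecialLinearGroup (Fin m) F) < Nat.card (PSU (2 * m) F q) := by
  have hq : 2 ≤ q := by
    have h1 : 1 < Fintype.card F := Fintype.one_lt_card
    rw [hF] at h1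
    by_contra hcon
    have h2 : q ≤ 1 := by omega
    have h3 : q ^ 2 ≤ 1 ^ 2 := Nat.pow_le_pow_left h2 2
    omega
  have h1 := S0280.result hF (2 * m) (by omega)
  have h2 := S0243.result hF m hm
  rw [prod_split] at h1
  rw [prod_gl] at h2
  set A := Nat.card (PSU (2 * m) F q) with hA
  set B := Nat.card (Matrix.ProjectiveSpecialLinearGroup (Fin m) F) with hB
  set X := ∏ i ∈ Finset.range m, ((q ^ 2) ^ (i + 1) - 1) with hX
  set Y := ∏ j ∈ Finset.range m, (q ^ (2 * j + 1) + 1) with hY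
  have hq1 : q + 1 < q ^ 2 := by nlinarith only [hq]
  have hX0 : 0 < X := by
    refine Finset.prod_pos fun i _ => ?_
    have : q ^ 2 ≤ (q ^ 2) ^ (i + 1) := Nat.le_self_pow (by omega) _
    omega
  have hY0 : 0 < Y := Finset.prod_pos fun i _ => Nat.succ_pos _
  have e1 : 2 * m * (2 * m - 1) / 2 = m * (m - 1) + m ^ 2 := by
    obtain ⟨k, rfl⟩ : ∃ k, m = k + 1 := ⟨m - 1, by omega⟩
    have : 2 * (k + 1) * (2 * (k + 1) - 1) = 2 * ((k + 1) * (k + 1 - 1) + (k + 1) ^ 2) := by
      simp only [Nat.add_sub_cancel, show 2 * (k + 1) - 1 = 2 * k + 1 by omega]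
      ring
    rw [this, Nat.mul_div_cancel_left _ (by norm_num)]
  have e2 : 2 * (m * (m - 1) / 2) = m * (m - 1) :=
    Nat.mul_div_cancel' (Nat.even_mul_pred_self m).two_dvd
  rw [e1, pow_add] at h1
  rw [← pow_mul, e2] at h2
  have hg1 : Nat.gcd (2 * m) (q + 1) ≤ q + 1 := Nat.gcd_le_right _ (by omega)
  have hg0 : 1 ≤ Nat.gcd m (q ^ 2 - 1) := Nat.gcd_pos_of_pos_left _ (by omega)
  have hB1 : B ≤ q ^ (m * (m - 1)) * X := by
    rw [← h2]
    calc B = 1 * (1 * B) := by ring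
      _ ≤ Nat.gcd m (q ^ 2 - 1) * ((q ^ 2 - 1) * B) :=
        Nat.mul_le_mul hg0 (Nat.mul_le_mul_right _ (by omega))
  by_contra hcon
  push Not at hcon
  have h3 : q ^ (m * (m - 1)) * q ^ m ^ 2 * (X * Y) ≤ (q + 1) ^ 2 * (q ^ (m * (m - 1)) * X) := by
    rw [← h1]
    calc Nat.gcd (2 * m) (q + 1) * ((q + 1) * A) ≤ (q + 1) * ((q + 1) * B) :=
          Nat.mul_le_mul hg1 (Nat.mul_le_mul_left _ hcon)
      _ = (q + 1) ^ 2 * B := by ring
      _ ≤ _ := Nat.mul_le_mul_left _ hB1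
  have h4 : (q + 1) ^ 2 < q ^ m ^ 2 * Y := by
    calc (q + 1) ^ 2 < (q ^ 2) ^ 2 := Nat.pow_lt_pow_left hq1 (by norm_num)
      _ = q ^ (2 ^ 2) := by rw [← pow_mul]; norm_num
      _ ≤ q ^ m ^ 2 := Nat.pow_le_pow_right (by omega) (Nat.pow_le_pow_left hm 2)
      _ ≤ q ^ m ^ 2 * Y := Nat.le_mul_of_pos_right _ hY0
  have h5 : 0 < q ^ (m * (m - 1)) * X := Nat.mul_pos (pow_pos (by omega) _) hX0
  have h6 := Nat.mul_lt_mul_of_pos_right h4 h5
  have h7 : q ^ m ^ 2 * Y * (q ^ (m * (m - 1)) * X) = q ^ (m * (m - 1)) * q ^ m ^ 2 * (X * Y) := by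
    ring
  omega

theorem card_psl2_lt_psu3 {F K : Type*} [Field F] [Fintype F] [Field K] [Fintype K] {q : ℕ}
    (hF : Fintype.card F = q ^ 2) (hK : Fintype.card K = q) :
    Nat.card (Matrix.ProjectiveSpecialLinearGroup (Fin 2) K) < Nat.card (PSU 3 F q) := by
  have hq : 2 ≤ q := by
    have h1 : 1 < Fintype.card K := Fintype.one_lt_card
    omega
  have h1 := S0280.result hF 3 (by omega)
  have h2 := S0243.result hK 2 le_rfl
  rw [prod_gl] at h2
  simp only [Finset.prod_range_succ, Finset.prod_range_zero] at h1 h2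
  set A := Nat.card (PSU 3 F q) with hA
  set B := Nat.card (Matrix.ProjectiveSpecialLinearGroup (Fin 2) K) with hB
  rw [if_pos (by decide), if_neg (by decide), if_pos (by decide)] at h1
  have hq1 : q + 1 < q ^ 2 * (q ^ 3 + 1) := by
    have h3 : q + 1 < q ^ 2 := by nlinarith only [hq]
    calc q + 1 < q ^ 2 := h3
      _ ≤ q ^ 2 * (q ^ 3 + 1) := Nat.le_mul_of_pos_right _ (Nat.succ_pos _)
  obtain ⟨r, hr⟩ : ∃ r, r = q - 1 := ⟨_, rfl⟩
  obtain ⟨s, hs⟩ : ∃ s, s = q ^ 2 - 1 := ⟨_, rfl⟩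
  have hs0 : 0 < s := by
    have : q ≤ q ^ 2 := Nat.le_self_pow (by norm_num) q
    omega
  have h1' : Nat.gcd 3 (q + 1) * ((q + 1) * A) = q ^ 3 * ((q + 1) * s * (q ^ 3 + 1)) := by
    rw [h1, hs]
    norm_num only [_root_.pow_one, _root_.one_mul]
  have h2' : Nat.gcd 2 r * (r * B) = q * (r * s) := by
    rw [hr, h2, hs]
    norm_num only [_root_.pow_one, _root_.one_mul]
  have hg1 : Nat.gcd 3 (q + 1) ≤ q + 1 := Nat.gcd_le_right _ (by omega)
  have hg0 : 1 ≤ Nat.gcd 2 r := Nat.gcd_pos_of_pos_left _ (by omega)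
  have hr0 : 0 < r := by omega
  have hB1 : B ≤ q * s := by
    have : r * B ≤ r * (q * s) := by
      calc r * B = 1 * (r * B) := by ring
        _ ≤ Nat.gcd 2 r * (r * B) := Nat.mul_le_mul_right _ hg0
        _ = r * (q * s) := by rw [h2']; ring
    exact Nat.le_of_mul_le_mul_left this hr0
  by_contra hcon
  push Not at hcon
  have h3 : (q + 1) * (q * s) * (q ^ 2 * (q ^ 3 + 1)) ≤ (q + 1) * (q * s) * (q + 1) := by
    calc (q + 1) * (q * s) * (q ^ 2 * (q ^ 3 + 1)) = q ^ 3 * ((q + 1) * s * (q ^ 3 + 1)) := by ring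
      _ = Nat.gcd 3 (q + 1) * ((q + 1) * A) := h1'.symm
      _ ≤ (q + 1) * ((q + 1) * (q * s)) :=
        Nat.mul_le_mul hg1 (Nat.mul_le_mul_left _ (hcon.trans hB1))
      _ = _ := by ring
  have h4 := Nat.le_of_mul_le_mul_left h3
    (Nat.mul_pos (Nat.succ_pos _) (Nat.mul_pos (by omega) hs0))
  omega

theorem below_psl2 {p : ℕ} {S : Type u} [Group S] [Finite S] {F : Type} [Field F] [Fintype F]
    {n q : ℕ} (hF : Fintype.card F = q ^ 2) (hn : 3 ≤ n) (hq : 4 ≤ q) (e : S ≃* PSU n F q)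
    (hlt : SBelow.{u} p (Nat.card S)) :
    SRow p (Matrix.ProjectiveSpecialLinearGroup (Fin 2) (Kq hF)) := by
  classical
  have : Fintype (Kq hF) := Fintype.ofFinite _
  have hK : Fintype.card (Kq hF) = q := by
    rw [← Nat.card_eq_fintype_card]
    exact card_fixed hF
  obtain ⟨hs, hna⟩ := psl_simple (F := Kq hF) (by omega) (m := 2) le_rfl
  have := finite_psl (F := Kq hF) 2
  refine SBelow.row hlt hna ?_
  rw [Nat.card_congr e.toEquiv]
  refine (card_psl2_lt_psu3 hF hK).trans_le ?_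
  rcases hn.eq_or_lt with rfl | hn
  · exact le_rfl
  · exact (Cfsg.Agent.H236.S5U.card_psu_lt hF (by norm_num) hn).le

theorem below_psl {p : ℕ} {S : Type u} [Group S] [Finite S] {F : Type} [Field F] [Fintype F]
    {n q : ℕ} (hF : Fintype.card F = q ^ 2) {m : ℕ} (hm : 2 ≤ m) (hmn : 2 * m ≤ n)
    (e : S ≃* PSU n F q) (hlt : SBelow.{u} p (Nat.card S)) :
    SRow p (Matrix.ProjectiveSpecialLinearGroup (Fin m) F) := by
  have h3 : 3 < Fintype.card F := by
    have := two_le hF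
    rw [hF]
    nlinarith only [this]
  obtain ⟨hs, hna⟩ := psl_simple h3 hm
  have := finite_psl (F := F) m
  refine SBelow.row hlt hna ?_
  rw [Nat.card_congr e.toEquiv]
  refine (card_psl_lt_psu hF hm).trans_le ?_
  rcases hmn.eq_or_lt with rfl | hmn
  · exact le_rfl
  · exact (Cfsg.Agent.H236.S5U.card_psu_lt hF (by omega) hmn).le

end Cfsg.Agent.H43.SP
end

-- part: H43/SP/Cross
section
/-!
# S2274: the strong row of `PSU_n(q)`, `n ≥ 3`, `p` not dividing `q`
-/

set_option autoImplicit false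

universe u

namespace Cfsg.Agent.H43.SP

open Cfsg Cfsg.Agent.H533.T5 Cfsg.Agent.H132.S5 Cfsg.Agent.H957.T5U Cfsg.Agent.H106.MT

/-- **`PSU_n(q)`, `n ≥ 3`, `p` not dividing `q`.** -/
theorem psu_cross {p : ℕ} (hp : p.Prime) (hp5 : 5 ≤ p) (B : SBox.{u} p) :
    ∀ (S : Type u) [Group S] [Finite S] [IsSimpleGroup S], ¬ IsMulCommutative S →
    ∀ (F : Type) [Field F] [Fintype F] (n q : ℕ), Fintype.card F = q ^ 2 → 3 ≤ n →
      ¬ (n = 3 ∧ q = 2) → ¬ p ∣ q →
      (S ≃* PSU n F q) → SBelow.{u} p (Nat.card S) → SRow p S := by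
  intro S _ _ _ _ F _ _ n q hF hn h32 hpq e hlt
  have hpF : (p : F) ≠ 0 := by
    intro h
    obtain ⟨r, hr⟩ := CharP.exists F
    obtain ⟨k, hrp, hk⟩ := FiniteField.card F r
    have h1 : r ∣ p := (CharP.cast_eq_zero_iff F r p).1 h
    have h2 : r = p := (Nat.prime_dvd_prime_iff_eq hrp hp).1 h1
    have h3 : p ∣ q ^ 2 := by
      rw [← hF, hk, h2]
      exact dvd_pow_self p k.pos.ne'
    exact hpq (hp.dvd_of_dvd_pow h3)
  refine Cfsg.Agent.H897.T5Sub.SRow.congr e.symm ?_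
  exact srow_psu hF hn hp hp5 hpF h32 (Cfsg.Agent.H28.T5Sz32.aahyp_down B.aa)
    (Cfsg.Agent.H236.S5U.rsHyp_down B.rs)
    { h1 := fun hq => below_psl2 hF hn hq e hlt
      h2 := fun m hm hmn => below_psl hF hm hmn e hlt
      h3 := fun m hm hmn h => Cfsg.Agent.H236.S5U.below_psu hF hm hmn h e hlt }

end Cfsg.Agent.H43.SP
end

private theorem dce_dd770b0dbbdc : _root_.True := by
  try have : _root_.True := by simp only [_root_.Matrix.ProjectiveSpecialLinearGroup.congr_simp]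
  try have : _root_.True := by simp only [_root_.Cfsg.Agent.H43.SP.io0.eq_1]
  try have : _root_.True := by simp only [_root_.Cfsg.Agent.H43.SP.iob.eq_1]
  exact _root_.True.intro
end

-- part: H132/S5/FamPSp
section
set_option linter.all false

/-!
# The strong row of the family `PSp` (S2274)
-/

set_option autoImplicit false

universe u

namespace Cfsg.Agent.H132.S5

open Cfsg Cfsg.Agent.H533.T5 Cfsg.Agent.H106.MT

theorem srowFam_psp {p : ℕ} (hp : p.Prime) (h5 : 5 ≤ p) (B : SBox.{u} p) :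
    SRowFam.{u} p (fun S _ => IsPSp S) := by
  rintro S _ _ _ - hS hlt
  by_cases hch : IsPSpChar p S
  · obtain ⟨F, _, _, _, m, hm, -, ⟨e⟩⟩ := hch
    have hpf : Fact p.Prime := ⟨hp⟩
    exact Cfsg.Agent.H3.S5.PSpOwn.srow_psp hm h5 e hlt
  · exact Cfsg.Agent.H157.S5.srow_isPSp hp h5 B hlt hS hch

end Cfsg.Agent.H132.S5
end

-- part: H869/S5/PslCross
section
prune_inst 0xb4304b0058e2120000008000c0001a0298000000000004000c000800000888024800080001002106002001000000000000000000404000000e000000000400000000000400400008420008000000000000000000020000000000000000000000000000000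
set_option linter.all false
open scoped Cfsg.Agent.FastGrp

-- part: H869/S5/Tr
section
/-!
# Translation between semilinear maps and automorphisms, strong pairs (S2274)

`srow_of_sem` : the strong row of `T = π(X)` from the geometric statements about pairs.
`solv_up`, `solv_down` : solvability of `⟨y, z⟩` and of `⟨c, d⟩` if `y`, `z` induce `c`, `d`.
-/

set_option autoImplicit false

universe u

namespace Cfsg.Agent.H869.S5

open Cfsg.Agent.H957.T5V Cfsg.Agent.H957.T5Tr
open Cfsg.Agent.H533.T5 Cfsg.Agent.H132.S5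
open Cfsg.Agent.H903.SylSemi (Ind scal scal_apply)

section prod

variable {A B : Type*} [Group A] [Group B]

theorem closure_fst (a a' : A) (b b' : B) :
    (Subgroup.closure ({(a, b), (a', b')} : Set (A × B))).map (MonoidHom.fst A B)
      = Subgroup.closure ({a, a'} : Set A) :=
  closure_pair_map (MonoidHom.fst A B) (a, b) (a', b')

theorem closure_snd (a a' : A) (b b' : B) :
    (Subgroup.closure ({(a, b), (a', b')} : Set (A × B))).map (MonoidHom.snd A B)
      = Subgroup.closure ({b, b'} : Set B) :=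
  closure_pair_map (MonoidHom.snd A B) (a, b) (a', b')

/-- A subgroup `D` of `A × B` whose intersection with `A` is commutative and whose projection to
`B` is solvable is solvable; so its projection to `A` is solvable. -/
theorem solv_of_prod {D : Subgroup (A × B)}
    (hB : Group.IsSolvable ↥(D.map (MonoidHom.snd A B)))
    (hc : ∀ x y : A, (x, 1) ∈ D → (y, 1) ∈ D → x * y = y * x) :
    Group.IsSolvable ↥(D.map (MonoidHom.fst A B)) := by
  have h1 : Group.IsSolvable ↥D := by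
    let f : ↥D →* ↥(D.map (MonoidHom.snd A B)) := (MonoidHom.snd A B).subgroupMap D
    have hk : Group.IsSolvable ↥f.ker := by
      refine Group.isSolvable_of_comm ?_
      rintro ⟨⟨⟨x, b⟩, hx⟩, hx'⟩ ⟨⟨⟨y, b'⟩, hy⟩, hy'⟩
      have e1 : b = 1 := congrArg Subtype.val (MonoidHom.mem_ker.1 hx')
      have e2 : b' = 1 := congrArg Subtype.val (MonoidHom.mem_ker.1 hy')
      subst e1 e2
      apply Subtype.ext
      apply Subtype.ext
      exact Prod.ext (hc x y hx hy) rfl
    exact Group.isSolvable_of_ker_le_range f.ker.subtype f (by rw [Subgroup.range_subtype])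
  exact Group.isSolvable_of_surjective (f := (MonoidHom.fst A B).subgroupMap D)
    ((MonoidHom.fst A B).subgroupMap_surjective D)

theorem solv_of_prod' {D : Subgroup (A × B)}
    (hA : Group.IsSolvable ↥(D.map (MonoidHom.fst A B)))
    (hc : ∀ x : B, (1, x) ∈ D → x = 1) :
    Group.IsSolvable ↥(D.map (MonoidHom.snd A B)) := by
  have h1 : Group.IsSolvable ↥D := by
    let f : ↥D →* ↥(D.map (MonoidHom.fst A B)) := (MonoidHom.fst A B).subgroupMap D
    refine Group.isSolvable_of_isSolvable_injective (f := f) ?_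
    rw [injective_iff_map_eq_one]
    rintro ⟨⟨a, x⟩, hx⟩ hx'
    have e1 : a = 1 := congrArg Subtype.val hx'
    subst e1
    have e2 := hc x hx
    subst e2
    rfl
  exact Group.isSolvable_of_surjective (f := (MonoidHom.snd A B).subgroupMap D)
    ((MonoidHom.snd A B).subgroupMap_surjective D)

end prod

section ind

variable {F : Type*} [Field F] {V : Type*} [AddCommGroup V] [Module F V]
  {T : Type*} [Group T] {X : Type*} [Group X] {π : X →* T} {ρ : X →* Equiv.Perm V}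

/-- The maps satisfying `W` with the induced automorphisms. -/
theorem mem_closure_ind [Finite V] [Finite T] {W : Equiv.Perm V → Prop}
    (hW1 : W 1) (hWmul : ∀ y y', W y → W y' → W (y * y'))
    {y z : Equiv.Perm V} {c d : MulAut T} (hy : W y) (hz : W z)
    (hyc : Ind π ρ y c) (hzd : Ind π ρ z d) {x : Equiv.Perm V × MulAut T}
    (hx : x ∈ Subgroup.closure ({(y, c), (z, d)} : Set (Equiv.Perm V × MulAut T))) :
    W x.1 ∧ Ind π ρ x.1 x.2 := by
  have hpow : ∀ (a : Equiv.Perm V), W a → ∀ m : ℕ, W (a ^ m) := by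
    intro a ha m
    induction m with
    | zero => simpa using hW1
    | succ m ih => rw [pow_succ]; exact hWmul _ _ ih ha
  induction hx using Subgroup.closure_induction with
  | mem x hx =>
    rcases hx with rfl | hx
    · exact ⟨hy, hyc⟩
    · rw [Set.mem_singleton_iff] at hx
      subst hx
      exact ⟨hz, hzd⟩
  | one => exact ⟨hW1, Ind.one π ρ⟩
  | mul x x' _ _ hx hx' => exact ⟨hWmul _ _ hx.1 hx'.1, hx.2.mul hx'.2⟩
  | inv x _ hx =>
    refine ⟨?_, hx.2.inv⟩
    have h1 : x.1⁻¹ = x.1 ^ (orderOf x.1 - 1) := by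
      have ho := orderOf_pos x.1
      rw [inv_eq_iff_mul_eq_one, ← pow_succ', Nat.sub_add_cancel ho, pow_orderOf_eq_one]
    change W x.1⁻¹
    rw [h1]
    exact hpow _ hx.1 _

/-- If `⟨y, z⟩` is solvable then so is `⟨c, d⟩`. -/
theorem solv_down [Finite V] [Finite T] (hπ : Function.Surjective π) (hρ : Function.Injective ρ)
    {y z : Equiv.Perm V} {c d : MulAut T}
    (hyc : Ind π ρ y c) (hzd : Ind π ρ z d)
    (h : Group.IsSolvable ↥(Subgroup.closure ({y, z} : Set (Equiv.Perm V)))) :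
    Group.IsSolvable ↥(Subgroup.closure ({c, d} : Set (MulAut T))) := by
  rw [← closure_fst y z c d] at h
  have h1 := solv_of_prod' h (by
    intro x hx
    obtain ⟨h1, h2⟩ := mem_closure_ind (W := fun _ => True) trivial (fun _ _ _ _ => trivial)
      trivial trivial hyc hzd hx
    exact Ind.unique hπ hρ h2 (Ind.one π ρ))
  rwa [closure_snd] at h1

end ind

section row

variable {F : Type*} [Field F] {V : Type*} [AddCommGroup V] [Module F V]
  {T : Type u} [Group T] {X : Type*} [Group X]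

/-- **From the strong row to the geometric statements.** -/
theorem sem_of_srow [Nontrivial V] [Finite V] [Finite T] {p : ℕ} (hp : p.Prime)
    {π : X →* T} (hπ : Function.Surjective π)
    {ρ : X →* Equiv.Perm V} (hρ : Function.Injective ρ)
    (hρlin : ∀ s : X, Semi (1 : F ≃+* F) (ρ s))
    {W : Equiv.Perm V → Prop}
    (hind : ∀ y, W y → ∃ c : MulAut T, Ind π ρ y c)
    (huniq : ∀ y, W y → Ind π ρ y 1 → ∃ a : Fˣ, y = scal F V a)
    (hrow : SRow p T) {y z : Equiv.Perm V} (hy : W y) (hz : W z) (hyp : IsScal F (y ^ p))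
    (hyn : ¬ IsScal F y) (hzp : IsScal F (z ^ p)) (hzn : ¬ IsScal F z) :
    (∃ s : X, ¬ Group.IsSolvable
          ↥(Subgroup.closure ({y, ρ s * z * (ρ s)⁻¹} : Set (Equiv.Perm V)))) ∧
    (∃ s : X, ∀ k : ℕ, ¬ IsScal F ((y * (ρ s * z * (ρ s)⁻¹)) ^ p ^ k)) := by
  have helt : ∀ y : Equiv.Perm V, W y → IsScal F (y ^ p) → ¬ IsScal F y →
      ∀ c : MulAut T, Ind π ρ y c → orderOf c = p := by
    intro y hy hyp hyn c hyc
    have : Fact p.Prime := ⟨hp⟩
    refine orderOf_eq_prime ?_ ?_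
    · obtain ⟨a, ha⟩ := exists_scal hyp
      have h1 := hyc.pow p
      rw [ha] at h1
      exact Ind.unique hπ hρ h1 (ind_scal hρlin a)
    · rintro rfl
      obtain ⟨a, rfl⟩ := huniq y hy hyc
      exact hyn (isScal_scal a)
  obtain ⟨c, hyc⟩ := hind y hy
  obtain ⟨d, hzd⟩ := hind z hz
  obtain ⟨hA, hB⟩ := (spair_iff hp).1 (hrow c d (helt y hy hyp hyn c hyc) (helt z hz hzp hzn d hzd))
  have hcj : ∀ s : X,
      Ind π ρ (ρ s * z * (ρ s)⁻¹) (MulAut.conj (π s) * d * (MulAut.conj (π s))⁻¹) := by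
    intro s
    have e1 : (ρ s)⁻¹ = ρ s⁻¹ := (map_inv ρ s).symm
    have e2 : (MulAut.conj (π s))⁻¹ = MulAut.conj (π s⁻¹) := by rw [map_inv π, map_inv]
    rw [e1, e2]
    exact ((Ind.conj π ρ s).mul hzd).mul (Ind.conj π ρ s⁻¹)
  constructor
  · obtain ⟨_, ⟨t, rfl⟩, h⟩ := hA
    obtain ⟨s, rfl⟩ := hπ t
    exact ⟨s, fun hs => h (solv_down hπ hρ hyc (hcj s) hs)⟩
  · obtain ⟨_, ⟨t, rfl⟩, h⟩ := hB
    obtain ⟨s, rfl⟩ := hπ t
    refine ⟨s, fun k hk => h k ?_⟩
    have h1 := (hyc.mul (hcj s)).pow (p ^ k)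
    obtain ⟨a, ha⟩ := exists_scal hk
    rw [ha] at h1
    exact Ind.unique hπ hρ h1 (ind_scal hρlin a)

end row

end Cfsg.Agent.H869.S5
end

-- part: H869/S5/ACore
section
/-!
# Part (a): the two-dimensional trick (S2274, C2)

`c` linear, `v` with `c⁻¹ v, v, c v` independent.  If the conjugate `y` of `d` preserves `⟨v, c v⟩` and
`⟨c⁻¹ v, v⟩`, then `y` and `c y c⁻¹` act on `⟨v, c v⟩`, and the action can be prescribed.
-/

set_option autoImplicit false

namespace Cfsg.Agent.H869.S5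

open Module
open Cfsg.Agent.H957.T5V Cfsg.Agent.H957.T5Conf Cfsg.Agent.H132.S5

section perm

variable {U V : Type*}

/-- If `T` intertwines `x₁, x₂` with `y₁, y₂` then `⟨x₁, x₂⟩` is an image of `⟨y₁, y₂⟩`. -/
theorem solv_of_intertwine {T : U → V} (hT : Function.Injective T) {x1 x2 : Equiv.Perm U}
    {y1 y2 : Equiv.Perm V} (h1 : ∀ u, y1 (T u) = T (x1 u)) (h2 : ∀ u, y2 (T u) = T (x2 u))
    (h : Group.IsSolvable ↥(Subgroup.closure ({y1, y2} : Set (Equiv.Perm V)))) :
    Group.IsSolvable ↥(Subgroup.closure ({x1, x2} : Set (Equiv.Perm U))) := by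
  rw [← closure_fst y1 y2 x1 x2] at h
  have key : ∀ z ∈ Subgroup.closure ({(y1, x1), (y2, x2)} :
      Set (Equiv.Perm V × Equiv.Perm U)), ∀ u, z.1 (T u) = T (z.2 u) := by
    intro z hz
    induction hz using Subgroup.closure_induction with
    | mem z hz =>
      rcases hz with rfl | hz
      · exact h1
      · rw [Set.mem_singleton_iff] at hz
        subst hz
        exact h2
    | one => intro u; rfl
    | mul z z' _ _ hz hz' =>
      intro u
      change z.1 (z'.1 (T u)) = T (z.2 (z'.2 u))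
      rw [hz', hz]
    | inv z _ hz =>
      intro u
      change z.1⁻¹ (T u) = T (z.2⁻¹ u)
      apply z.1.injective
      rw [hz, apply_inv_self, apply_inv_self]
  have h3 := solv_of_prod' h (by
    intro x hx
    ext u
    apply hT
    exact (key _ hx u).symm)
  rwa [closure_snd] at h3

end perm

variable {F : Type*} [Field F]

section borel

variable {U : Type*} [AddCommGroup U] [Module F U]

theorem exists_coords (hU : finrank F U = 2) {e f : U}
    (h : LinearIndependent F ![e, f]) (u : U) : ∃ x y : F, u = x • e + y • f := by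
  have : FiniteDimensional F U := FiniteDimensional.of_finrank_pos (by omega)
  have h1 : Submodule.span F (Set.range ![e, f]) = ⊤ :=
    h.span_eq_top_of_card_eq_finrank (by rw [hU, Fintype.card_fin])
  have h2 : u ∈ Submodule.span F (Set.range ![e, f]) := by rw [h1]; exact Submodule.mem_top
  rw [Matrix.range_cons, Matrix.range_cons, Matrix.range_empty, Set.union_empty,
    Set.singleton_union] at h2
  obtain ⟨x, y, h3⟩ := Submodule.mem_span_pair.1 h2
  exact ⟨x, y, h3.symm⟩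

/-- The Borel subgroup of `GL₂` is solvable. -/
theorem solv_borel (hU : finrank F U = 2) {e1 e2 : U} (he : LinearIndependent F ![e1, e2])
    {x1 x2 : Equiv.Perm U} (h1 : Semi (1 : F ≃+* F) x1) (h2 : Semi (1 : F ≃+* F) x2)
    {b1 a1 g1 b2 a2 g2 : F} (hb1 : b1 ≠ 0) (ha1 : a1 ≠ 0) (hb2 : b2 ≠ 0) (ha2 : a2 ≠ 0)
    (h11 : x1 e1 = b1 • e1) (h12 : x1 e2 = a1 • e2 + g1 • e1)
    (h21 : x2 e1 = b2 • e1) (h22 : x2 e2 = a2 • e2 + g2 • e1) :
    Group.IsSolvable ↥(Subgroup.closure ({x1, x2} : Set (Equiv.Perm U))) := by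
  let m1 : Fˣ × Fˣ := (Units.mk0 b1 hb1, Units.mk0 a1 ha1)
  let m2 : Fˣ × Fˣ := (Units.mk0 b2 hb2, Units.mk0 a2 ha2)
  rw [← closure_fst x1 x2 m1 m2]
  have key : ∀ z ∈ Subgroup.closure ({(x1, m1), (x2, m2)} : Set (Equiv.Perm U × (Fˣ × Fˣ))),
      Semi (1 : F ≃+* F) z.1 ∧ z.1 e1 = (z.2.1 : F) • e1 ∧
        ∃ g : F, z.1 e2 = (z.2.2 : F) • e2 + g • e1 := by
    intro z hz
    induction hz using Subgroup.closure_induction with
    | mem z hz =>
      rcases hz with rfl | hz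
      · exact ⟨h1, h11, g1, h12⟩
      · rw [Set.mem_singleton_iff] at hz
        subst hz
        exact ⟨h2, h21, g2, h22⟩
    | one => exact ⟨Semi.one, (one_smul F e1).symm, 0, by
        change e2 = (1 : F) • e2 + (0 : F) • e1
        rw [one_smul, zero_smul, add_zero]⟩
    | mul z z' _ _ hz hz' =>
      obtain ⟨s, q1, g, q2⟩ := hz
      obtain ⟨s', q1', g', q2'⟩ := hz'
      refine ⟨by simpa using s.mul s', ?_, (z'.2.2 : F) * g + g' * (z.2.1 : F), ?_⟩
      · change z.1 (z'.1 e1) = ((z.2.1 * z'.2.1 : Fˣ) : F) • e1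
        rw [q1', s.smul, q1, smul_smul, RingAut.one_apply, Units.val_mul, mul_comm]
      · change z.1 (z'.1 e2) = ((z.2.2 * z'.2.2 : Fˣ) : F) • e2 + _
        rw [q2', s.add, s.smul, s.smul, q1, q2, RingAut.one_apply, RingAut.one_apply, Units.val_mul]
        module
    | inv z _ hz =>
      obtain ⟨s, q1, g, q2⟩ := hz
      have hi : Semi (1 : F ≃+* F) z.1⁻¹ := by simpa using s.inv
      have e1' : z.1⁻¹ e1 = ((z.2.1⁻¹ : Fˣ) : F) • e1 := by
        apply z.1.injective
        rw [apply_inv_self, s.smul, q1, RingAut.one_apply, smul_smul, ← Units.val_mul,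
          inv_mul_cancel, Units.val_one, one_smul]
      refine ⟨hi, e1', -(((z.2.2⁻¹ : Fˣ) : F) * g * ((z.2.1⁻¹ : Fˣ) : F)), ?_⟩
      change z.1⁻¹ e2 = ((z.2.2⁻¹ : Fˣ) : F) • e2 + _
      apply z.1.injective
      rw [apply_inv_self, s.add, s.smul, s.smul, q2, q1, RingAut.one_apply, RingAut.one_apply]
      have e3 : ((z.2.2⁻¹ : Fˣ) : F) * (z.2.2 : F) = 1 := by
        rw [← Units.val_mul, inv_mul_cancel, Units.val_one]
      have e4 : ((z.2.1⁻¹ : Fˣ) : F) * (z.2.1 : F) = 1 := by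
        rw [← Units.val_mul, inv_mul_cancel, Units.val_one]
      calc e2 = (1 : F) • e2 + (((z.2.2⁻¹ : Fˣ) : F) * g * (1 - 1)) • e1 := by
            rw [sub_self, mul_zero, zero_smul, one_smul, add_zero]
        _ = (((z.2.2⁻¹ : Fˣ) : F) * (z.2.2 : F)) • e2
            + (((z.2.2⁻¹ : Fˣ) : F) * g * (1 - ((z.2.1⁻¹ : Fˣ) : F) * (z.2.1 : F))) • e1 := by
            rw [e3, e4]
        _ = _ := by module
  refine solv_of_prod (Group.isSolvable_of_comm fun a b => mul_comm a b) ?_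
  intro x y hx hy
  obtain ⟨sx, px, gx, qx⟩ := key _ hx
  obtain ⟨sy, py, gy, qy⟩ := key _ hy
  change x e1 = (1 : F) • e1 at px
  change y e1 = (1 : F) • e1 at py
  change x e2 = (1 : F) • e2 + gx • e1 at qx
  change y e2 = (1 : F) • e2 + gy • e1 at qy
  rw [one_smul] at px py qx qy
  ext u
  obtain ⟨α, β, rfl⟩ := exists_coords hU he u
  change x (y (α • e1 + β • e2)) = y (x (α • e1 + β • e2))
  change Semi (1 : F ≃+* F) x at sx
  change Semi (1 : F ≃+* F) y at sy
  simp only [sy.add, sy.smul, sx.add, sx.smul, px, py, qx, qy, RingAut.one_apply]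
  module

/-- If the two elements generate a non-solvable group, the eigenlines are different. -/
theorem li_of_not_solv (hU : finrank F U = 2) {e1 e2 f1 f2 : U}
    (he : LinearIndependent F ![e1, e2]) (hf : LinearIndependent F ![f1, f2])
    {x1 x2 : Equiv.Perm U} (h1 : Semi (1 : F ≃+* F) x1) (h2 : Semi (1 : F ≃+* F) x2)
    {b a a' : F} (hb : b ≠ 0) (ha : a ≠ 0) (ha' : a' ≠ 0)
    (h11 : x1 e1 = b • e1) (h12 : x1 e2 = a • e2) (h21 : x2 f1 = b • f1) (h22 : x2 f2 = a' • f2)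
    (hns : ¬ Group.IsSolvable ↥(Subgroup.closure ({x1, x2} : Set (Equiv.Perm U)))) :
    LinearIndependent F ![e1, f1] := by
  have he0 : e1 ≠ 0 := by
    have := he.ne_zero 0
    simpa using this
  have hf0 : f1 ≠ 0 := by
    have := hf.ne_zero 0
    simpa using this
  rw [LinearIndependent.pair_iff' he0]
  intro lam hlam
  apply hns
  have hlam0 : lam ≠ 0 := by
    rintro rfl
    rw [zero_smul] at hlam
    exact hf0 hlam.symm
  have r2 : e1 = lam⁻¹ • f1 := by rw [← hlam, inv_smul_smul₀ hlam0]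
  have r1 : x2 e1 = b • e1 := by
    rw [r2, h2.smul, h21, RingAut.one_apply, smul_comm]
  obtain ⟨μ, ν, hμν⟩ := exists_coords hU he f2
  have hν : ν ≠ 0 := by
    rintro rfl
    rw [zero_smul, add_zero] at hμν
    rw [li2_iff] at hf
    have h1 := (hf μ (-lam) (by rw [hμν, ← hlam, smul_smul, smul_smul]; module)).2
    exact hlam0 (neg_eq_zero.1 h1)
  have r7 : ν⁻¹ * ν = 1 := inv_mul_cancel₀ hν
  have r4 : e2 = ν⁻¹ • f2 - (ν⁻¹ * μ) • e1 := by
    calc e2 = (1 : F) • e2 := (one_smul F e2).symm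
      _ = (ν⁻¹ * ν) • e2 := by rw [r7]
      _ = ν⁻¹ • (μ • e1 + ν • e2) - (ν⁻¹ * μ) • e1 := by module
      _ = _ := by rw [← hμν]
  have r5 : x2 e2 = a' • e2 + (ν⁻¹ * μ * (a' - b)) • e1 := by
    calc x2 e2 = x2 (ν⁻¹ • f2 - (ν⁻¹ * μ) • e1) := by rw [← r4]
      _ = ν⁻¹ • a' • f2 - (ν⁻¹ * μ) • b • e1 := by
        rw [h2.sub, h2.smul, h2.smul, h22, r1, RingAut.one_apply, RingAut.one_apply]
      _ = ν⁻¹ • a' • (μ • e1 + ν • e2) - (ν⁻¹ * μ) • b • e1 := by rw [← hμν]
      _ = ((ν⁻¹ * ν) * a') • e2 + (ν⁻¹ * μ * (a' - b)) • e1 := by module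
      _ = _ := by rw [r7, one_mul]
  exact solv_borel hU he h1 h2 hb ha hb ha' h11 (g1 := 0)
    (by rw [h12, zero_smul, add_zero]) r1 r5

theorem li_swap {e f : U} (h : LinearIndependent F ![e, f]) : LinearIndependent F ![f, e] := by
  rw [li2_iff] at h ⊢
  intro x y hxy
  obtain ⟨h1, h2⟩ := h y x (by rw [← hxy]; abel)
  exact ⟨h2, h1⟩

/-- One of two independent vectors is independent of `e`. -/
theorem li_or {e f1 f2 : U} (he : e ≠ 0) (hf : LinearIndependent F ![f1, f2])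
    (h : ¬ LinearIndependent F ![e, f1]) : LinearIndependent F ![e, f2] := by
  have hf0 : f1 ≠ 0 := by
    have := hf.ne_zero 0
    simpa using this
  rw [LinearIndependent.pair_iff' he] at h ⊢
  push Not at h
  obtain ⟨lam, hlam⟩ := h
  intro μ hμ
  have hlam0 : lam ≠ 0 := by
    rintro rfl
    rw [zero_smul] at hlam
    exact hf0 hlam.symm
  rw [li2_iff] at hf
  have h1 := (hf μ (-lam) (by rw [← hμ, ← hlam, smul_smul, smul_smul]; module)).2
  exact hlam0 (neg_eq_zero.1 h1)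

end borel

variable {V : Type*} [AddCommGroup V] [Module F V] {τ : F ≃+* F} {c d : Equiv.Perm V}

/-- **The core of part (a).** -/
theorem av_core [FiniteDimensional F V] (hc : Semi (1 : F ≃+* F) c) (hcF : FullDet F c) {v : V}
    (hv : LinearIndependent F ![c⁻¹ v, v, c v]) (hd : Semi τ d) {u0 u1 u2 : V} {b a a' : F}
    (hu : LinearIndependent F ![u0, u1, u2]) (h0 : d u0 = b • u0) (h1 : d u1 = a • u1)
    (h2 : d u2 = a' • u2)
    {U : Type*} [AddCommGroup U] [Module F U] (hU : finrank F U = 2) {x1 x2 : Equiv.Perm U}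
    (hx1 : Semi τ x1) (hx2 : Semi τ x2)
    {e1 e2 f1 f2 : U} (he : LinearIndependent F ![e1, e2]) (hf : LinearIndependent F ![f1, f2])
    (hef : LinearIndependent F ![e1, f1])
    (h11 : x1 e1 = b • e1) (h12 : x1 e2 = a • e2) (h21 : x2 f1 = b • f1) (h22 : x2 f2 = a' • f2)
    (hns : ¬ Group.IsSolvable ↥(Subgroup.closure ({x1, x2} : Set (Equiv.Perm U)))) :
    AV F c d := by
  have : FiniteDimensional F U := FiniteDimensional.of_finrank_pos (by omega)
  have hvli : LinearIndependent F ![v, c v] := by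
    rw [li3_iff] at hv
    rw [li2_iff]
    intro x y h
    obtain ⟨-, h3, h4⟩ := hv 0 x y (by rw [zero_smul, zero_add]; exact h)
    exact ⟨h3, h4⟩
  -- the embedding
  let B : Basis (Fin 2) F U := basisOfLinearIndependentOfCardEqFinrank hef
    (by rw [Fintype.card_fin, hU])
  have hB : ∀ i, B i = ![e1, f1] i := fun i => by
    rw [coe_basisOfLinearIndependentOfCardEqFinrank]
  let T : U →ₗ[F] V := B.constr F ![v, c v]
  have hTe : T e1 = v := by
    have := B.constr_basis F ![v, c v] 0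
    rwa [hB] at this
  have hTf : T f1 = c v := by
    have := B.constr_basis F ![v, c v] 1
    rwa [hB] at this
  have hTi : Function.Injective T := by
    rw [← LinearMap.ker_eq_bot, LinearMap.ker_eq_bot']
    intro u hu
    obtain ⟨x, y, rfl⟩ := exists_coords hU hef u
    rw [map_add, map_smul, map_smul, hTe, hTf] at hu
    rw [li2_iff] at hvli
    obtain ⟨hx, hy⟩ := hvli x y hu
    rw [hx, hy, zero_smul, zero_smul, add_zero]
  -- coordinates of `e2`, `f2`
  obtain ⟨x, y, hxy⟩ := exists_coords hU hef e2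
  obtain ⟨x', y', hxy'⟩ := exists_coords hU hef f2
  have hy0 : y ≠ 0 := by
    rintro rfl
    rw [zero_smul, add_zero] at hxy
    rw [li2_iff] at he
    have := (he x (-1) (by rw [hxy]; module)).2
    exact one_ne_zero (neg_eq_zero.1 this)
  have hx0 : x' ≠ 0 := by
    rintro rfl
    rw [zero_smul, zero_add] at hxy'
    rw [li2_iff] at hf
    have := (hf y' (-1) (by rw [hxy']; module)).2
    exact one_ne_zero (neg_eq_zero.1 this)
  have hw1 : T e2 = x • v + y • c v := by rw [hxy, map_add, map_smul, map_smul, hTe, hTf]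
  have hw2 : T f2 = x' • v + y' • c v := by rw [hxy', map_add, map_smul, map_smul, hTe, hTf]
  have hci : Semi (1 : F ≃+* F) c⁻¹ := by simpa using hc.inv
  have hw2' : c⁻¹ (T f2) = x' • c⁻¹ v + y' • v := by
    rw [hw2, hci.add, hci.smul, hci.smul, inv_apply_self]
    rfl
  have hli : LinearIndependent F ![v, T e2, c⁻¹ (T f2)] := by
    rw [li3_iff] at hv ⊢
    intro α β γ h
    rw [hw1, hw2'] at h
    obtain ⟨q1, q2, q3⟩ := hv (γ * x') (α + β * x + γ * y') (β * y) (by rw [← h]; module)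
    have hγ : γ = 0 := (mul_eq_zero.1 q1).resolve_right hx0
    have hβ : β = 0 := (mul_eq_zero.1 q3).resolve_right hy0
    subst hγ hβ
    exact ⟨by simpa using q2, rfl, rfl⟩
  obtain ⟨g, hg⟩ := Cfsg.Agent.H105.exists_equiv_of_indep hu hli
  have g0 : g u0 = v := hg 0
  have g1 : g u1 = T e2 := hg 1
  have g2 : g u2 = c⁻¹ (T f2) := hg 2
  refine AV.of_gl (Or.inl hcF) (g := g) ?_
  obtain ⟨d', hd'⟩ : ∃ d', d' = toA g * d * (toA g)⁻¹ := ⟨_, rfl⟩
  have hds : Semi τ d' := by rw [hd']; exact hd.conj g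
  have hdg : ∀ w, d' (g w) = g (d w) := fun w => by
    rw [hd', Equiv.Perm.mul_apply, Equiv.Perm.mul_apply, toA_inv_apply, toA_apply]
  rw [← hd']
  have k0 : d' v = b • v := by rw [← g0, hdg, h0, map_smul]
  have k1 : d' (T e2) = a • T e2 := by rw [← g1, hdg, h1, map_smul]
  have k2 : d' (c⁻¹ (T f2)) = a' • c⁻¹ (T f2) := by rw [← g2, hdg, h2, map_smul]
  intro hsol
  apply hns
  have hle : Subgroup.closure ({d', c * d' * c⁻¹} : Set (Equiv.Perm V)) ≤
      Subgroup.closure ({c, d'} : Set (Equiv.Perm V)) := by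
    rw [Subgroup.closure_le]
    have m1 : c ∈ Subgroup.closure ({c, d'} : Set (Equiv.Perm V)) :=
      Subgroup.subset_closure (by simp)
    have m2 : d' ∈ Subgroup.closure ({c, d'} : Set (Equiv.Perm V)) :=
      Subgroup.subset_closure (by simp)
    rintro z (rfl | hz)
    · exact m2
    · rw [Set.mem_singleton_iff] at hz
      rw [hz]
      exact mul_mem (mul_mem m1 m2) (inv_mem m1)
  refine solv_of_intertwine (T := T) hTi ?_ ?_ (isSolvable_of_le hle hsol)
  · intro u
    obtain ⟨α, β, rfl⟩ := exists_coords hU he u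
    rw [map_add, map_smul, map_smul, hTe, hds.add, hds.smul, hds.smul, k0, k1, hx1.add, hx1.smul,
      hx1.smul, h11, h12, map_add, map_smul, map_smul, map_smul, map_smul, hTe]
  · intro u
    obtain ⟨α, β, rfl⟩ := exists_coords hU hf u
    have q1 : (c * d' * c⁻¹) (T f1) = b • T f1 := by
      rw [Equiv.Perm.mul_apply, Equiv.Perm.mul_apply, hTf, inv_apply_self, k0, hc.smul]
      rfl
    have q2 : (c * d' * c⁻¹) (T f2) = a' • T f2 := by
      rw [Equiv.Perm.mul_apply, Equiv.Perm.mul_apply, k2, hc.smul, apply_inv_self]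
      rfl
    have hs : Semi τ (c * d' * c⁻¹) := by
      have := (hc.mul hds).mul hci
      simpa using this
    rw [map_add, map_smul, map_smul, hs.add, hs.smul, hs.smul, q1, q2, hx2.add, hx2.smul,
      hx2.smul, h21, h22, map_add, map_smul, map_smul, map_smul, map_smul]

end Cfsg.Agent.H869.S5
end

-- part: H869/S5/ATwo
section
/-!
# Pairs of semilinear maps on `F ^ n` from the strong row of `PSL_n(F)` (S2274)
-/

set_option autoImplicit false

namespace Cfsg.Agent.H869.S5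

open Matrix Module
open Cfsg.Agent.H957.T5V Cfsg.Agent.H957.T5Tr Cfsg.Agent.H957.T5Conf
open Cfsg.Agent.H199.PslAut Cfsg.Agent.H533.T5 Cfsg.Agent.H132.S5
open Cfsg.Agent.ClassicalGeometry.AutPSL.Root
open Cfsg.Agent.ClassicalGeometry.AutPSL.Auto
open Cfsg.Agent.H897.MeetPSL
open Cfsg.Agent.H903.SylSemi (Ind scal scal_apply)

section psl

variable {F : Type} [Field F] {n p : ℕ}

theorem semi_rho (s : Matrix.SpecialLinearGroup (Fin n) F) : Semi (1 : F ≃+* F) (rho n F s) := by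
  refine ⟨fun u v => ?_, fun b v => ?_⟩
  · rw [rho_apply, rho_apply, rho_apply, mulVec_add]
  · rw [rho_apply, rho_apply, mulVec_smul]
    rfl

theorem exists_sl_of_rho (s : Matrix.SpecialLinearGroup (Fin n) F) :
    ∃ g : (Fin n → F) ≃ₗ[F] (Fin n → F), LinearEquiv.det g = 1 ∧ toA g = rho n F s := by
  obtain ⟨g, hg⟩ := exists_toA (semi_rho s)
  refine ⟨g, ?_, hg⟩
  apply Units.ext
  rw [LinearEquiv.coe_det, Units.val_one]
  have h1 : (g : (Fin n → F) →ₗ[F] (Fin n → F)) = Matrix.toLin' (s : Matrix (Fin n) (Fin n) F) := by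
    ext v : 2
    have h2 := congrArg (fun f : Equiv.Perm (Fin n → F) => f (Pi.single v 1)) hg
    simp only [LinearMap.coe_comp, LinearMap.coe_single, Function.comp_apply]
    rw [Matrix.toLin'_apply]
    exact h2
  rw [h1, LinearMap.det_toLin', s.2]

theorem psl_uniq (hn : 2 ≤ n) {y : Equiv.Perm (Fin n → F)} (hW : ∃ θ : F ≃+* F, Semi θ y)
    (hy : Ind (pr : Matrix.SpecialLinearGroup (Fin n) F →*
      Matrix.ProjectiveSpecialLinearGroup (Fin n) F) (rho n F) y 1) :
    ∃ a : Fˣ, y = scal F (Fin n → F) a := by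
  have : Nonempty (Fin n) := ⟨⟨0, by omega⟩⟩
  obtain ⟨θ, hθ⟩ := hW
  obtain ⟨A, rfl⟩ := exists_smap (show Cfsg.Agent.H903.SylSemi.Semi F y θ from ⟨hθ.add, hθ.smul⟩)
  have h1 : Psi n F A * phi n F θ = 1 :=
    Ind.unique pr_surjective rho_injective (ind_smap A θ) hy
  obtain ⟨⟨u, rfl⟩, h2⟩ := Psi_phi_eq hn (g := A) (σ := θ) (τ := 1) (by rw [h1, map_one])
  refine ⟨u, ?_⟩
  ext v : 1
  rw [smap_apply, h2, scal_apply, Cfsg.Agent.H199.PslAut.coe_scal]
  change (scalar (Fin n) (u : F)) *ᵥ v = (u : F) • v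
  rw [Matrix.scalar_apply, Matrix.diagonal_const_mulVec]

/-- **The geometric form of the strong row of `PSL_n(F)`.** -/
theorem ab_of_srow [Finite F] (hn : 2 ≤ n) (hp : p.Prime)
    (hrow : SRow p (Matrix.ProjectiveSpecialLinearGroup (Fin n) F)) {θ θ' : F ≃+* F}
    {y z : Equiv.Perm (Fin n → F)} (hy : Semi θ y) (hz : Semi θ' z) (hyp : IsScal F (y ^ p))
    (hyn : ¬ IsScal F y) (hzp : IsScal F (z ^ p)) (hzn : ¬ IsScal F z) :
    AV F y z ∧ BV F p y z := by
  have : Nonempty (Fin n) := ⟨⟨0, by omega⟩⟩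
  have : Nontrivial (Fin n → F) := Function.nontrivial
  obtain ⟨⟨s, hs⟩, ⟨s', hs'⟩⟩ := sem_of_srow (F := F) hp (π := (pr :
      Matrix.SpecialLinearGroup (Fin n) F →* Matrix.ProjectiveSpecialLinearGroup (Fin n) F))
    pr_surjective (ρ := rho n F) rho_injective semi_rho (W := fun y => ∃ θ : F ≃+* F, Semi θ y)
    (by
      rintro y ⟨θ, hθ⟩
      obtain ⟨A, rfl⟩ := exists_smap
        (show Cfsg.Agent.H903.SylSemi.Semi F y θ from ⟨hθ.add, hθ.smul⟩)
      exact ⟨_, ind_smap A θ⟩) (fun y hW hy => psl_uniq hn hW hy) hrow ⟨θ, hy⟩ ⟨θ', hz⟩ hyp hyn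
    hzp hzn
  obtain ⟨g, hg, hgs⟩ := exists_sl_of_rho s
  obtain ⟨g', hg', hgs'⟩ := exists_sl_of_rho s'
  exact ⟨⟨g, hg, by rw [hgs]; exact hs⟩, ⟨g', hg', by rw [hgs']; exact hs'⟩⟩

end psl

section two

variable {F : Type} [Field F] {p : ℕ}

/-- The map `(x, y) ↦ (a τ(x), b τ(y))`. -/
def dg (τ : F ≃+* F) (a b : Fˣ) : Equiv.Perm (Fin 2 → F) where
  toFun v := ![(a : F) * τ (v 0), (b : F) * τ (v 1)]
  invFun v := ![τ.symm ((a⁻¹ : Fˣ) * v 0), τ.symm ((b⁻¹ : Fˣ) * v 1)]
  left_inv v := by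
    funext i
    (revert i; simp only [_root_.Fin.forall_fin_succ, _root_.Nat.succ_eq_add_one, Nat.reduceAdd, _root_.Units.val_inv_eq_inv_val, Fin.isValue, _root_.Matrix.cons_val_zero, _root_.ne_eq, _root_.Units.ne_zero, _root_.not_false_eq_true, _root_.inv_mul_cancel_left₀, _root_.RingEquiv.symm_apply_apply, _root_.Matrix.cons_val_one, _root_.Matrix.cons_val_fin_one, _root_.Matrix.cons_val_succ, _root_.Fin.succ_zero_eq_one, _root_.IsEmpty.forall_iff, _root_.and_self])
  right_inv v := by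
    funext i
    (revert i; simp only [_root_.Fin.forall_fin_succ, _root_.Nat.succ_eq_add_one, Nat.reduceAdd, _root_.Units.val_inv_eq_inv_val, Fin.isValue, _root_.map_mul, _root_.map_inv₀, _root_.Matrix.cons_val_zero, _root_.RingEquiv.apply_symm_apply, _root_.ne_eq, _root_.Units.ne_zero, _root_.not_false_eq_true, _root_.mul_inv_cancel_left₀, _root_.Matrix.cons_val_one, _root_.Matrix.cons_val_fin_one, _root_.Matrix.cons_val_succ, _root_.Fin.succ_zero_eq_one, _root_.IsEmpty.forall_iff, _root_.and_self])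

theorem dg_apply (τ : F ≃+* F) (a b : Fˣ) (v : Fin 2 → F) :
    dg τ a b v = ![(a : F) * τ (v 0), (b : F) * τ (v 1)] := rfl

theorem semi_dg (τ : F ≃+* F) (a b : Fˣ) : Semi τ (dg τ a b) := by
  constructor
  · intro v w
    funext i
    fin_cases i
    · simp [dg_apply, mul_add]
    · simp only [dg_apply, mul_add, _root_.Fin.mk_one, _root_.Fin.isValue, _root_.Cfsg.Agent.H869.S5.dg_apply, _root_.Nat.succ_eq_add_one, _root_.Nat.reduceAdd, _root_.Pi.add_apply, _root_.map_add, _root_.mul_add, _root_.Matrix.cons_val_one, _root_.Matrix.cons_val_fin_one]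
  · intro x v
    funext i
    fin_cases i
    · simp only [dg_apply, _root_.Fin.zero_eta, _root_.Fin.isValue, _root_.Cfsg.Agent.H869.S5.dg_apply, _root_.Nat.succ_eq_add_one, _root_.Nat.reduceAdd, _root_.Pi.smul_apply, _root_.smul_eq_mul, _root_.map_mul, _root_.Matrix.cons_val_zero]; ring
    · simp only [dg_apply, _root_.Fin.mk_one, _root_.Fin.isValue, _root_.Cfsg.Agent.H869.S5.dg_apply, _root_.Nat.succ_eq_add_one, _root_.Nat.reduceAdd, _root_.Pi.smul_apply, _root_.smul_eq_mul, _root_.map_mul, _root_.Matrix.cons_val_one, _root_.Matrix.cons_val_fin_one]; ring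

/-- standard basis -/
def b1 (F : Type) [Field F] : Fin 2 → F := ![1, 0]
def b2 (F : Type) [Field F] : Fin 2 → F := ![0, 1]

theorem li_b : LinearIndependent F ![b1 F, b2 F] := by
  rw [li2_iff]
  intro x y h
  have h0 := congrFun h 0
  have h1 := congrFun h 1
  simp [b1, b2] at h0 h1
  exact ⟨h0, h1⟩

theorem dg_b1 (τ : F ≃+* F) (a b : Fˣ) : dg τ a b (b1 F) = (a : F) • b1 F := by
  funext i
  (revert i; simp only [dg_apply, b1, _root_.Fin.forall_fin_succ, _root_.Nat.succ_eq_add_one, Nat.reduceAdd, Fin.isValue, _root_.Matrix.cons_val_zero, _root_.map_one, _root_.mul_one, _root_.Matrix.cons_val_one, _root_.Matrix.cons_val_fin_one, _root_.map_zero, _root_.MulZeroClass.mul_zero, _root_.Pi.smul_apply, _root_.smul_eq_mul, _root_.Matrix.cons_val_succ, _root_.implies_true, _root_.and_self])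

theorem dg_b2 (τ : F ≃+* F) (a b : Fˣ) : dg τ a b (b2 F) = (b : F) • b2 F := by
  funext i
  (revert i; simp only [dg_apply, b2, _root_.Fin.forall_fin_succ, _root_.Nat.succ_eq_add_one, Nat.reduceAdd, Fin.isValue, _root_.Matrix.cons_val_zero, _root_.map_zero, _root_.MulZeroClass.mul_zero, _root_.Matrix.cons_val_one, _root_.Matrix.cons_val_fin_one, _root_.map_one, _root_.mul_one, _root_.Pi.smul_apply, _root_.smul_eq_mul, _root_.Matrix.cons_val_succ, _root_.implies_true, _root_.and_self])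

theorem finrank_two : finrank F (Fin 2 → F) = 2 := by simp

theorem dg_pow_lin (a b : Fˣ) (m : ℕ) (v : Fin 2 → F) :
    (dg (1 : F ≃+* F) a b ^ m) v = ![(a : F) ^ m * v 0, (b : F) ^ m * v 1] := by
  induction m generalizing v with
  | zero =>
    funext i
    (revert i; simp only [_root_.Fin.forall_fin_succ, _root_.pow_zero, _root_.Equiv.Perm.coe_one, _root_.id_eq, _root_.Nat.succ_eq_add_one, Nat.reduceAdd, Fin.isValue, _root_.one_mul, _root_.Matrix.cons_val_zero, _root_.Matrix.cons_val_succ, _root_.Matrix.cons_val_fin_one, _root_.Fin.succ_zero_eq_one, _root_.IsEmpty.forall_iff, _root_.and_self])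
  | succ m ih =>
    rw [pow_succ, Equiv.Perm.mul_apply, ih]
    funext i
    fin_cases i
    · simp [dg_apply, pow_succ]; ring
    · simp [dg_apply, pow_succ]; ring

theorem dg_pow_field (τ : F ≃+* F) (m : ℕ) (v : Fin 2 → F) :
    (dg τ 1 1 ^ m) v = ![(τ ^ m) (v 0), (τ ^ m) (v 1)] := by
  induction m generalizing v with
  | zero =>
    funext i
    (revert i; simp only [_root_.Fin.forall_fin_succ, _root_.pow_zero, _root_.Equiv.Perm.coe_one, _root_.id_eq, _root_.Nat.succ_eq_add_one, Nat.reduceAdd, Fin.isValue, _root_.RingAut.one_apply, _root_.Matrix.cons_val_zero, _root_.Matrix.cons_val_succ, _root_.Matrix.cons_val_fin_one, _root_.Fin.succ_zero_eq_one, _root_.IsEmpty.forall_iff, _root_.and_self])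
  | succ m ih =>
    rw [pow_succ, Equiv.Perm.mul_apply, ih, pow_succ]
    funext i
    fin_cases i
    · simp [dg_apply, RingAut.mul_apply]
    · simp [dg_apply, RingAut.mul_apply]

theorem isScal_dg_pow {a b : Fˣ} (h : (a : F) ^ p = (b : F) ^ p) :
    IsScal F (dg (1 : F ≃+* F) a b ^ p) := by
  refine ⟨(a : F) ^ p, fun v => ?_⟩
  rw [dg_pow_lin, ← h]
  funext i
  fin_cases i <;> simp

theorem not_isScal_dg {τ : F ≃+* F} {a b : Fˣ} (h : (a : F) ≠ b) : ¬ IsScal F (dg τ a b) := by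
  rintro ⟨s, hs⟩
  have h1 := congrFun (hs (b1 F)) 0
  have h2 := congrFun (hs (b2 F)) 1
  simp [dg_apply, b1, b2] at h1 h2
  exact h (h1.trans h2.symm)

theorem isScal_dg_field {τ : F ≃+* F} (h : τ ^ p = 1) : IsScal F (dg τ 1 1 ^ p) := by
  refine ⟨1, fun v => ?_⟩
  rw [dg_pow_field, h, one_smul]
  funext i
  fin_cases i <;> simp

theorem not_isScal_field {τ : F ≃+* F} (h : τ ≠ 1) : ¬ IsScal F (dg τ 1 1) := by
  rintro ⟨s, hs⟩
  apply h
  ext x
  have h1 := congrFun (hs (b1 F)) 0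
  have h2 := congrFun (hs (x • b1 F)) 0
  simp [dg_apply, b1] at h1 h2
  rw [h2, ← h1, one_mul]
  rfl

end two

end Cfsg.Agent.H869.S5
end

-- part: H869/S5/BKry
section
/-!
# Part (b) for pairs of semilinear maps with a Krylov element (S2274, C2)

Copies of the theorems of `H957/T5Conf` and `H957/T5Pairs` (helper957) with the exponents `1, 1`.
-/

set_option autoImplicit false

namespace Cfsg.Agent.H869.S5

open Module Finset
open Cfsg.Agent.H957.T5V Cfsg.Agent.H957.T5Conf Cfsg.Agent.H957.T5Two Cfsg.Agent.H957.T5Semi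
open Cfsg.Agent.H957.T5Num Cfsg.Agent.H957.T5Field Cfsg.Agent.H957.T5Lin
open Cfsg.Agent.H957.T5Pairs Cfsg.Agent.H957.T5Main

variable {F V : Type*} [Field F] [AddCommGroup V] [Module F V]
variable {p : ℕ} {σ τ : F ≃+* F} {c d : Equiv.Perm V}

section conf

variable [FiniteDimensional F V]

/-- **Configuration K.** Both elements have a vector with three independent iterates. -/
theorem bv_K (hp : (p : F) ≠ 0) (hc : Semi σ c) (hd : Semi τ d) {v u : V}
    (hv : LinearIndependent F ![v, c⁻¹ v, c⁻¹ (c⁻¹ v)])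
    (hu : LinearIndependent F ![u, d u, d (d u)])
    (hA : 3 < finrank F V ∨ FullDet F c ∨ FullDet F d) : BV F p c d := by
  have hv' : LinearIndependent F ![v, c⁻¹ v, c⁻¹ (c⁻¹ v) + c⁻¹ v] := by
    rw [li3_iff] at hv ⊢
    intro x y z h
    obtain ⟨h1, h2, h3⟩ := hv x (y + z) z (by rw [← h]; module)
    subst h1 h3
    exact ⟨rfl, by simpa using h2, rfl⟩
  have hv0 : v ≠ 0 := by
    have := hv.ne_zero 0
    simpa using this
  refine BV.of_family hu hv' hA ?_
  intro d' g hg hd' m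
  have g0 : g u = v := hg 0
  have g1 : g (d u) = c⁻¹ v := hg 1
  have g2 : g (d (d u)) = c⁻¹ (c⁻¹ v) + c⁻¹ v := hg 2
  have hsd : Semi τ d' := by
    have : d' = toA g * d * (toA g)⁻¹ := by
      ext w
      obtain ⟨x, rfl⟩ := g.surjective w
      rw [hd', Equiv.Perm.mul_apply, Equiv.Perm.mul_apply, toA_inv_apply, toA_apply]
    rw [this]
    exact hd.conj g
  refine not_scal_jordan (hc.mul hsd) (v0 := v) (v1 := c⁻¹ v) hv0 ?_ ?_ (cast_pow_ne hp m)
  · rw [Equiv.Perm.mul_apply]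
    have := hd' u
    rw [g0, g1] at this
    rw [this, apply_inv_self]
  · rw [Equiv.Perm.mul_apply]
    have := hd' (d u)
    rw [g1, g2] at this
    rw [this, hc.add, apply_inv_self, apply_inv_self]

/-- **Configuration R.** `c` has a vector with three independent iterates, `d` fixes `u1`. -/
theorem bv_R (hp : (p : F) ≠ 0) (hc : Semi σ c) (hd : Semi τ d) {z u0 u1 : V}
    (hz : LinearIndependent F ![c⁻¹ z, z, c z])
    (hu : LinearIndependent F ![u0, d u0, u1]) (hu1 : d u1 = u1)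
    (hA : 3 < finrank F V ∨ FullDet F c ∨ FullDet F d) : BV F p c d := by
  have hv' : LinearIndependent F ![c z - z, z - c⁻¹ z, z] := by
    rw [li3_iff] at hz ⊢
    intro x y w h
    obtain ⟨h1, h2, h3⟩ := hz (-y) (w - x + y) x (by rw [← h]; module)
    subst h3
    have hy : y = 0 := by simpa using h1
    subst hy
    exact ⟨rfl, rfl, by simpa using h2⟩
  have hv0 : c z - z ≠ 0 := by
    have := hv'.ne_zero 0
    simpa using this
  refine BV.of_family hu hv' hA ?_
  intro d' g hg hd' m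
  have g0 : g u0 = c z - z := hg 0
  have g1 : g (d u0) = z - c⁻¹ z := hg 1
  have g2 : g u1 = z := hg 2
  have hsd : Semi τ d' := by
    have : d' = toA g * d * (toA g)⁻¹ := by
      ext w
      obtain ⟨x, rfl⟩ := g.surjective w
      rw [hd', Equiv.Perm.mul_apply, Equiv.Perm.mul_apply, toA_inv_apply, toA_apply]
    rw [this]
    exact hd.conj g
  refine not_scal_jordan (hc.mul hsd) (v0 := c z - z) (v1 := z) hv0 ?_ ?_ (cast_pow_ne hp m)
  · rw [Equiv.Perm.mul_apply]
    have := hd' u0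
    rw [g0, g1] at this
    rw [this, hc.sub, apply_inv_self]
  · rw [Equiv.Perm.mul_apply]
    have := hd' u1
    rw [hu1, g2] at this
    rw [this]
    abel

theorem bv_K' (hpF : (p : F) ≠ 0) (hc : Semi σ c) (hd : Semi τ d)
    (h1 : Kry3 F c) (h2 : Kry3 F d) (hA : 3 < Module.finrank F V ∨ FullDet F c ∨ FullDet F d) :
    BV F p c d := by
  obtain ⟨w, hw⟩ := h1
  obtain ⟨u, hu⟩ := h2
  refine bv_K hpF hc hd (v := c (c w)) ?_ hu hA
  rw [inv_apply_self, inv_apply_self]
  rw [li3_iff] at hw ⊢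
  intro x y z h
  obtain ⟨h1, h2, h3⟩ := hw z y x (by rw [← h]; abel)
  exact ⟨h3, h2, h1⟩

theorem bv_R' (hpF : (p : F) ≠ 0) (hc : Semi σ c) (hd : Semi τ d)
    (h1 : Kry3 F c) {u0 u1 : V} (hu : LinearIndependent F ![u0, d u0, u1]) (hu1 : d u1 = u1)
    (hA : 3 < Module.finrank F V ∨ FullDet F c ∨ FullDet F d) : BV F p c d := by
  obtain ⟨w, hw⟩ := h1
  refine bv_R hpF hc hd (z := c w) ?_ hu hu1 hA
  rw [inv_apply_self]
  exact hw

/-- **(3, Krylov)** -/
theorem bv_field_kry (hp : p.Prime) (hpF : (p : F) ≠ 0)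
    (hc : Semi σ c) (hd : Semi τ d) (h1 : Kry3 F c) (hτ : orderOf τ = p) (hdp : d ^ p = 1)
    (hA : 3 < finrank F V ∨ FullDet F c ∨ FullDet F d) : BV F p c d := by
  obtain ⟨b, hb, hbd⟩ := exists_fixed_basis hp.pos hd hτ hdp h1.finrank
  obtain ⟨t, ht⟩ := exists_t hp hτ
  refine bv_R' hpF hc hd h1 (u0 := b 0 + t • b 1) (u1 := b 2) ?_ (hbd 2) hA
  have hb' : LinearIndependent F ![b 0, b 1, b 2] := by
    have : b = ![b 0, b 1, b 2] := by
      funext i; fin_cases i <;> rfl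
    rwa [← this]
  rw [hd.add, hd.smul, hbd, hbd]
  rw [li3_iff] at hb' ⊢
  intro x y z h
  obtain ⟨h1, h2, h3⟩ := hb' (x + y) (x * t + y * τ t) z (by rw [← h]; module)
  have hx : x = -y := by linear_combination h1
  subst hx
  have h4 : y * (τ t - t) = 0 := by linear_combination h2
  rcases mul_eq_zero.1 h4 with h5 | h5
  · exact ⟨by rw [h5, neg_zero], h5, h3⟩
  · exact absurd (sub_eq_zero.1 h5) ht

/-- **(0, Krylov)** -/
theorem bv_diag_kry (hpF : (p : F) ≠ 0)
    (hc : Semi σ c) (hd : Semi (1 : F ≃+* F) d) (h1 : Kry3 F c) {n : ℕ} (b : Basis (Fin n) F V)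
    {a : Fin n → F} (ha : ∀ i, d (b i) = a i • b i) (hns : ¬ IsScal F d)
    (hA : 3 < finrank F V ∨ FullDet F c ∨ FullDet F d) : BV F p c d := by
  have hn : n = finrank F V := by rw [finrank_eq_card_basis b, Fintype.card_fin]
  have h3 := h1.finrank
  obtain ⟨i, j, hij⟩ : ∃ i j, a i ≠ a j := by
    by_contra hcon
    push Not at hcon
    apply hns
    have hn0 : 0 < n := by omega
    refine ⟨a ⟨0, hn0⟩, fun v => ?_⟩
    obtain ⟨f, hf, -⟩ := exists_end hd
    rw [← hf]
    have h4 : (f : V →ₗ[F] V) = a ⟨0, hn0⟩ • LinearMap.id := by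
      refine b.ext fun k => ?_
      change f (b k) = a ⟨0, hn0⟩ • b k
      rw [hf, ha, hcon k ⟨0, hn0⟩]
    exact congrArg (fun g : V →ₗ[F] V => g v) h4
  have hne : i ≠ j := by rintro rfl; exact hij rfl
  obtain ⟨k, hki, hkj⟩ : ∃ k : Fin n, k ≠ i ∧ k ≠ j := by
    by_contra hcon
    push Not at hcon
    have : (Finset.univ : Finset (Fin n)) ⊆ {i, j} := by
      intro k _
      by_cases hk : k = i
      · simp [hk]
      · simp [hcon k hk]
    have h4 := Finset.card_le_card this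
    rw [Finset.card_univ, Fintype.card_fin] at h4
    have h5 : ({i, j} : Finset (Fin n)).card ≤ 2 := Finset.card_le_two
    omega
  have hak : a k ≠ 0 := by
    intro h0
    have h4 := ha k
    rw [h0, zero_smul, ← hd.zero] at h4
    exact b.ne_zero k (d.injective h4)
  refine BV.of_scl (c' := c) (d' := smulA (Units.mk0 (a k) hak)⁻¹ d) hc hd (Scl.refl c)
    (scl_smulA _ d) ?_
  have hds : Semi (1 : F ≃+* F) (smulA (Units.mk0 (a k) hak)⁻¹ d) := hd.smulA _
  have hA' : 3 < finrank F V ∨ FullDet F c ∨ FullDet F (smulA (Units.mk0 (a k) hak)⁻¹ d) := by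
    rcases hA with h | h | h
    · exact Or.inl h
    · exact Or.inr (Or.inl h)
    · refine Or.inr (Or.inr fun δ => ?_)
      obtain ⟨z, hz, hzd⟩ := h δ
      refine ⟨z, hz, ?_⟩
      ext v
      have h4 := congrArg (fun e : Equiv.Perm V => e v) hzd
      simp only [Equiv.Perm.mul_apply, toA_apply] at h4
      rw [Equiv.Perm.mul_apply, Equiv.Perm.mul_apply, toA_apply, toA_apply, smulA_apply,
        smulA_apply, map_smul, h4]
  have hdv : ∀ v, smulA (Units.mk0 (a k) hak)⁻¹ d v = (a k)⁻¹ • d v := fun v => by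
    rw [smulA_apply, Units.val_inv_eq_inv_val, Units.val_mk0]
  refine bv_R' hpF hc hds h1 (u0 := b i + b j) (u1 := b k) ?_ ?_ hA'
  · rw [hdv, hd.add, ha, ha]
    have hli : LinearIndependent F ![b i, b j, b k] := by
      have h4 := b.linearIndependent.comp ![i, j, k] (by
        intro x y hxy
        fin_cases x <;> fin_cases y <;> simp_all only [_root_.ne_eq, _root_.Cfsg.Agent.H957.T5V.smulA_apply, _root_.Units.val_inv_eq_inv_val, _root_.Units.val_mk0, _root_.implies_true, _root_.Nat.succ_eq_add_one, _root_.Nat.reduceAdd, _root_.Fin.zero_eta, _root_.Fin.isValue, _root_.Matrix.cons_val_zero, _root_.Fin.mk_one, _root_.Matrix.cons_val_one, _root_.Fin.reduceFinMk, _root_.Matrix.cons_val, _root_.Fin.reduceEq, _root_.not_false_eq_true, _root_.not_true_eq_false, _root_.one_ne_zero])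
      have h5 : (b ∘ ![i, j, k] : Fin 3 → V) = ![b i, b j, b k] := by
        funext x; fin_cases x <;> rfl
      rwa [h5] at h4
    rw [li3_iff] at hli ⊢
    intro x y z h
    obtain ⟨h4, h5, h6⟩ := hli (x + y * ((a k)⁻¹ * a i)) (x + y * ((a k)⁻¹ * a j)) z
      (by rw [← h]; module)
    have h7 : y * (a i - a j) = 0 := by
      have h8 : (a k)⁻¹ * (y * (a i - a j)) = 0 := by linear_combination h4 - h5
      exact (mul_eq_zero.1 h8).resolve_left (inv_ne_zero hak)
    have hy : y = 0 := (mul_eq_zero.1 h7).resolve_right (sub_ne_zero.2 hij)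
    subst hy
    exact ⟨by simpa using h4, rfl, h6⟩
  · rw [hdv, ha, inv_smul_smul₀ hak]


end conf

end Cfsg.Agent.H869.S5
end

-- part: H869/S5/AC2
section
/-!
# Pairs with an element of irreducible type `X ^ p - l` (S2274, C2)
-/

set_option autoImplicit false

namespace Cfsg.Agent.H869.S5

open Module Finset
open Cfsg.Agent.H957.T5V Cfsg.Agent.H957.T5Tr Cfsg.Agent.H957.T5Conf Cfsg.Agent.H957.T5Pairs
open Cfsg.Agent.H957.T5Lin Cfsg.Agent.H957.T5Main
open Cfsg.Agent.H533.T5 Cfsg.Agent.H132.S5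

section A

variable {F : Type} [Field F] {V : Type*} [AddCommGroup V] [Module F V] {p : ℕ} {τ : F ≃+* F}
  {c d : Equiv.Perm V}

theorem conj_eig {W : Type*} [AddCommGroup W] [Module F W] {g : W ≃ₗ[F] W} {z : Equiv.Perm W}
    {w : W} {a : F} (h : z w = a • w) : (toA g * z * (toA g)⁻¹) (g w) = a • g w := by
  rw [Equiv.Perm.mul_apply, Equiv.Perm.mul_apply, toA_inv_apply, toA_apply, h, map_smul]

theorem li_conj {W : Type*} [AddCommGroup W] [Module F W] (g : W ≃ₗ[F] W) {e f : W}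
    (h : LinearIndependent F ![e, f]) : LinearIndependent F ![g e, g f] := by
  rw [li2_iff] at h ⊢
  intro x y hxy
  refine h x y (g.injective ?_)
  rw [map_add, map_smul, map_smul, hxy, map_zero]

theorem ne_zero_of_li {W : Type*} [AddCommGroup W] [Module F W] {e f : W}
    (h : LinearIndependent F ![e, f]) : e ≠ 0 := by
  have := h.ne_zero 0
  simpa using this

/-- **Type 0.** -/
theorem av_diag [Finite F] [FiniteDimensional F V] (hp : p.Prime)
    (hrow : SRow p (Matrix.ProjectiveSpecialLinearGroup (Fin 2) F))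
    (hc : Semi (1 : F ≃+* F) c) (hcF : FullDet F c) {v : V}
    (hv : LinearIndependent F ![c⁻¹ v, v, c v]) (hd : Semi (1 : F ≃+* F) d)
    {n : ℕ} (hn : 3 ≤ n) (b : Basis (Fin n) F V) {α : Fin n → F}
    (hα : ∀ i, d (b i) = α i • b i) (hαp : ∀ i j, α i ^ p = α j ^ p) (hns : ¬ IsScal F d) :
    AV F c d := by
  classical
  obtain ⟨i, j, hij⟩ : ∃ i j, α i ≠ α j := by
    by_contra hcon
    push Not at hcon
    apply hns
    have hn0 : 0 < n := by omega
    refine ⟨α ⟨0, hn0⟩, fun v => ?_⟩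
    obtain ⟨f, hf, -⟩ := exists_end hd
    rw [← hf]
    have h4 : (f : V →ₗ[F] V) = α ⟨0, hn0⟩ • LinearMap.id := by
      refine b.ext fun k => ?_
      change f (b k) = α ⟨0, hn0⟩ • b k
      rw [hf, hα, hcon k ⟨0, hn0⟩]
    exact congrArg (fun g : V →ₗ[F] V => g v) h4
  have hne : i ≠ j := by rintro rfl; exact hij rfl
  obtain ⟨k, hki, hkj⟩ : ∃ k : Fin n, k ≠ i ∧ k ≠ j := by
    by_contra hcon
    push Not at hcon
    have : (Finset.univ : Finset (Fin n)) ⊆ {i, j} := by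
      intro k _
      by_cases hk : k = i
      · simp [hk]
      · simp [hcon k hk]
    have h4 := Finset.card_le_card this
    rw [Finset.card_univ, Fintype.card_fin] at h4
    have h5 : ({i, j} : Finset (Fin n)).card ≤ 2 := Finset.card_le_two
    omega
  obtain ⟨i0, i1, i2, h01, h02, h12, ha1, ha2⟩ : ∃ i0 i1 i2 : Fin n, i0 ≠ i1 ∧ i0 ≠ i2 ∧ i1 ≠ i2 ∧
      α i0 ≠ α i1 ∧ α i0 ≠ α i2 := by
    by_cases hk : α k = α i
    · exact ⟨j, i, k, hne.symm, hkj.symm, hki.symm, fun h => hij h.symm, fun h => hij (by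
        rw [h, hk])⟩
    · exact ⟨i, j, k, hne, hki.symm, hkj.symm, hij, fun h => hk h.symm⟩
  have hα0 : ∀ i, α i ≠ 0 := by
    intro i h0
    have h4 := hα i
    rw [h0, zero_smul, ← hd.zero] at h4
    exact b.ne_zero i (d.injective h4)
  have hu : LinearIndependent F ![b i0, b i1, b i2] := by
    have h4 := b.linearIndependent.comp ![i0, i1, i2] (by
      intro x y hxy
      fin_cases x <;> fin_cases y <;> simp_all only [_root_.Nat.succ_eq_add_one, _root_.Nat.reduceAdd, _root_.Equiv.Perm.coe_inv, _root_.ne_eq, _root_.Fin.zero_eta, _root_.Fin.isValue, _root_.Matrix.cons_val_zero, _root_.Fin.mk_one, _root_.Matrix.cons_val_one, _root_.Fin.reduceFinMk, _root_.Matrix.cons_val, _root_.one_ne_zero, _root_.not_true_eq_false, _root_.Fin.reduceEq, _root_.not_false_eq_true])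
    have h5 : (b ∘ ![i0, i1, i2] : Fin 3 → V) = ![b i0, b i1, b i2] := by
      funext x; fin_cases x <;> rfl
    rwa [h5] at h4
  obtain ⟨β0, hβ0⟩ : ∃ u : Fˣ, (u : F) = α i0 := ⟨Units.mk0 _ (hα0 i0), rfl⟩
  obtain ⟨β1, hβ1⟩ : ∃ u : Fˣ, (u : F) = α i1 := ⟨Units.mk0 _ (hα0 i1), rfl⟩
  obtain ⟨β2, hβ2⟩ : ∃ u : Fˣ, (u : F) = α i2 := ⟨Units.mk0 _ (hα0 i2), rfl⟩
  obtain ⟨g, -, hg⟩ := (ab_of_srow le_rfl hp hrow (semi_dg (1 : F ≃+* F) β0 β1)
    (semi_dg (1 : F ≃+* F) β0 β2) (isScal_dg_pow (by rw [hβ0, hβ1, hαp i0 i1]))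
    (not_isScal_dg (by rw [hβ0, hβ1]; exact ha1)) (isScal_dg_pow (by rw [hβ0, hβ2, hαp i0 i2]))
    (not_isScal_dg (by rw [hβ0, hβ2]; exact ha2))).1
  have q1 : (toA g * dg 1 β0 β2 * (toA g)⁻¹) (g (b1 F)) = (β0 : F) • g (b1 F) :=
    conj_eig (dg_b1 1 β0 β2)
  have q2 : (toA g * dg 1 β0 β2 * (toA g)⁻¹) (g (b2 F)) = (β2 : F) • g (b2 F) :=
    conj_eig (dg_b2 1 β0 β2)
  have hs2 : Semi (1 : F ≃+* F) (toA g * dg 1 β0 β2 * (toA g)⁻¹) := (semi_dg 1 β0 β2).conj g
  have hli := li_conj g (li_b (F := F))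
  have hef : LinearIndependent F ![b1 F, g (b1 F)] :=
    li_of_not_solv (finrank_two (F := F)) li_b hli (semi_dg 1 β0 β1) hs2 β0.ne_zero β1.ne_zero β2.ne_zero
      (dg_b1 1 β0 β1) (dg_b2 1 β0 β1) q1 q2 hg
  exact av_core hc hcF hv hd hu (hα i0) (hα i1) (hα i2) finrank_two (semi_dg 1 β0 β1) hs2
    li_b hli hef (by rw [dg_b1, hβ0]) (by rw [dg_b2, hβ1]) (by rw [q1, hβ0]) (by rw [q2, hβ2]) hg

/-- **Type 3.** -/
theorem av_field [Finite F] [FiniteDimensional F V] (hp : p.Prime)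
    (hrow : SRow p (Matrix.ProjectiveSpecialLinearGroup (Fin 2) F))
    (hc : Semi (1 : F ≃+* F) c) (hcF : FullDet F c) {v : V}
    (hv : LinearIndependent F ![c⁻¹ v, v, c v]) (hd : Semi τ d) (hτ : orderOf τ = p)
    (hdp : d ^ p = 1) : AV F c d := by
  have h3 : 3 ≤ finrank F V := by
    have := hv.fintype_card_le_finrank
    simpa using this
  obtain ⟨b, hb, hbd⟩ := exists_fixed_basis hp.pos hd hτ hdp h3
  have hb' : LinearIndependent F ![b 0, b 1, b 2] := by
    have : b = ![b 0, b 1, b 2] := by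
      funext i; fin_cases i <;> rfl
    rwa [← this]
  have hτ1 : τ ≠ 1 := by
    rintro rfl
    rw [orderOf_one] at hτ
    exact hp.one_lt.ne hτ
  have hτp : τ ^ p = 1 := by rw [← hτ, pow_orderOf_eq_one]
  obtain ⟨g, -, hg⟩ := (ab_of_srow le_rfl hp hrow (semi_dg τ 1 1) (semi_dg τ 1 1)
    (isScal_dg_field hτp) (not_isScal_field hτ1) (isScal_dg_field hτp)
    (not_isScal_field hτ1)).1
  have q1 : (toA g * dg τ 1 1 * (toA g)⁻¹) (g (b1 F)) = (1 : F) • g (b1 F) :=
    conj_eig (by simpa using dg_b1 τ 1 1)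
  have q2 : (toA g * dg τ 1 1 * (toA g)⁻¹) (g (b2 F)) = (1 : F) • g (b2 F) :=
    conj_eig (by simpa using dg_b2 τ 1 1)
  have hs2 : Semi τ (toA g * dg τ 1 1 * (toA g)⁻¹) := (semi_dg τ 1 1).conj g
  have hli := li_conj g (li_b (F := F))
  have hli' : LinearIndependent F ![g (b2 F), g (b1 F)] := li_swap hli
  have k : ∀ i, d (b i) = (1 : F) • b i := fun i => by rw [hbd, one_smul]
  have e1 : dg τ 1 1 (b1 F) = (1 : F) • b1 F := by simpa using dg_b1 τ 1 1
  have e2 : dg τ 1 1 (b2 F) = (1 : F) • b2 F := by simpa using dg_b2 τ 1 1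
  by_cases hef : LinearIndependent F ![b1 F, g (b1 F)]
  · exact av_core hc hcF hv hd hb' (k 0) (k 1) (k 2) finrank_two (semi_dg τ 1 1) hs2 li_b hli hef
      e1 e2 q1 q2 hg
  · refine av_core hc hcF hv hd hb' (k 0) (k 1) (k 2) finrank_two (semi_dg τ 1 1) hs2 li_b hli' ?_
      e1 e2 q2 q1 hg
    exact li_or (ne_zero_of_li li_b) hli hef

end A

section align

variable {F : Type*} [Field F] {V : Type*} [AddCommGroup V] [Module F V] {p : ℕ}

/-- The vectors `v, f v, …, f ^ (p - 1) v` are independent. -/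
theorem li_iter (hp : p.Prime) {f : End F V} {l : F} (hl : ∀ t : F, t ^ p ≠ l)
    (hf : ∀ v, (f ^ p) v = l • v) {v : V} (hv : v ≠ 0) :
    LinearIndependent F (fun i : Fin p => (f ^ (i : ℕ)) v) := by
  classical
  have hirr : Irreducible (Polynomial.X ^ p - Polynomial.C l : Polynomial F) :=
    X_pow_sub_C_irreducible_of_prime hp hl
  rw [Fintype.linearIndependent_iff]
  intro g hg
  let P : Polynomial F := ∑ i : Fin p, Polynomial.C (g i) * Polynomial.X ^ (i : ℕ)
  have hPf : (Polynomial.aeval f P) v = 0 := by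
    have : Polynomial.aeval f P = ∑ i : Fin p, algebraMap F (End F V) (g i) * f ^ (i : ℕ) := by
      simp only [P, _root_.map_sum, _root_.map_mul, _root_.Polynomial.aeval_C, _root_.map_pow, _root_.Polynomial.aeval_X]
    rw [this, LinearMap.sum_apply, ← hg]
    refine Finset.sum_congr rfl fun i _ => ?_
    rw [Module.End.mul_apply, Module.algebraMap_end_apply]
  have h0 : (Polynomial.aeval f (Polynomial.X ^ p - Polynomial.C l : Polynomial F)) v = 0 := by
    rw [map_sub, map_pow, Polynomial.aeval_X, Polynomial.aeval_C, LinearMap.sub_apply, hf,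
      Module.algebraMap_end_apply, sub_self]
  have hdeg : P.degree < p := by
    refine (Polynomial.degree_sum_fin_lt g)
  have hPz : P = 0 := by
    by_contra hP0
    have hcop : IsCoprime (Polynomial.X ^ p - Polynomial.C l : Polynomial F) P := by
      rw [hirr.coprime_iff_not_dvd]
      intro hd
      have h1 := Polynomial.degree_le_of_dvd hd hP0
      rw [Polynomial.degree_X_pow_sub_C hp.pos] at h1
      exact absurd (lt_of_le_of_lt h1 hdeg) (lt_irrefl _)
    obtain ⟨a, b, hab⟩ := hcop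
    apply hv
    have h2 : v = (Polynomial.aeval f (a * (Polynomial.X ^ p - Polynomial.C l) + b * P)) v := by
      rw [hab, map_one]; rfl
    rw [h2, map_add, map_mul, map_mul, LinearMap.add_apply, End.mul_apply, End.mul_apply, h0, hPf,
      map_zero, map_zero, add_zero]
  intro i
  have h3 := congrArg (fun Q : Polynomial F => Q.coeff (i : ℕ)) hPz
  simp only [P, Polynomial.finsetSum_coeff, Polynomial.coeff_C_mul, Polynomial.coeff_X_pow,
    Polynomial.coeff_zero] at h3
  rw [Finset.sum_eq_single i] at h3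
  · simpa using h3
  · intro j _ hj
    rw [if_neg (fun h => hj (Fin.ext h.symm)), mul_zero]
  · intro h
    exact absurd (Finset.mem_univ i) h

/-- Two linear maps of type `X ^ p - l` are conjugate. -/
theorem exists_conj_irr [FiniteDimensional F V] (hp : p.Prime) (hV : finrank F V = p)
    {c d : Equiv.Perm V} (hc : Semi (1 : F ≃+* F) c) (hd : Semi (1 : F ≃+* F) d) {l : F}
    (hl : ∀ t : F, t ^ p ≠ l) (hcl : ∀ v, (c ^ p) v = l • v) (hdl : ∀ v, (d ^ p) v = l • v) :
    ∃ g : V ≃ₗ[F] V, toA g * d * (toA g)⁻¹ = c := by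
  have : Nontrivial V := nontrivial_of_finrank_pos (R := F) (by rw [hV]; exact hp.pos)
  obtain ⟨v, hv⟩ := exists_ne (0 : V)
  obtain ⟨fc, hfc, hfc'⟩ := exists_end hc
  obtain ⟨fd, hfd, hfd'⟩ := exists_end hd
  have h1 := li_iter (f := (fc : End F V)) hp hl (fun w => by rw [pow_end hfc, hcl]) hv
  have h2 := li_iter (f := (fd : End F V)) hp hl (fun w => by rw [pow_end hfd, hdl]) hv
  have h1' : LinearIndependent F (fun i : Fin p => (c ^ (i : ℕ)) v) := by
    convert h1 using 2 with i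
    rw [pow_end hfc]
  have h2' : LinearIndependent F (fun i : Fin p => (d ^ (i : ℕ)) v) := by
    convert h2 using 2 with i
    rw [pow_end hfd]
  obtain ⟨g, hg⟩ := Cfsg.Agent.H105.exists_equiv_of_indep h2' h1'
  refine ⟨g, ?_⟩
  have hg' : ∀ i : ℕ, i < p → g ((d ^ i) v) = (c ^ i) v := fun i hi => hg ⟨i, hi⟩
  have hgp : g ((d ^ p) v) = (c ^ p) v := by
    rw [hdl, hcl, map_smul]
    have := hg' 0 hp.pos
    rw [pow_zero, pow_zero] at this
    rw [show g v = v from this]
  have key : ∀ w, g (fd w) = fc (g w) := by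
    have h3 : (g : V →ₗ[F] V) ∘ₗ (fd : V →ₗ[F] V) = (fc : V →ₗ[F] V) ∘ₗ (g : V →ₗ[F] V) := by
      have hne : Nonempty (Fin p) := ⟨⟨0, hp.pos⟩⟩
      let B : Basis (Fin p) F V := basisOfLinearIndependentOfCardEqFinrank h2'
        (by rw [Fintype.card_fin, hV])
      refine B.ext fun i => ?_
      have hB : B i = (d ^ (i : ℕ)) v := by
        simp [B]
      rw [hB]
      change g (fd ((d ^ (i : ℕ)) v)) = fc (g ((d ^ (i : ℕ)) v))
      rw [hg' i i.2, hfd, hfc, ← Equiv.Perm.mul_apply, ← Equiv.Perm.mul_apply, ← pow_succ',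
        ← pow_succ']
      rcases Nat.lt_or_ge ((i : ℕ) + 1) p with h | h
      · exact hg' _ h
      · have : (i : ℕ) + 1 = p := by have := i.2; omega
        rw [this, hgp]
    intro w
    exact congrArg (fun f : V →ₗ[F] V => f w) h3
  ext w
  obtain ⟨x, rfl⟩ := g.surjective w
  rw [Equiv.Perm.mul_apply, Equiv.Perm.mul_apply, toA_inv_apply, toA_apply, ← hfd, key, hfc]

/-- In a finite field two non-`p`-th powers are related. -/
theorem exists_pow_mul [Finite F] (hp : p.Prime) {l l' : F} (hl0 : l ≠ 0) (hl0' : l' ≠ 0)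
    (hl' : ∀ t : F, t ^ p ≠ l') : ∃ (j : ℕ) (t : Fˣ), (t : F) ^ p * l' ^ j = l := by
  obtain ⟨γ, hγ⟩ := IsCyclic.exists_generator (α := Fˣ)
  obtain ⟨m, hm⟩ := Subgroup.mem_zpowers_iff.1 (hγ (Units.mk0 l' hl0'))
  obtain ⟨r, hr⟩ := Subgroup.mem_zpowers_iff.1 (hγ (Units.mk0 l hl0))
  have hpm : ¬ (p : ℤ) ∣ m := by
    rintro ⟨k, rfl⟩
    apply hl' ((γ ^ k : Fˣ) : F)
    rw [← Units.val_pow_eq_pow_val, ← zpow_natCast, ← zpow_mul, mul_comm, hm, Units.val_mk0]
  have hcop : IsCoprime m (p : ℤ) :=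
    ((Nat.prime_iff_prime_int.1 hp).coprime_iff_not_dvd.2 hpm).symm
  obtain ⟨u, w, huw⟩ := hcop
  -- j = r u mod p
  obtain ⟨j, hj⟩ : ∃ j : ℕ, (p : ℤ) ∣ (r * u - j) := by
    refine ⟨((r * u) % p).toNat, ?_⟩
    rw [Int.toNat_of_nonneg (Int.emod_nonneg _ (by exact_mod_cast hp.ne_zero))]
    exact Int.dvd_self_sub_emod
  obtain ⟨k, hk⟩ := hj
  have h1 : r = m * j + p * (k * m + r * w) := by
    have : r = r * (u * m + w * p) := by rw [huw, mul_one]
    have h2 : r * u = j + p * k := by linarith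
    calc r = r * (u * m + w * p) := this
      _ = (r * u) * m + r * w * p := by ring
      _ = (j + p * k) * m + r * w * p := by rw [h2]
      _ = _ := by ring
  refine ⟨j, γ ^ (k * m + r * w), ?_⟩
  have h2 : (γ ^ (k * m + r * w)) ^ p * (Units.mk0 l' hl0') ^ j = Units.mk0 l hl0 := by
    rw [← hm, ← hr, ← zpow_natCast, ← zpow_mul, ← zpow_natCast, ← zpow_mul, ← zpow_add]
    congr 1
    linear_combination -h1
  have h3 := congrArg Units.val h2
  rwa [Units.val_mul, Units.val_pow_eq_pow_val, Units.val_pow_eq_pow_val, Units.val_mk0,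
    Units.val_mk0] at h3

/-- **Type 2 against type 2.** -/
theorem al_irr [Finite F] [FiniteDimensional F V] (hp : p.Prime) (hpF : (p : F) ≠ 0)
    (hV : finrank F V = p)
    {c d : Equiv.Perm V} (hc : Semi (1 : F ≃+* F) c) (hd : Semi (1 : F ≃+* F) d) {l l' : F}
    (hl : ∀ t : F, t ^ p ≠ l) (hl' : ∀ t : F, t ^ p ≠ l') (hcl : ∀ v, (c ^ p) v = l • v)
    (hdl : ∀ v, (d ^ p) v = l' • v) :
    ∃ g : V ≃ₗ[F] V, LinearEquiv.det g = 1 ∧ ∃ j : ℕ,
      Scl F ((toA g * d * (toA g)⁻¹) ^ j) c := by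
  have : Nontrivial V := nontrivial_of_finrank_pos (R := F) (by rw [hV]; exact hp.pos)
  have hl0 : l ≠ 0 := by
    rintro rfl
    exact hl 0 (zero_pow hp.ne_zero)
  have hl0' : l' ≠ 0 := by
    rintro rfl
    exact hl' 0 (zero_pow hp.ne_zero)
  obtain ⟨j, t, htj⟩ := exists_pow_mul hp hl0 hl0' hl'
  have hdj : Semi (1 : F ≃+* F) (d ^ j) := by simpa using hd.pow j
  have hpow : ∀ (k : ℕ) (v : V), ((d ^ p) ^ k) v = l' ^ k • v := by
    intro k
    induction k with
    | zero => intro v; simp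
    | succ k ih =>
      intro v
      rw [pow_succ, Equiv.Perm.mul_apply, hdl, ((hd.pow p).pow k).smul, ih, smul_smul, pow_succ]
      congr 1
      rw [one_pow, one_pow, RingAut.one_apply, mul_comm]
  obtain ⟨g, hg⟩ := exists_conj_irr hp hV hc (hdj.smulA t) hl hcl (fun v => by
    rw [smulA_pow_lin hdj, ← pow_mul, mul_comm j p, pow_mul, hpow, smul_smul, htj])
  have hcF : FullDet F c := fullDet_lin hpF hc ⟨l, hcl⟩
  obtain ⟨z, hz, hzc⟩ := hcF ((LinearEquiv.det g)⁻¹)
  refine ⟨z * g, by rw [map_mul, hz, inv_mul_cancel], j, ?_⟩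
  have h1 : toA (z * g) * smulA t (d ^ j) * (toA (z * g))⁻¹ = c := by
    have : toA (z * g) * smulA t (d ^ j) * (toA (z * g))⁻¹
        = toA z * (toA g * smulA t (d ^ j) * (toA g)⁻¹) * (toA z)⁻¹ := by
      rw [map_mul]; group
    rw [this, hg, hzc]; group
  rw [conj_pow]
  have h2 := scl_conj (hdj.smulA t) (scl_smulA t (d ^ j)).symm (z * g)
  rwa [h1] at h2

end align

end Cfsg.Agent.H869.S5
end

-- part: H869/S5/C2
section
/-!
# S2274, C2: pairs of semilinear maps on `F ^ p`, one of them of type `X ^ p - l` irreducible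

`c2_main` : (a) and (b) for such pairs.
-/

set_option autoImplicit false

namespace Cfsg.Agent.H869.S5

open Module Finset
open Cfsg.Agent.H957.T5V Cfsg.Agent.H957.T5Tr Cfsg.Agent.H957.T5Conf Cfsg.Agent.H957.T5Pairs
open Cfsg.Agent.H957.T5Lin Cfsg.Agent.H957.T5Main
open Cfsg.Agent.H533.T5 Cfsg.Agent.H132.S5

section

variable {F : Type*} [Field F] {V : Type*} [AddCommGroup V] [Module F V] {p : ℕ} {τ : F ≃+* F}
  {c d : Equiv.Perm V}

theorem dvd_of_not_pow [Finite F] (hp : p.Prime) {l : F} (hl : ∀ t : F, t ^ p ≠ l) :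
    p ∣ Nat.card F - 1 := by
  classical
  have : Fintype F := Fintype.ofFinite F
  by_contra hq
  have hl0 : l ≠ 0 := by
    rintro rfl
    exact hl 0 (zero_pow hp.ne_zero)
  have hcop : (Nat.card Fˣ).Coprime p := by
    rw [Nat.card_eq_fintype_card, Fintype.card_units, ← Nat.card_eq_fintype_card]
    exact ((Nat.Prime.coprime_iff_not_dvd hp).2 hq).symm
  obtain ⟨y, hy⟩ := (powCoprime hcop).surjective (Units.mk0 l hl0)
  apply hl y
  have := congrArg Units.val hy
  rwa [powCoprime_apply, Units.val_pow_eq_pow_val, Units.val_mk0] at this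

theorem kry3_of_irr (hp : p.Prime) (hp3 : 3 ≤ p) [Nontrivial V] (hc : Semi (1 : F ≃+* F) c) {l : F}
    (hl : ∀ t : F, t ^ p ≠ l) (hcl : ∀ v, (c ^ p) v = l • v) : Kry3 F c := by
  obtain ⟨v0, hv0⟩ := exists_ne (0 : V)
  obtain ⟨f, hf, hfc⟩ := exists_end hc
  have h1 := li3_of_irr (f := (f : End F V)) hp hp3 hl (fun v => by rw [pow_end hf, hcl]) hv0
  refine ⟨v0, ?_⟩
  rw [← hf v0, ← hf (f v0)]
  exact h1

theorem li_mid {w : V} (h : LinearIndependent F ![w, c w, c (c w)]) :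
    LinearIndependent F ![c⁻¹ (c w), c w, c (c w)] := by
  rwa [inv_apply_self]

end

section

variable {F : Type} [Field F] {V : Type*} [AddCommGroup V] [Module F V] {p : ℕ} {τ : F ≃+* F}
  {c d : Equiv.Perm V}

/-- diagonalisable case -/
theorem c2_diag [Finite F] [FiniteDimensional F V] (hp : p.Prime) (hp5 : 5 ≤ p)
    (hV : 3 ≤ finrank F V) (hpF : (p : F) ≠ 0) (hq : p ∣ Nat.card F - 1)
    (hrow : SRow p (Matrix.ProjectiveSpecialLinearGroup (Fin 2) F))
    (hc : Semi (1 : F ≃+* F) c) (hcF : FullDet F c) (hk : Kry3 F c)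
    (hd : Semi (1 : F ≃+* F) d) (hdp : d ^ p = 1) (hdn : ¬ IsScal F d) :
    AV F c d ∧ BV F p c d := by
  have : Fact p.Prime := ⟨hp⟩
  obtain ⟨f, hf, hfc⟩ := exists_end hd
  have hfp : (f : End F V) ^ p = ((1 : F) ^ p) • 1 := by
    ext v
    rw [pow_end hf, hdp, one_pow, one_smul]
    rfl
  obtain ⟨b, a, hb⟩ := exists_eigenbasis hq one_ne_zero hfp (κ := Fin (finrank F V))
    (Fintype.card_fin _)
  have hb' : ∀ i, d (b i) = a i • b i := fun i => by rw [← hf]; exact hb i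
  have hap : ∀ i, a i ^ p = 1 := by
    intro i
    have h1 := Cfsg.Agent.H957.T5Two.pow_eigen hd (hb' i) p
    rw [hdp, Cfsg.Agent.H957.T5Two.nm_one] at h1
    have h2 : (a i ^ p - 1) • b i = 0 := by
      rw [sub_smul, one_smul, ← h1]
      exact sub_self _
    rcases smul_eq_zero.1 h2 with h | h
    · exact sub_eq_zero.1 h
    · exact absurd h (b.ne_zero i)
  refine ⟨?_, bv_diag_kry hpF hc hd hk b hb' hdn (Or.inr (Or.inl hcF))⟩
  obtain ⟨w, hw⟩ := hk
  exact av_diag hp hrow hc hcF (li_mid hw) hd hV b hb' (fun i j => by rw [hap, hap]) hdn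

/-- field case -/
theorem c2_field [Finite F] [FiniteDimensional F V] (hp : p.Prime)
    (hpF : (p : F) ≠ 0)
    (hrow : SRow p (Matrix.ProjectiveSpecialLinearGroup (Fin 2) F))
    (hc : Semi (1 : F ≃+* F) c) (hcF : FullDet F c) (hk : Kry3 F c)
    (hd : Semi τ d) (hτ : orderOf τ = p) (hdp : d ^ p = 1) :
    AV F c d ∧ BV F p c d := by
  refine ⟨?_, bv_field_kry hp hpF hc hd hk hτ hdp (Or.inr (Or.inl hcF))⟩
  obtain ⟨w, hw⟩ := hk
  exact av_field hp hrow hc hcF (li_mid hw) hd hτ hdp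

/-- **C2.** -/
theorem c2_main [Finite F] [FiniteDimensional F V] (hp : p.Prime) (hp5 : 5 ≤ p)
    (hV : finrank F V = p) (hpF : (p : F) ≠ 0)
    (hrow : SRow p (Matrix.ProjectiveSpecialLinearGroup (Fin 2) F))
    (hc : Semi (1 : F ≃+* F) c) {l : F} (hl : ∀ t : F, t ^ p ≠ l) (hcl : ∀ v, (c ^ p) v = l • v)
    (hd : Semi τ d) (hdp : IsScal F (d ^ p)) (hdn : ¬ IsScal F d) :
    (AV F c d ∨ ∃ g : V ≃ₗ[F] V, LinearEquiv.det g = 1 ∧ ∃ j : ℕ,
      Scl F ((toA g * d * (toA g)⁻¹) ^ j) c) ∧ BV F p c d := by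
  have : Nontrivial V := nontrivial_of_finrank_pos (R := F) (by rw [hV]; exact hp.pos)
  have hq := dvd_of_not_pow hp hl
  have hk := kry3_of_irr hp (by omega) hc hl hcl
  have hcF : FullDet F c := fullDet_lin hpF hc ⟨l, hcl⟩
  obtain ⟨l', hdl⟩ := hdp
  have hl0' : l' ≠ 0 := by
    rintro rfl
    obtain ⟨v, hv⟩ := exists_ne (0 : V)
    have h1 := hdl v
    rw [zero_smul] at h1
    exact hv ((d ^ p).injective (h1.trans (hd.pow p).zero.symm))
  by_cases hτ : τ = 1
  · subst hτ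
    by_cases ht : ∃ t : F, t ^ p = l'
    · obtain ⟨t, ht⟩ := ht
      have ht0 : t ≠ 0 := by
        rintro rfl
        rw [zero_pow hp.ne_zero] at ht
        exact hl0' ht.symm
      have hdp1 : (smulA (Units.mk0 t ht0)⁻¹ d) ^ p = 1 := by
        ext v
        rw [smulA_pow_lin hd, hdl, smul_smul, Units.val_inv_eq_inv_val, Units.val_mk0, ← ht,
          ← mul_pow, inv_mul_cancel₀ ht0, one_pow, one_smul]
        rfl
      obtain ⟨hA, hB⟩ := c2_diag hp hp5 (by omega) hpF hq hrow hc hcF hk (hd.smulA _) hdp1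
        (not_isScal_smulA hdn)
      exact ⟨Or.inl (hA.of_scl hc hd (Scl.refl c) (scl_smulA _ d)),
        hB.of_scl hc hd (Scl.refl c) (scl_smulA _ d)⟩
    · push Not at ht
      exact ⟨Or.inr (al_irr hp hpF hV hc hd hl ht hcl hdl),
        bv_K' hpF hc hd hk (kry3_of_irr hp (by omega) hd ht hdl) (Or.inr (Or.inl hcF))⟩
  · obtain ⟨s, hs⟩ := exists_nf hp hp5 hd ⟨l', hdl⟩
    rcases hs with ⟨h, -⟩ | ⟨h, -⟩ | ⟨ho, hs⟩
    · exact absurd h hτ
    · exact absurd h hτ
    · obtain ⟨hA, hB⟩ := c2_field hp hpF hrow hc hcF hk (hd.smulA s) ho hs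
      exact ⟨Or.inl (hA.of_scl hc hd (Scl.refl c) (scl_smulA _ d)),
        hB.of_scl hc hd (Scl.refl c) (scl_smulA _ d)⟩

end

end Cfsg.Agent.H869.S5
end

-- part: H957/S5Psl2
section
/-!
# Types of semilinear maps of order `p` modulo scalars: invariant subspaces (S2274)
-/

set_option autoImplicit false
set_option linter.unusedSectionVars false

namespace Cfsg.Agent.H957.S5

open Polynomial
open Cfsg.Agent.H957.T5V Cfsg.Agent.H957.T5Conf Cfsg.Agent.H957.T5Pairs
open Cfsg.Agent.H957.T5U (exists_cyc_factor)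
open Cfsg.Agent.H957.T5S (natDegree_cyc)
open Cfsg.Agent.H957.InvU (blk mem_blk blk_inv self_mem_blk aeval_blk blk_irr finrank_blk
  dvd_of_aeval)

variable {F V : Type} [Field F] [Fintype F] [AddCommGroup V] [Module F V] [FiniteDimensional F V]
variable {p k : ℕ} {θ : F ≃+* F} {y : Equiv.Perm V}

theorem ns_smulA {s : Fˣ} (h : Ns (F := F) k (smulA s y)) : Ns (F := F) k y := by
  obtain ⟨b, hb, h1, h2⟩ := h
  have h3 : ∀ v, y v = ((s : F))⁻¹ • smulA s y v := fun v => by
    rw [smulA_apply, inv_smul_smul₀ s.ne_zero]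
  refine ⟨b, hb, fun w hw => ?_, ?_⟩
  · rw [h3]
    exact Submodule.smul_mem _ _ (h1 w hw)
  · rintro ⟨t, ht⟩
    apply h2
    refine ⟨s * t, fun w hw => ?_⟩
    rw [smulA_apply, ht w hw, smul_smul]

/-- Subspaces with a basis. -/
theorem ns_of_sub {W : Submodule F V} (hW : Module.finrank F W = k) (h1 : ∀ w ∈ W, y w ∈ W)
    (h2 : ¬ ∃ t : F, ∀ w ∈ W, y w = t • w) : Ns (F := F) k y := by
  let b := Module.finBasisOfFinrankEq F W hW
  have hli : LinearIndependent F (fun i => (b i : V)) :=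
    b.linearIndependent.map' W.subtype (Submodule.ker_subtype _)
  have hspan : Submodule.span F (Set.range fun i => (b i : V)) = W := by
    apply Submodule.eq_of_le_of_finrank_eq
    · rw [Submodule.span_le]
      rintro _ ⟨i, rfl⟩
      exact (b i).2
    · rw [finrank_span_eq_card hli, Fintype.card_fin, hW]
  refine ⟨fun i => (b i : V), hli, ?_, ?_⟩
  · rw [hspan]; exact h1
  · rw [hspan]; exact h2

/-- Semilinear maps. -/
theorem ns_semi (hp : p.Prime) (hy : Semi θ y) (hθ : orderOf θ = p) (hyp : y ^ p = 1)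
    (hk : 1 ≤ k) (hkn : k ≤ Module.finrank F V) : Ns (F := F) k y := by
  obtain ⟨b, hli, hb⟩ := exists_fixed_basis hp.pos hy hθ hyp hkn
  refine ⟨b, hli, ?_, ?_⟩
  · intro w hw
    induction hw using Submodule.span_induction with
    | mem x hx =>
      obtain ⟨i, rfl⟩ := hx
      rw [hb]
      exact Submodule.subset_span ⟨i, rfl⟩
    | zero => rw [hy.zero]; exact Submodule.zero_mem _
    | add x x' _ _ hx hx' => rw [hy.add]; exact Submodule.add_mem _ hx hx'
    | smul a x _ hx => rw [hy.smul]; exact Submodule.smul_mem _ _ hx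
  · rintro ⟨t, ht⟩
    have h1 : θ ≠ 1 := by
      intro h
      rw [h, orderOf_one] at hθ
      exact hp.one_lt.ne hθ
    apply h1
    ext a
    have hm : b ⟨0, hk⟩ ∈ Submodule.span F (Set.range b) := Submodule.subset_span ⟨_, rfl⟩
    have h2 := ht _ hm
    have h3 := ht _ (Submodule.smul_mem _ a hm)
    rw [hb] at h2
    have hne := hli.ne_zero ⟨0, hk⟩
    have h4 : (1 - t) • b ⟨0, hk⟩ = 0 := by rw [sub_smul, one_smul, ← h2, sub_self]
    have h5 : t = 1 := (sub_eq_zero.1 ((smul_eq_zero.1 h4).resolve_right hne)).symm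
    rw [h5, one_smul, hy.smul, hb] at h3
    have h6 : (θ a - a) • b ⟨0, hk⟩ = 0 := by rw [sub_smul, h3, sub_self]
    exact sub_eq_zero.1 ((smul_eq_zero.1 h6).resolve_right hne)

/-- Diagonalisable maps. -/
theorem ns_diag (hp : p.Prime) (hq : p ∣ Fintype.card F - 1) (hy : Semi (1 : F ≃+* F) y)
    (hyp : y ^ p = 1) (hyn : ¬ IsScal F y) (hk : 2 ≤ k) (hkn : k ≤ Module.finrank F V) :
    Ns (F := F) k y := by
  classical
  have : Fact p.Prime := ⟨hp⟩
  obtain ⟨f, hf, -⟩ := exists_end hy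
  have hfp : (f : Module.End F V) ^ p = ((1 : F) ^ p) • (1 : Module.End F V) := by
    ext v
    rw [pow_end hf, hyp, one_pow, one_smul]
    rfl
  obtain ⟨b, a, hb⟩ := Cfsg.Agent.H957.T5Lin.exists_eigenbasis
    (κ := Fin (Module.finrank F V)) (by rw [Nat.card_eq_fintype_card]; exact hq) one_ne_zero hfp
    (Fintype.card_fin _)
  have hb' : ∀ i, y (b i) = a i • b i := fun i => by rw [← hf]; exact hb i
  obtain ⟨i, j, hij⟩ : ∃ i j, a i ≠ a j := by
    by_contra hcon
    push Not at hcon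
    apply hyn
    have h0 : 0 < Module.finrank F V := by omega
    refine ⟨a ⟨0, h0⟩, fun v => ?_⟩
    have h1 : (f : Module.End F V) = a ⟨0, h0⟩ • (1 : Module.End F V) :=
      b.ext fun i => by
        rw [hb, hcon i ⟨0, h0⟩]
        rfl
    have h2 := LinearMap.congr_fun h1 v
    rw [← hf]
    exact h2
  have hne : i ≠ j := by
    rintro rfl
    exact hij rfl
  obtain ⟨s, hs, hsk⟩ : ∃ s : Finset (Fin (Module.finrank F V)), {i, j} ⊆ s ∧ s.card = k := by
    obtain ⟨s, hs1, hs2⟩ := Finset.exists_superset_card_eq (s := {i, j}) (n := k)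
      (by rw [Finset.card_pair hne]; exact hk) (by rw [Fintype.card_fin]; exact hkn)
    exact ⟨s, hs1, hs2⟩
  let e := s.orderEmbOfFin hsk
  have hsr : ∀ l ∈ s, ∃ m, e m = l := by
    intro l hl
    have h1 : l ∈ Set.range e := by
      rw [Finset.range_orderEmbOfFin]
      exact hl
    exact h1
  obtain ⟨i', hi'⟩ := hsr i (hs (by simp))
  obtain ⟨j', hj'⟩ := hsr j (hs (by simp))
  refine ⟨fun m => b (e m), b.linearIndependent.comp _ e.injective, ?_, ?_⟩
  · intro w hw
    induction hw using Submodule.span_induction with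
    | mem x hx =>
      obtain ⟨m, rfl⟩ := hx
      change y (b _) ∈ _
      rw [hb']
      exact Submodule.smul_mem _ _ (Submodule.subset_span ⟨m, rfl⟩)
    | zero => rw [hy.zero]; exact Submodule.zero_mem _
    | add x x' _ _ hx hx' => rw [hy.add]; exact Submodule.add_mem _ hx hx'
    | smul c x _ hx => rw [hy.smul]; exact Submodule.smul_mem _ _ hx
  · rintro ⟨t, ht⟩
    have h1 := ht (b i) (Submodule.subset_span ⟨i', by simp only [hi']⟩)
    have h2 := ht (b j) (Submodule.subset_span ⟨j', by simp only [hj']⟩)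
    rw [hb'] at h1 h2
    apply hij
    have e1 : (a i - t) • b i = 0 := by rw [sub_smul, h1, sub_self]
    have e2 : (a j - t) • b j = 0 := by rw [sub_smul, h2, sub_self]
    rw [sub_eq_zero.1 ((smul_eq_zero.1 e1).resolve_right (b.ne_zero i)),
      sub_eq_zero.1 ((smul_eq_zero.1 e2).resolve_right (b.ne_zero j))]

/-- Cyclic subspaces. -/
theorem ns_blk {f : Module.End F V} (hf : ∀ v, f v = y v) {P : F[X]} (hP : Irreducible P) {w : V}
    (hPw : aeval f P w = 0) (hw : w ≠ 0) (h2 : 2 ≤ P.natDegree) : Ns (F := F) P.natDegree y := by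
  refine ns_of_sub (W := blk f w) (finrank_blk hP hPw hw)
    (fun v hv => by rw [← hf]; exact blk_inv hv) ?_
  rintro ⟨t, ht⟩
  have h1 := ht w self_mem_blk
  rw [← hf] at h1
  have h3 : aeval f (X - C t) w = 0 := by
    rw [map_sub, aeval_X, aeval_C, LinearMap.sub_apply, Module.algebraMap_end_apply, h1, sub_self]
  have h4 := dvd_of_aeval hP hPw hw h3
  have h5 := natDegree_le_of_dvd h4 (X_sub_C_ne_zero t)
  rw [natDegree_X_sub_C] at h5
  omega

/-- Irreducible maps. -/
theorem ns_irr (hp : p.Prime) (hy : Semi (1 : F ≃+* F) y) {l : F} (hl : ∀ v, (y ^ p) v = l • v)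
    (hlp : ∀ t : F, t ^ p ≠ l) (hV : 0 < Module.finrank F V) : Ns (F := F) p y := by
  obtain ⟨f, hf, -⟩ := exists_end hy
  have : Nontrivial V := Module.finrank_pos_iff.1 hV
  obtain ⟨w, hw⟩ := exists_ne (0 : V)
  have hirr := X_pow_sub_C_irreducible_of_prime hp hlp
  have h1 := ns_blk (f := (f : Module.End F V)) hf hirr (w := w) (by
    rw [map_sub, map_pow, aeval_X, aeval_C, LinearMap.sub_apply, Module.algebraMap_end_apply,
      pow_end hf, hl, sub_self]) hw (by rw [natDegree_X_pow_sub_C]; exact hp.two_le)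
  rwa [natDegree_X_pow_sub_C] at h1

/-- Nontrivial linear maps of order `p`, `q` of order `e ≥ 2` modulo `p`. -/
theorem ns_lin (hp : p.Prime) (hpF : (p : F) ≠ 0) (hy : Semi (1 : F ≃+* F) y)
    (hyp : y ^ p = 1) (hyn : ¬ IsScal F y) {e : ℕ}
    (he : orderOf ((Fintype.card F : ℕ) : ZMod p) = e) (he2 : 2 ≤ e) : Ns (F := F) e y := by
  obtain ⟨f, hf, -⟩ := exists_end hy
  have hfp : (f : Module.End F V) ^ p = 1 := by
    refine LinearMap.ext fun v => ?_
    rw [pow_end hf, hyp]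
    rfl
  obtain ⟨P, hP, hPd, w, hw, hPw⟩ := exists_cyc_factor hp hfp (by
    intro h
    apply hyn
    refine ⟨1, fun v => ?_⟩
    rw [← hf, one_smul]
    exact LinearMap.congr_fun h v)
  have hdeg : P.natDegree = e := (natDegree_cyc hp hpF hP hPd).trans he
  have h1 := ns_blk hf hP hPw hw (by omega)
  rwa [hdeg] at h1

theorem ns_le (h : Ns (F := F) k y) : k ≤ Module.finrank F V := by
  obtain ⟨b, hb, -⟩ := h
  have := hb.fintype_card_le_finrank
  rwa [Fintype.card_fin] at this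

/-- `p`-th powers. -/
theorem exists_root (hp : p.Prime) (hq : ¬ p ∣ Fintype.card F - 1) (l : F) : ∃ t : F, t ^ p = l := by
  classical
  by_cases hl : l = 0
  · exact ⟨0, by rw [hl, zero_pow hp.ne_zero]⟩
  have hcop : (Nat.card Fˣ).Coprime p := by
    rw [Nat.card_eq_fintype_card, Fintype.card_units, Nat.coprime_comm]
    exact (Nat.Prime.coprime_iff_not_dvd hp).2 hq
  obtain ⟨u, hu⟩ := (powCoprime hcop).surjective (Units.mk0 l hl)
  refine ⟨u, ?_⟩
  have := congrArg Units.val hu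
  simpa using this

/-- **The types.** -/
theorem types (hp : p.Prime) (hp5 : 5 ≤ p) (hpF : (p : F) ≠ 0) (hV : 2 ≤ Module.finrank F V)
    (hy : Semi θ y) (hyp : IsScal F (y ^ p)) (hyn : ¬ IsScal F y) :
    (θ ≠ 1 ∧ orderOf θ = p ∧ ∀ k, 1 ≤ k → k ≤ Module.finrank F V → Ns (F := F) k y) ∨
    (θ = 1 ∧ p ∣ Fintype.card F - 1 ∧ ∀ k, 2 ≤ k → k ≤ Module.finrank F V → Ns (F := F) k y) ∨
    (θ = 1 ∧ p ∣ Fintype.card F - 1 ∧ Ns (F := F) p y ∧
      ∃ l : F, (∀ v, (y ^ p) v = l • v) ∧ ∀ t : F, t ^ p ≠ l) ∨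
    (θ = 1 ∧ ¬ p ∣ Fintype.card F - 1 ∧
      Ns (F := F) (orderOf ((Fintype.card F : ℕ) : ZMod p)) y) := by
  have : Fact p.Prime := ⟨hp⟩
  have : Nontrivial V := Module.finrank_pos_iff.1 (show 0 < Module.finrank F V by omega)
  by_cases hθ : θ = 1
  · subst hθ
    right
    obtain ⟨l, hl⟩ := hyp
    by_cases hroot : ∃ t : F, t ^ p = l
    · obtain ⟨t, rfl⟩ := hroot
      have ht0 : t ≠ 0 := by
        rintro rfl
        obtain ⟨v, hv⟩ := exists_ne (0 : V)
        apply hv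
        apply (y ^ p).injective
        rw [hl, hl, zero_pow hp.ne_zero, zero_smul, zero_smul]
      have h1 : (smulA (Units.mk0 t ht0)⁻¹ y) ^ p = 1 := by
        have h2 : ∀ (m : ℕ) (v : V), ((smulA (Units.mk0 t ht0)⁻¹ y) ^ m) v
            = (t⁻¹) ^ m • (y ^ m) v := by
          intro m
          induction m with
          | zero => intro v; simp
          | succ m ih =>
            intro v
            rw [pow_succ', pow_succ' y, Equiv.Perm.mul_apply, ih, smulA_apply, hy.smul,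
              Equiv.Perm.mul_apply, smul_smul, RingAut.one_apply, pow_succ' t⁻¹]
            rfl
        ext1 v
        rw [h2, hl, smul_smul, inv_pow, inv_mul_cancel₀ (pow_ne_zero _ ht0), one_smul]
        rfl
      have h3 := hy.smulA (Units.mk0 t ht0)⁻¹
      have h4 : ¬ IsScal F (smulA (Units.mk0 t ht0)⁻¹ y) :=
        Cfsg.Agent.H957.T5Main.not_isScal_smulA hyn
      by_cases hq : p ∣ Fintype.card F - 1
      · left
        exact ⟨rfl, hq, fun k hk hkn => ns_smulA (ns_diag hp hq h3 h1 h4 hk hkn)⟩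
      · right; right
        refine ⟨rfl, hq, ns_smulA (ns_lin hp hpF h3 h1 h4 rfl ?_)⟩
        -- the order is at least two
        have h5 : 0 < orderOf ((Fintype.card F : ℕ) : ZMod p) := by
          rw [orderOf_pos_iff]
          have h6 : ((Fintype.card F : ℕ) : ZMod p) ≠ 0 := by
            rw [Ne, ZMod.natCast_eq_zero_iff]
            intro h7
            apply hpF
            obtain ⟨r, hr⟩ := CharP.exists F
            obtain ⟨n, hrp, hn⟩ := FiniteField.card F r
            rw [hn] at h7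
            rw [(Nat.prime_dvd_prime_iff_eq hp hrp).1 (hp.dvd_of_dvd_pow h7)]
            exact CharP.cast_eq_zero F r
          exact isOfFinOrder_iff_pow_eq_one.2 ⟨p - 1, by omega, ZMod.pow_card_sub_one_eq_one h6⟩
        have h6 : orderOf ((Fintype.card F : ℕ) : ZMod p) ≠ 1 := by
          intro h7
          apply hq
          rw [orderOf_eq_one_iff] at h7
          rw [← ZMod.natCast_eq_zero_iff, Nat.cast_sub Fintype.card_pos, h7]
          push_cast
          ring
        omega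
    · push Not at hroot
      right; left
      refine ⟨rfl, ?_, ns_irr hp hy hl hroot (by omega), l, hl, hroot⟩
      by_contra hq
      obtain ⟨t, ht⟩ := exists_root hp hq l
      exact hroot t ht
  · left
    obtain ⟨s, hs⟩ := Cfsg.Agent.H957.T5Main.exists_nf hp hp5 hy hyp
    rcases hs with ⟨h, -⟩ | ⟨h, -⟩ | ⟨ho, hs⟩
    · exact absurd h hθ
    · exact absurd h hθ
    · exact ⟨hθ, ho, fun k hk hkn => ns_smulA (ns_semi hp (hy.smulA s) ho hs hk hkn)⟩

/-- The field is not too small. -/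
theorem four_le_of_order (hp5 : 5 ≤ p) (hθ : orderOf θ = p) :
    4 ≤ Fintype.card F := by
  have h1 := Cfsg.Agent.H967.CopMat.card_Fx θ
  rw [hθ, Nat.card_eq_fintype_card] at h1
  have h2 : 2 ≤ Nat.card (Cfsg.Agent.H967.CopMat.Fx θ) := by
    have := Finite.one_lt_card (α := Cfsg.Agent.H967.CopMat.Fx θ)
    exact this
  rw [h1]
  calc 4 ≤ 2 ^ 2 := by norm_num
    _ ≤ 2 ^ p := Nat.pow_le_pow_right (by norm_num) (by omega)
    _ ≤ _ := Nat.pow_le_pow_left h2 p

end Cfsg.Agent.H957.S5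
end

-- part: H957/S5Psl3
section
/-!
# Strong pairs of `PSL_n(q)` from pairs of semilinear maps (S2274)
-/

set_option autoImplicit false
set_option linter.unusedSectionVars false

namespace Cfsg.Agent.H957.S5

open Matrix
open Cfsg.Agent.H957.T5V Cfsg.Agent.H957.T5Tr Cfsg.Agent.H957.T5Conf
open Cfsg.Agent.H897.MeetPSL
open Cfsg.Agent.H533.T5 Cfsg.Agent.H132.S5 Cfsg.Agent.H106.MB Cfsg.Agent.H106.MT

variable {F : Type} [Field F] [Fintype F] {n p : ℕ}

/-- Semilinear maps with the induced automorphisms. -/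
def LfG (n : ℕ) (F : Type) [Field F] [Fintype F] :
    Subgroup (Equiv.Perm (Fin n → F) ×
      MulAut (Matrix.ProjectiveSpecialLinearGroup (Fin n) F)) where
  carrier := {r | Lf r.1 r.2}
  one_mem' := Lf.one
  mul_mem' := fun h h' => Lf.mul h h'
  inv_mem' := fun h => Lf.inv h

theorem isSolvable_lift (hn : 2 ≤ n) {H : Subgroup (Equiv.Perm (Fin n → F))}
    {K : Subgroup (MulAut (Matrix.ProjectiveSpecialLinearGroup (Fin n) F))}
    {L : Subgroup (Equiv.Perm (Fin n → F) ×
      MulAut (Matrix.ProjectiveSpecialLinearGroup (Fin n) F))} (hL : L ≤ LfG n F)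
    (hH : L.map (MonoidHom.fst _ _) = H) (hK : L.map (MonoidHom.snd _ _) = K)
    (hs : Group.IsSolvable ↥K) : Group.IsSolvable ↥H := by
  subst hH hK
  have h1 : Group.IsSolvable ↥L := by
    let f : L →* ↥(L.map (MonoidHom.snd _ _)) := (MonoidHom.snd _ _).subgroupMap L
    have h2 : Group.IsSolvable ↥f.ker := by
      refine Group.isSolvable_of_comm fun a b => ?_
      have key : ∀ a : f.ker, a.1.1.2 = 1 ∧ IsScal F a.1.1.1 := by
        intro a
        have h3 : a.1.1.2 = 1 := congrArg Subtype.val a.2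
        have h4 : Lf a.1.1.1 a.1.1.2 := hL a.1.2
        rw [h3] at h4
        exact ⟨h3, h4.scal hn⟩
      obtain ⟨ha, s, hs'⟩ := key a
      obtain ⟨hb, t, ht'⟩ := key b
      apply Subtype.ext
      apply Subtype.ext
      refine Prod.ext ?_ ?_
      · change a.1.1.1 * b.1.1.1 = b.1.1.1 * a.1.1.1
        ext1 v
        rw [Equiv.Perm.mul_apply, Equiv.Perm.mul_apply, hs', ht', ht', hs', smul_smul, smul_smul,
          mul_comm]
      · change a.1.1.2 * b.1.1.2 = b.1.1.2 * a.1.1.2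
        rw [ha, hb]
    exact Group.isSolvable_of_ker_le_range f.ker.subtype f (by rw [Subgroup.range_subtype])
  exact Group.isSolvable_of_surjective (f := (MonoidHom.fst _ _).subgroupMap L)
    ((MonoidHom.fst _ _).subgroupMap_surjective L)

variable {y z : Equiv.Perm (Fin n → F)}
  {c d : MulAut (Matrix.ProjectiveSpecialLinearGroup (Fin n) F)}

theorem apair_of_geom (hn : 2 ≤ n) (hy : Lf y c) (hz : Lf z d) {g : (Fin n → F) ≃ₗ[F] (Fin n → F)}
    (hg : LinearEquiv.det g = 1)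
    (h : ¬ Group.IsSolvable ↥(Subgroup.closure ({y, toA g * z * (toA g)⁻¹} :
      Set (Equiv.Perm (Fin n → F))))) :
    APair (MulAut.conj : Matrix.ProjectiveSpecialLinearGroup (Fin n) F →* MulAut _).range c d := by
  obtain ⟨s, hs⟩ := exists_rho hg
  refine ⟨MulAut.conj (prj n F s), ⟨_, rfl⟩, fun hsol => h ?_⟩
  have hz' : Lf (toA g * z * (toA g)⁻¹)
      (MulAut.conj (prj n F s) * d * (MulAut.conj (prj n F s))⁻¹) := by
    rw [← hs]
    exact ((lf_rho s).mul hz).mul (lf_rho s).inv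
  refine isSolvable_lift hn (L := Subgroup.closure {(y, c), (toA g * z * (toA g)⁻¹,
    MulAut.conj (prj n F s) * d * (MulAut.conj (prj n F s))⁻¹)}) ?_ ?_ ?_ hsol
  · rw [Subgroup.closure_le]
    rintro x (rfl | hx)
    · exact hy
    · rw [Set.mem_singleton_iff] at hx
      rw [hx]
      exact hz'
  · rw [closure_pair_map]
    rfl
  · rw [closure_pair_map]
    rfl

theorem bpair_of_geom (hn : 2 ≤ n) (hy : Lf y c) (hz : Lf z d) {g : (Fin n → F) ≃ₗ[F] (Fin n → F)}
    (hg : LinearEquiv.det g = 1)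
    (h : ∀ k : ℕ, ¬ IsScal F ((y * (toA g * z * (toA g)⁻¹)) ^ p ^ k)) :
    BPair p (MulAut.conj : Matrix.ProjectiveSpecialLinearGroup (Fin n) F →* MulAut _).range
      c d := by
  obtain ⟨s, hs⟩ := exists_rho hg
  refine ⟨MulAut.conj (prj n F s), ⟨_, rfl⟩, fun k hk => h k ?_⟩
  have hz' : Lf (toA g * z * (toA g)⁻¹)
      (MulAut.conj (prj n F s) * d * (MulAut.conj (prj n F s))⁻¹) := by
    rw [← hs]
    exact ((lf_rho s).mul hz).mul (lf_rho s).inv
  exact (((hy.mul hz').pow (p ^ k)).scal_iff hn).2 hk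

/-- Part (a) if a power of a conjugate of `z` is proportional to `y`. -/
theorem apair_of_scl (hRS : RSHyp.{0} p) (hn : 2 ≤ n) (hp : p.Prime)
    [IsSimpleGroup (Matrix.ProjectiveSpecialLinearGroup (Fin n) F)]
    (hna : ¬ IsMulCommutative (Matrix.ProjectiveSpecialLinearGroup (Fin n) F)) (hy : Lf y c)
    (hz : Lf z d) (hc : orderOf c = p) {g : (Fin n → F) ≃ₗ[F] (Fin n → F)}
    (hg : LinearEquiv.det g = 1) {j : ℕ} (h : Scl F ((toA g * z * (toA g)⁻¹) ^ j) y) :
    APair (MulAut.conj : Matrix.ProjectiveSpecialLinearGroup (Fin n) F →* MulAut _).range c d := by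
  have hfin := finite_psl' n F
  obtain ⟨s, hs⟩ := exists_rho hg
  have hz' : Lf (toA g * z * (toA g)⁻¹)
      (MulAut.conj (prj n F s) * d * (MulAut.conj (prj n F s))⁻¹) := by
    rw [← hs]
    exact ((lf_rho s).mul hz).mul (lf_rho s).inv
  have h1 : (MulAut.conj (prj n F s) * d * (MulAut.conj (prj n F s))⁻¹) ^ j = c := by
    have h2 := (hz'.pow j).mul hy.inv
    have h3 : IsScal F ((toA g * z * (toA g)⁻¹) ^ j * y⁻¹) := by
      obtain ⟨t, -, ht⟩ := h
      exact ⟨t, fun v => by rw [Equiv.Perm.mul_apply, ht, apply_inv_self]⟩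
    exact mul_inv_eq_one.1 ((h2.scal_iff hn).1 h3)
  have hI := conj_range_normal (S := Matrix.ProjectiveSpecialLinearGroup (Fin n) F)
  refine APair.of_aligned (R := (MulAut.conj : Matrix.ProjectiveSpecialLinearGroup (Fin n) F →*
    MulAut _).range) hRS le_rfl hc (fun r hr => hI.conj_mem _ hr c)
    (s := MulAut.conj (prj n F s)) ⟨_, rfl⟩ j (h := 1) (Commute.one_right _)
    (fun r _ => Commute.one_right _) (by rw [zpow_natCast, h1, mul_one])
    (not_solvable_inn hna ?_)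
  rintro rfl
  rw [orderOf_one] at hc
  exact hp.one_lt.ne hc

end Cfsg.Agent.H957.S5
end

-- part: H957/S5Card
section
/-!
# The order of `PSL_n(q)` grows with `n`
-/

set_option autoImplicit false

namespace Cfsg.Agent.H957.S5

variable {F : Type} [Field F] [Fintype F]

theorem card_psl_pos (m : ℕ) :
    0 < Nat.card (Matrix.ProjectiveSpecialLinearGroup (Fin m) F) := by
  have : Finite (Matrix.ProjectiveSpecialLinearGroup (Fin m) F) := Quotient.finite _
  exact Nat.card_pos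

theorem card_succ {m : ℕ} (hm : 2 ≤ m) :
    Nat.card (Matrix.ProjectiveSpecialLinearGroup (Fin m) F)
      < Nat.card (Matrix.ProjectiveSpecialLinearGroup (Fin (m + 1)) F) := by
  have h1 := Cfsg.Agent.H163.PG.card_psl (F := F) hm
  have h2 := Cfsg.Agent.H163.PG.card_psl (F := F) (show 2 ≤ m + 1 by omega)
  have hq : 2 ≤ Fintype.card F := Fintype.one_lt_card
  have hpos := card_psl_pos (F := F) m
  generalize Nat.card (Matrix.ProjectiveSpecialLinearGroup (Fin m) F) = A at h1 hpos ⊢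
  generalize Nat.card (Matrix.ProjectiveSpecialLinearGroup (Fin (m + 1)) F) = B at h2 ⊢
  generalize Fintype.card F = q at h1 h2 hq
  obtain ⟨k, rfl⟩ := Nat.exists_eq_add_of_le hm
  have e1 : (2 + k + 1) * (2 + k + 1 - 1) / 2 = (2 + k) * (2 + k - 1) / 2 + (2 + k) := by
    have : (2 + k + 1) * (2 + k + 1 - 1) = (2 + k) * (2 + k - 1) + (2 + k) * 2 := by
      have a1 : 2 + k + 1 - 1 = 2 + k := by omega
      have a2 : 2 + k - 1 = k + 1 := by omega
      rw [a1, a2]
      ring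
    rw [this, Nat.add_mul_div_right _ _ (by norm_num)]
  have e2 : 2 + k + 1 - 1 = (2 + k - 1) + 1 := by omega
  rw [e1, e2, Finset.prod_range_succ, pow_add] at h2
  have e3 : Nat.gcd (2 + k + 1) (q - 1) ≤ q - 1 := Nat.le_of_dvd (by omega) (Nat.gcd_dvd_right _ _)
  have e4 : 1 ≤ Nat.gcd (2 + k) (q - 1) := Nat.gcd_pos_of_pos_left _ (by omega)
  have e5 : Nat.gcd (2 + k + 1) (q - 1) * B
      = (Nat.gcd (2 + k) (q - 1) * A) * (q ^ (2 + k) * (q ^ (2 + k - 1 + 2) - 1)) := by
    rw [h2, h1]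
    ring
  have e6 : q - 1 < q ^ (2 + k) * (q ^ (2 + k - 1 + 2) - 1) := by
    have b1 : q ≤ q ^ (2 + k) := Nat.le_self_pow (by omega) q
    have b2 : 2 ≤ q ^ (2 + k - 1 + 2) := hq.trans (Nat.le_self_pow (by omega) q)
    calc q - 1 < q * 1 := by omega
      _ ≤ _ := Nat.mul_le_mul b1 (by omega)
  by_contra hcon
  push Not at hcon
  have e7 : Nat.gcd (2 + k + 1) (q - 1) * B ≤ (q - 1) * A := Nat.mul_le_mul e3 hcon
  have e8 : A * (q - 1) < (Nat.gcd (2 + k) (q - 1) * A)
      * (q ^ (2 + k) * (q ^ (2 + k - 1 + 2) - 1)) := by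
    calc A * (q - 1) < A * (q ^ (2 + k) * (q ^ (2 + k - 1 + 2) - 1)) :=
          Nat.mul_lt_mul_of_pos_left e6 hpos
      _ ≤ _ := Nat.mul_le_mul_right _ (Nat.le_mul_of_pos_left A e4)
  rw [e5, mul_comm (q - 1)] at e7
  omega

theorem card_lt {m n : ℕ} (hm : 2 ≤ m) (hmn : m < n) :
    Nat.card (Matrix.ProjectiveSpecialLinearGroup (Fin m) F)
      < Nat.card (Matrix.ProjectiveSpecialLinearGroup (Fin n) F) := by
  obtain ⟨k, rfl⟩ := Nat.exists_eq_add_of_lt hmn
  clear hmn
  induction k with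
  | zero => exact card_succ hm
  | succ k ih => exact ih.trans (card_succ (by omega))

/-- Divisors of `q ^ i - 1`. -/
theorem dvd_iff {p e : ℕ} [hp : Fact p.Prime] {q : ℕ} (hq : 1 ≤ q)
    (he : orderOf ((q : ℕ) : ZMod p) = e) (i : ℕ) : p ∣ q ^ i - 1 ↔ e ∣ i := by
  have h1 : 1 ≤ q ^ i := Nat.one_le_pow _ _ hq
  rw [← he, orderOf_dvd_iff_pow_eq_one, ← ZMod.natCast_eq_zero_iff, Nat.cast_sub h1, Nat.cast_pow,
    Nat.cast_one, sub_eq_zero]

end Cfsg.Agent.H957.S5
end

-- part: H957/S5Psl4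
section
/-!
# The strong row of `PSL_n(q)` in cross characteristic (S2274-C1)
-/

set_option autoImplicit false
set_option linter.unusedSectionVars false

universe u

namespace Cfsg.Agent.H957.S5

open Matrix
open Cfsg.Agent.H957.T5V Cfsg.Agent.H957.T5Tr Cfsg.Agent.H957.T5Conf
open Cfsg.Agent.H199.PslAut
open Cfsg.Agent.ClassicalGeometry.AutPSL.Root
open Cfsg.Agent.ClassicalGeometry.AutPSL.Auto
open Cfsg.Agent.H897.MeetPSL
open Cfsg.Agent.H903.SylSemi (Ind scal scal_apply)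
open Cfsg.Agent.H533.T5 Cfsg.Agent.H132.S5 Cfsg.Agent.H106.MB Cfsg.Agent.H106.MT

variable {F : Type} [Field F] [Fintype F] {n k p : ℕ}

/-- The rows of the smaller groups. -/
theorem srow_small (hk : 2 ≤ k) (hkn : k < n) (h4 : k = 2 → 4 ≤ Fintype.card F)
    (hb : SBelow.{0} p (Nat.card (Matrix.ProjectiveSpecialLinearGroup (Fin n) F))) :
    SRow p (Matrix.ProjectiveSpecialLinearGroup (Fin k) F) := by
  have := finite_psl' k F
  have hs := Cfsg.Agent.H242.StrP.FC.simple_psl hk h4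
  exact hb _ hs (Cfsg.Agent.H242.StrP.FC.not_comm_psl hs) (card_lt hk hkn)

/-- Linear maps induce inner-diagonal automorphisms. -/
theorem Lf.mem_inndiag {y : Equiv.Perm (Fin n → F)}
    {c : MulAut (Matrix.ProjectiveSpecialLinearGroup (Fin n) F)} (h : Lf y c)
    (hy : Semi (1 : F ≃+* F) y) : c ∈ Cfsg.inndiagPSL n F := by
  obtain ⟨A, rfl⟩ := exists_smap (show Cfsg.Agent.H903.SylSemi.Semi F y 1 from ⟨hy.add, hy.smul⟩)
  have h1 : c = Psi n F A * phi n F 1 :=
    Ind.unique pr_surjective rho_injective h.ind (ind_smap A 1)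
  rw [inndiag_eq, h1, map_one, mul_one]
  exact ⟨A, rfl⟩

/-- Inner automorphisms are induced by linear maps. -/
theorem Lf.eq_one_of_inner (hn : 2 ≤ n) {y : Equiv.Perm (Fin n → F)}
    {g : Matrix.ProjectiveSpecialLinearGroup (Fin n) F} (h : Lf y (MulAut.conj g)) {θ : F ≃+* F}
    (hy : Semi θ y) : θ = 1 := by
  obtain ⟨s, rfl⟩ := (pr_surjective : Function.Surjective (prj n F)) g
  have h1 := (lf_rho s).inv.mul h
  rw [inv_mul_cancel] at h1
  obtain ⟨t, ht⟩ := h1.scal hn
  have : Nonempty (Fin n) := ⟨⟨0, by omega⟩⟩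
  have : Nontrivial (Fin n → F) := Function.nontrivial
  obtain ⟨v, hv⟩ := exists_ne (0 : Fin n → F)
  have h2 : ∀ w, y w = t • rho n F s w := fun w => by
    have h3 := congrArg (rho n F s) (ht w)
    rw [Equiv.Perm.mul_apply, apply_inv_self, (semi_rho s).smul] at h3
    exact h3
  have hne : y v ≠ 0 := fun h0 => hv (y.injective (h0.trans hy.zero.symm))
  ext a
  have h3 : y (a • v) = a • y v := by
    rw [h2, h2, (semi_rho s).smul, RingAut.one_apply, smul_comm]
  rw [hy.smul] at h3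
  have h4 : (θ a - a) • y v = 0 := by rw [sub_smul, h3, sub_self]
  exact sub_eq_zero.1 ((smul_eq_zero.1 h4).resolve_right hne)

theorem Lf.inner (hn : 3 ≤ n) (hp : p.Prime) (hq : ¬ p ∣ Fintype.card F - 1)
    {y : Equiv.Perm (Fin n → F)}
    {c : MulAut (Matrix.ProjectiveSpecialLinearGroup (Fin n) F)} (h : Lf y c)
    (hy : Semi (1 : F ≃+* F) y) (hc : orderOf c = p) : ∃ g, c = MulAut.conj g := by
  have := finite_psl' n F
  have hs : IsSimpleGroup (Matrix.ProjectiveSpecialLinearGroup (Fin n) F) :=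
    Cfsg.Agent.H242.StrP.FC.simple_psl (by omega) (by omega)
  have hna := Cfsg.Agent.H242.StrP.FC.not_comm_psl hs
  exact Cfsg.Agent.H242.StrP.FC.inner_of_coprime
    (Cfsg.Agent.H242.StrP.FC.relIndex_psl (by omega)
      (Cfsg.Agent.H163.PG.center_of_simple hna)) hp
    (fun h1 => hq (h1.trans (Nat.gcd_dvd_right _ _))) (h.mem_inndiag hy) hc

/-- Cyclic Sylow subgroups for `e = n`. -/
theorem cyclic_sylow [Fact p.Prime] (hp2 : p ≠ 2) (hn : 3 ≤ n)
    (he : orderOf ((Fintype.card F : ℕ) : ZMod p) = n)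
    (P : Sylow p (Matrix.ProjectiveSpecialLinearGroup (Fin n) F)) :
    IsCyclic ↥(P : Subgroup (Matrix.ProjectiveSpecialLinearGroup (Fin n) F)) := by
  have hfin := finite_psl' n F
  exact Cfsg.Agent.H124.LinCyc.isCyclic_sylow_of_gl (ι := Fin n) hp2 (show 0 < n by omega)
    (dvd_iff Fintype.card_pos he) (by rw [Fintype.card_fin]; omega)
    (Matrix.SpecialLinearGroup.toGL : Matrix.SpecialLinearGroup (Fin n) F →* _)
    Matrix.SpecialLinearGroup.toGL_injective
    (QuotientGroup.mk' (Subgroup.center (Matrix.SpecialLinearGroup (Fin n) F)))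
    (QuotientGroup.mk'_surjective _) P

/-- Inner automorphisms, cyclic Sylow subgroups. -/
theorem spair_ii (hAA : AAHyp.{0} p) (hRS : RSHyp.{0} p) (hp : p.Prime) (hp2 : p ≠ 2)
    (hn : 3 ≤ n) (he : orderOf ((Fintype.card F : ℕ) : ZMod p) = n)
    {x y : Matrix.ProjectiveSpecialLinearGroup (Fin n) F}
    (hc : orderOf (MulAut.conj x) = p) (hd : orderOf (MulAut.conj y) = p) :
    SPair p (MulAut.conj : Matrix.ProjectiveSpecialLinearGroup (Fin n) F →* MulAut _).range
      (MulAut.conj x) (MulAut.conj y) := by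
  have : Fact p.Prime := ⟨hp⟩
  have := finite_psl' n F
  have hs : IsSimpleGroup (Matrix.ProjectiveSpecialLinearGroup (Fin n) F) :=
    Cfsg.Agent.H242.StrP.FC.simple_psl (by omega) (by omega)
  have hna := Cfsg.Agent.H242.StrP.FC.not_comm_psl hs
  have hinj := conj_injective_of_simple (S := Matrix.ProjectiveSpecialLinearGroup (Fin n) F) hna
  rw [orderOf_injective _ hinj] at hc hd
  obtain ⟨P⟩ : Nonempty (Sylow p (Matrix.ProjectiveSpecialLinearGroup (Fin n) F)) := inferInstance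
  have h1 := (spair_of_cyclic hAA hRS hna P (cyclic_sylow hp2 hn he P) hc hd).of_injective
    (MulAut.conj : Matrix.ProjectiveSpecialLinearGroup (Fin n) F →* MulAut _) hinj
  rwa [← MonoidHom.range_eq_map] at h1

/-- Inner against outer, cyclic Sylow subgroups. -/
theorem spair_io' (hAA : AAHyp.{0} p) (hRS : RSHyp.{0} p) (hp : p.Prime) (hp5 : 5 ≤ p)
    (hpF : (p : F) ≠ 0) (hn : 3 ≤ n) (he : orderOf ((Fintype.card F : ℕ) : ZMod p) = n)
    {x : Matrix.ProjectiveSpecialLinearGroup (Fin n) F}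
    {d : MulAut (Matrix.ProjectiveSpecialLinearGroup (Fin n) F)}
    (hc : orderOf (MulAut.conj x) = p) (hd : orderOf d = p) (hdo : ¬ ∃ g, d = MulAut.conj g) :
    SPair p (MulAut.conj : Matrix.ProjectiveSpecialLinearGroup (Fin n) F →* MulAut _).range
      (MulAut.conj x) d := by
  have : Fact p.Prime := ⟨hp⟩
  have := finite_psl' n F
  have hs : IsSimpleGroup (Matrix.ProjectiveSpecialLinearGroup (Fin n) F) :=
    Cfsg.Agent.H242.StrP.FC.simple_psl (by omega) (by omega)
  have hna := Cfsg.Agent.H242.StrP.FC.not_comm_psl hs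
  have hinj := conj_injective_of_simple (S := Matrix.ProjectiveSpecialLinearGroup (Fin n) F) hna
  rw [orderOf_injective _ hinj] at hc
  obtain ⟨s, hsF⟩ := CharP.exists F
  have hsp : s.Prime := CharP.char_is_prime F s
  have : Fact s.Prime := ⟨hsp⟩
  have hps : p ≠ s := by
    rintro rfl
    exact hpF (CharP.cast_eq_zero F p)
  have hcent : Cfsg.Agent.H818.StrP.FieldCent p s
      (Matrix.ProjectiveSpecialLinearGroup (Fin n) F) := by
    rcases Cfsg.Agent.H242.StrP.FC.fieldCent_psl (F := F) (n := n) (s := s) (p := p) (by omega)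
      (by omega) (by omega) hps with h | ⟨h, -⟩
    · exact h
    · omega
  have hcyc := cyclic_sylow (F := F) (n := n) (p := p) (by omega) hn he
  have hpS : p ∣ Nat.card (Matrix.ProjectiveSpecialLinearGroup (Fin n) F) := by
    rw [← hc]
    exact orderOf_dvd_natCard x
  refine spair_io hAA hRS hp hna ?_ hc hd hdo ?_
  · intro d' hd' hdo' _
    obtain ⟨N, h1, h2, h3, h4, -, h5, -⟩ := hcent d' hd' hdo' hpS hcyc
    exact ⟨N, h1, h2, h3, h4, h5⟩
  · obtain ⟨N, h1, h2, h3, h4, h5, -⟩ := hcent d hd hdo hpS hcyc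
    obtain ⟨⟨z, hzN⟩, hz⟩ := exists_prime_orderOf_dvd_card' (G := N) p h5
    rw [← Subgroup.orderOf_coe] at hz
    obtain ⟨P⟩ : Nonempty (Sylow p (Matrix.ProjectiveSpecialLinearGroup (Fin n) F)) :=
      inferInstance
    obtain ⟨s, j, hsj⟩ := exists_conj_of_cyclic P (hcyc P) hc hz
    refine ⟨s⁻¹, h1 _ ?_⟩
    have h6 : s⁻¹ * x * s⁻¹⁻¹ = z ^ j := by
      rw [← hsj, conj_zpow]
      group
    rw [h6]
    exact N.zpow_mem hzN j

/-- **The strong row of `PSL_n(q)`, `n ≥ 3`, in cross characteristic.**  The hypothesis is needed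
for `n = p ∣ q - 1`. -/
theorem srow_psl_of (hn : 3 ≤ n) (hp : p.Prime) (hp5 : 5 ≤ p) (hpF : (p : F) ≠ 0)
    (hAA : AAHyp.{0} p) (hRS : RSHyp.{0} p)
    (hb : SBelow.{0} p (Nat.card (Matrix.ProjectiveSpecialLinearGroup (Fin n) F)))
    (hC2 : n = p → p ∣ Fintype.card F - 1 →
      SRow p (Matrix.ProjectiveSpecialLinearGroup (Fin 2) F) →
      ∀ (c d : Equiv.Perm (Fin n → F)) (l : F) (τ : F ≃+* F), Semi (1 : F ≃+* F) c →
      (∀ v, (c ^ p) v = l • v) → (∀ t : F, t ^ p ≠ l) → Semi τ d → IsScal F (d ^ p) →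
      ¬ IsScal F d →
      (∃ g : (Fin n → F) ≃ₗ[F] (Fin n → F), LinearEquiv.det g = 1 ∧ ∀ k : ℕ,
        ¬ IsScal F ((c * (toA g * d * (toA g)⁻¹)) ^ p ^ k)) ∧
      ((∃ g : (Fin n → F) ≃ₗ[F] (Fin n → F), LinearEquiv.det g = 1 ∧
        ¬ Group.IsSolvable ↥(Subgroup.closure ({c, toA g * d * (toA g)⁻¹} :
          Set (Equiv.Perm (Fin n → F))))) ∨
        ∃ g : (Fin n → F) ≃ₗ[F] (Fin n → F), LinearEquiv.det g = 1 ∧
          ∃ j : ℕ, Scl F ((toA g * d * (toA g)⁻¹) ^ j) c)) :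
    SRow p (Matrix.ProjectiveSpecialLinearGroup (Fin n) F) := by
  have : Fact p.Prime := ⟨hp⟩
  have hfin := finite_psl' n F
  have hs : IsSimpleGroup (Matrix.ProjectiveSpecialLinearGroup (Fin n) F) :=
    Cfsg.Agent.H242.StrP.FC.simple_psl (by omega) (by omega)
  have hna := Cfsg.Agent.H242.StrP.FC.not_comm_psl hs
  have hV : Module.finrank F (Fin n → F) = n := Module.finrank_fin_fun F
  intro c d hc hd
  obtain ⟨y, hy⟩ := exists_lf' (by omega) hp (by omega) hc
  obtain ⟨z, hz⟩ := exists_lf' (by omega) hp (by omega) hd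
  obtain ⟨θ, hyθ⟩ := hy.semi
  obtain ⟨τ, hzτ⟩ := hz.semi
  obtain ⟨hyp, hyn⟩ := (hy.order (by omega) hp).1 hc
  obtain ⟨hzp, hzn⟩ := (hz.order (by omega) hp).1 hd
  have ty := types hp hp5 hpF (by rw [hV]; omega) hyθ hyp hyn
  have tz := types hp hp5 hpF (by rw [hV]; omega) hzτ hzp hzn
  rw [hV] at ty tz
  by_cases hq : p ∣ Fintype.card F - 1
  · have hq6 : 6 ≤ Fintype.card F := by
      have h1 : 2 ≤ Fintype.card F := Fintype.one_lt_card
      have := Nat.le_of_dvd (by omega) hq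
      omega
    -- the irreducible type
    have hB : ∀ {y z : Equiv.Perm (Fin n → F)} {τ : F ≃+* F}
        {c d : MulAut (Matrix.ProjectiveSpecialLinearGroup (Fin n) F)}, n = p → Lf y c →
        Lf z d → orderOf c = p → Semi (1 : F ≃+* F) y →
        (∃ l : F, (∀ v, (y ^ p) v = l • v) ∧ ∀ t : F, t ^ p ≠ l) → Semi τ z →
        IsScal F (z ^ p) → ¬ IsScal F z →
        SPair p (MulAut.conj : Matrix.ProjectiveSpecialLinearGroup (Fin n) F →* MulAut _).range
          c d := by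
      rintro y z τ c d hnp hy hz hc hy1 ⟨l, hl, hlp⟩ hzτ hzp hzn
      obtain ⟨⟨g, hg, h1⟩, h2⟩ := hC2 hnp hq (srow_small le_rfl (by omega) (by omega) hb) y z l τ hy1 hl hlp hzτ hzp hzn
      refine SPair.mk' hp ?_ (bpair_of_geom (by omega) hy hz hg h1)
      rcases h2 with ⟨g', hg', h2⟩ | ⟨g', hg', j, hj⟩
      · exact apair_of_geom (by omega) hy hz hg' h2
      · exact apair_of_scl hRS (by omega) hp hna hy hz hc hg' hj
    have key : ∀ {y : Equiv.Perm (Fin n → F)} {θ : F ≃+* F},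
        ((θ ≠ 1 ∧ orderOf θ = p ∧ ∀ k, 1 ≤ k → k ≤ n → Ns (F := F) k y) ∨
        (θ = 1 ∧ p ∣ Fintype.card F - 1 ∧ ∀ k, 2 ≤ k → k ≤ n → Ns (F := F) k y) ∨
        (θ = 1 ∧ p ∣ Fintype.card F - 1 ∧ Ns (F := F) p y ∧
          ∃ l : F, (∀ v, (y ^ p) v = l • v) ∧ ∀ t : F, t ^ p ≠ l) ∨
        (θ = 1 ∧ ¬ p ∣ Fintype.card F - 1 ∧
          Ns (F := F) (orderOf ((Fintype.card F : ℕ) : ZMod p)) y)) →
        (∀ k, 2 ≤ k → k ≤ n → Ns (F := F) k y) ∨
        (θ = 1 ∧ Ns (F := F) p y ∧ ∃ l : F, (∀ v, (y ^ p) v = l • v) ∧ ∀ t : F, t ^ p ≠ l) := by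
      rintro y θ (⟨-, -, h⟩ | ⟨-, -, h⟩ | ⟨h1, -, h2, h3⟩ | ⟨-, h, -⟩)
      · exact Or.inl fun k hk hkn => h k (by omega) hkn
      · exact Or.inl h
      · exact Or.inr ⟨h1, h2, h3⟩
      · exact absurd hq h
    rcases key ty with ty | ⟨rfl, ty1, ty2⟩
    · rcases key tz with tz | ⟨rfl, tz1, tz2⟩
      · exact pair_of_ns (k := 2) le_rfl (by omega) hp hy hz hc hd (ty 2 le_rfl (by omega))
          (tz 2 le_rfl (by omega)) (srow_small le_rfl (by omega) (by omega) hb)
      · have hpn := ns_le tz1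
        rw [hV] at hpn
        rcases Nat.lt_or_eq_of_le hpn with hlt | heq
        · exact pair_of_ns (k := p) (by omega) hlt hp hy hz hc hd (ty p (by omega) hpn) tz1
            (srow_small (by omega) hlt (by omega) hb)
        · exact (hB heq.symm hz hy hd hzτ tz2 hyθ hyp hyn).symm
    · have hpn := ns_le ty1
      rw [hV] at hpn
      rcases Nat.lt_or_eq_of_le hpn with hlt | heq
      · refine pair_of_ns (k := p) (by omega) hlt hp hy hz hc hd ty1 ?_
          (srow_small (by omega) hlt (by omega) hb)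
        rcases key tz with tz | ⟨-, tz, -⟩
        · exact tz p (by omega) hpn
        · exact tz
      · exact hB heq.symm hy hz hc hyθ ty2 hzτ hzp hzn
  · -- `p` does not divide `q - 1`
    obtain ⟨e, he⟩ : ∃ e, orderOf ((Fintype.card F : ℕ) : ZMod p) = e := ⟨_, rfl⟩
    have key : ∀ {y : Equiv.Perm (Fin n → F)} {θ : F ≃+* F},
        ((θ ≠ 1 ∧ orderOf θ = p ∧ ∀ k, 1 ≤ k → k ≤ n → Ns (F := F) k y) ∨
        (θ = 1 ∧ p ∣ Fintype.card F - 1 ∧ ∀ k, 2 ≤ k → k ≤ n → Ns (F := F) k y) ∨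
        (θ = 1 ∧ p ∣ Fintype.card F - 1 ∧ Ns (F := F) p y ∧
          ∃ l : F, (∀ v, (y ^ p) v = l • v) ∧ ∀ t : F, t ^ p ≠ l) ∨
        (θ = 1 ∧ ¬ p ∣ Fintype.card F - 1 ∧
          Ns (F := F) (orderOf ((Fintype.card F : ℕ) : ZMod p)) y)) →
        (θ ≠ 1 ∧ orderOf θ = p ∧ ∀ k, 1 ≤ k → k ≤ n → Ns (F := F) k y) ∨
        (θ = 1 ∧ Ns (F := F) e y) := by
      rintro y θ (h | ⟨-, h, -⟩ | ⟨-, h, -⟩ | ⟨h1, -, h⟩)
      · exact Or.inl h
      · exact absurd h hq
      · exact absurd h hq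
      · exact Or.inr ⟨h1, he ▸ h⟩
    have hcard2 : 2 ≤ Fintype.card F := Fintype.one_lt_card
    have hdvd := dvd_iff (p := p) (q := Fintype.card F) (by omega) he
    have he0 : e ≠ 0 := by
      rintro rfl
      rw [orderOf_eq_zero_iff] at he
      apply he
      have h6 : ((Fintype.card F : ℕ) : ZMod p) ≠ 0 := by
        rw [Ne, ZMod.natCast_eq_zero_iff]
        intro h7
        apply hpF
        obtain ⟨r, hr⟩ := CharP.exists F
        obtain ⟨m, hrp, hm⟩ := FiniteField.card F r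
        rw [hm] at h7
        rw [(Nat.prime_dvd_prime_iff_eq hp hrp).1 (hp.dvd_of_dvd_pow h7)]
        exact CharP.cast_eq_zero F r
      exact isOfFinOrder_iff_pow_eq_one.2 ⟨p - 1, by omega, ZMod.pow_card_sub_one_eq_one h6⟩
    have he1 : e ≠ 1 := by
      rintro rfl
      apply hq
      have := (hdvd 1).2 dvd_rfl
      rwa [pow_one] at this
    have he4 : e = 2 → 4 ≤ Fintype.card F := by
      rintro rfl
      have h1 := (hdvd 2).2 dvd_rfl
      have h2 : Fintype.card F ^ 2 - 1 = (Fintype.card F + 1) * (Fintype.card F - 1) := by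
        rw [← Nat.sq_sub_sq, one_pow]
      rw [h2] at h1
      rcases (Nat.Prime.dvd_mul hp).1 h1 with h3 | h3
      · have := Nat.le_of_dvd (by omega) h3
        omega
      · exact absurd h3 hq
    rcases key ty with ⟨ty1, ty2, ty3⟩ | ⟨rfl, ty4⟩
    · rcases key tz with ⟨tz1, tz2, tz3⟩ | ⟨rfl, tz4⟩
      · have h4 := four_le_of_order hp5 ty2
        exact pair_of_ns (k := 2) le_rfl (by omega) hp hy hz hc hd (ty3 2 (by omega) (by omega))
          (tz3 2 (by omega) (by omega)) (srow_small le_rfl (by omega) (fun _ => h4) hb)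
      · have hen := ns_le tz4
        rw [hV] at hen
        rcases Nat.lt_or_eq_of_le hen with hlt | heq
        · exact pair_of_ns (k := e) (by (clear * - hq he0 he1; omega)) hlt hp hy hz hc hd (ty3 e (by omega) hen) tz4
            (srow_small (by omega) hlt he4 hb)
        · obtain ⟨x, rfl⟩ := hz.inner hn hp hq hzτ hd
          refine (spair_io' hAA hRS hp hp5 hpF hn (heq ▸ he) hd hc ?_).symm
          rintro ⟨g, rfl⟩
          exact ty1 (hy.eq_one_of_inner (by omega) hyθ)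
    · have hen := ns_le ty4
      rw [hV] at hen
      rcases Nat.lt_or_eq_of_le hen with hlt | heq
      · refine pair_of_ns (k := e) (by omega) hlt hp hy hz hc hd ty4 ?_
          (srow_small (by omega) hlt he4 hb)
        rcases key tz with ⟨-, -, tz⟩ | ⟨-, tz⟩
        · exact tz e (by omega) hen
        · exact tz
      · obtain ⟨x, rfl⟩ := hy.inner hn hp hq hyθ hc
        rcases key tz with ⟨tz, -, -⟩ | ⟨rfl, -⟩
        · refine spair_io' hAA hRS hp hp5 hpF hn (heq ▸ he) hc hd ?_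
          rintro ⟨g, rfl⟩
          exact tz (hz.eq_one_of_inner (by omega) hzτ)
        · obtain ⟨x', rfl⟩ := hz.inner hn hp hq hzτ hd
          exact spair_ii hAA hRS hp (by omega) hn (heq ▸ he) hc hd

/-- The same for all universes. -/
theorem srow_psl_cross_of (hp : p.Prime) (hp5 : 5 ≤ p) (hF : ¬ p ∣ Fintype.card F)
    (B : SBox.{u} p) {S : Type u} [Group S] [Finite S] (hb : SBelow.{u} p (Nat.card S))
    (hn : 3 ≤ n) (e : S ≃* Matrix.ProjectiveSpecialLinearGroup (Fin n) F)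
    (hC2 : n = p → p ∣ Fintype.card F - 1 →
      SRow p (Matrix.ProjectiveSpecialLinearGroup (Fin 2) F) →
      ∀ (c d : Equiv.Perm (Fin n → F)) (l : F) (τ : F ≃+* F), Semi (1 : F ≃+* F) c →
      (∀ v, (c ^ p) v = l • v) → (∀ t : F, t ^ p ≠ l) → Semi τ d → IsScal F (d ^ p) →
      ¬ IsScal F d →
      (∃ g : (Fin n → F) ≃ₗ[F] (Fin n → F), LinearEquiv.det g = 1 ∧ ∀ k : ℕ,
        ¬ IsScal F ((c * (toA g * d * (toA g)⁻¹)) ^ p ^ k)) ∧
      ((∃ g : (Fin n → F) ≃ₗ[F] (Fin n → F), LinearEquiv.det g = 1 ∧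
        ¬ Group.IsSolvable ↥(Subgroup.closure ({c, toA g * d * (toA g)⁻¹} :
          Set (Equiv.Perm (Fin n → F))))) ∨
        ∃ g : (Fin n → F) ≃ₗ[F] (Fin n → F), LinearEquiv.det g = 1 ∧
          ∃ j : ℕ, Scl F ((toA g * d * (toA g)⁻¹) ^ j) c)) : SRow p S := by
  have hpF : (p : F) ≠ 0 := by
    intro h0
    apply hF
    obtain ⟨r, hr⟩ := CharP.exists F
    obtain ⟨m, hrp, hm⟩ := FiniteField.card F r
    rw [CharP.cast_eq_zero_iff F r] at h0
    rw [hm, ← (Nat.prime_dvd_prime_iff_eq hrp hp).1 h0]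
    exact dvd_pow_self r m.pos.ne'
  refine Cfsg.Agent.H897.T5Sub.SRow.congr e.symm
    (srow_psl_of hn hp hp5 hpF (aa_down B.aa) (rs_down B.rs) ?_ hC2)
  have h1 := below_down hb
  rwa [Nat.card_congr e.toEquiv] at h1

end Cfsg.Agent.H957.S5
end

-- part: H869/S5/PslCross
section
/-!
# S2274: the cross characteristic strong row of `PSL_n(F)`, `n ≥ 3` (C1 of helper957 and C2)
-/

set_option autoImplicit false

universe u

namespace Cfsg.Agent.H869.S5

open Cfsg.Agent.H957.T5V Cfsg.Agent.H533.T5 Cfsg.Agent.H132.S5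

/-- **C2, in the form wanted by `H957.S5.srow_psl_cross_of`.** -/
theorem c2_hyp {F : Type} [Field F] [Fintype F] {n p : ℕ} (hp : p.Prime) (hp5 : 5 ≤ p)
    (hF : ¬ p ∣ Fintype.card F) (hn : n = p)
    (hrow : SRow p (Matrix.ProjectiveSpecialLinearGroup (Fin 2) F))
    (c d : Equiv.Perm (Fin n → F)) (l : F) (τ : F ≃+* F) (hc : Semi (1 : F ≃+* F) c)
    (hcl : ∀ v, (c ^ p) v = l • v) (hl : ∀ t : F, t ^ p ≠ l) (hd : Semi τ d)
    (hdp : IsScal F (d ^ p)) (hdn : ¬ IsScal F d) :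
    BV F p c d ∧ (AV F c d ∨ ∃ g : (Fin n → F) ≃ₗ[F] (Fin n → F), LinearEquiv.det g = 1 ∧
      ∃ j : ℕ, Scl F ((toA g * d * (toA g)⁻¹) ^ j) c) := by
  have hpF : (p : F) ≠ 0 := by
    intro h0
    apply hF
    have h1 : ringChar F ∣ p := (ringChar.spec F p).1 h0
    have h2 : ringChar F = p := ((Nat.dvd_prime hp).1 h1).resolve_left (CharP.ringChar_ne_one)
    rw [← h2]
    obtain ⟨n, -, hn⟩ := FiniteField.card F (ringChar F)
    rw [hn]
    exact dvd_pow_self _ n.ne_zero
  exact (c2_main hp hp5 (by rw [Module.finrank_fintype_fun_eq_card, Fintype.card_fin, hn]) hpF hrow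
    hc hl hcl hd hdp hdn).symm

/-- **The cross characteristic strong row of `PSL_n(F)`, `n ≥ 3`.** -/
theorem srow_psl_cross {F : Type} [Field F] [Fintype F] {n p : ℕ} (hp : p.Prime)
    (hp5 : 5 ≤ p) (hF : ¬ p ∣ Fintype.card F) (B : SBox.{u} p) {S : Type u} [Group S] [Finite S]
    (hb : SBelow.{u} p (Nat.card S)) (hn : 3 ≤ n)
    (e : S ≃* Matrix.ProjectiveSpecialLinearGroup (Fin n) F) : SRow p S :=
  Cfsg.Agent.H957.S5.srow_psl_cross_of hp hp5 hF B hb hn e
    (fun hnp _ hrow c d l τ hc hcl hl hd hdp hdn =>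
      c2_hyp hp hp5 hF hnp hrow c d l τ hc hcl hl hd hdp hdn)

end Cfsg.Agent.H869.S5
end

private theorem dce_9300dbade2ae : _root_.True := by
  try have : _root_.True := by simp only [_root_.powCoprime.congr_simp]
  try have : _root_.True := by simp only [_root_.Cfsg.Agent.H869.S5.b2.eq_1]
  try have : _root_.True := by simp only [_root_.Cfsg.Agent.H869.S5.b1.eq_1]
  exact _root_.True.intro
end

-- part: H212/S5/PslTwo_mg
section
prune_inst 0x85001a000940100000000580d1203e429e0004800008840084010a40068084024d800920810021014020a10400300048110000000240000004000400011800800080020030000000800016000000000000000000020000000000000000000004000000000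
set_option linter.all false
open scoped Cfsg.Agent.FastGrp

namespace Cfsg.Agent.H90F

private noncomputable def frc {α : Type} (x : ℕ) (f : ℕ → α) : α := Nat.rec (f 0) (fun k _ => f (Nat.succ k)) x

private theorem frc_eq {α : Type} (x : ℕ) (f : ℕ → α) : frc x f = f x := by cases x <;> rfl

private noncomputable def nth {α : Type} (d : α) (l : List α) : ℕ → α :=
  List.rec (fun _ => d) (fun a _ ih n => Nat.rec a (fun k _ => ih k) n) l

private theorem nth_eq {α : Type} (d : α) (l : List α) (n : ℕ) : nth d l n = l.getD n d := by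
  induction l generalizing n with
  | nil => rfl
  | cons a l ih => cases n with
    | zero => rfl
    | succ k => exact ih k

private theorem nth_arr {α : Type} (d : α) (a : Array α) (n : ℕ) : a.getD n d = nth d a.toList n := by
  rw [nth_eq, List.getD_eq_getElem?_getD, Array.getD_eq_getD_getElem?, Array.getElem?_toList]

private noncomputable def row (D : Cfsg.Lie.ChevalleyDatum) (r : ℕ) : List (ℕ × Array (ℕ × ℤ)) := (nth #[] D.chain.toList r).toList

private noncomputable def fnd (s : ℕ) (l : List (ℕ × Array (ℕ × ℤ))) : List (ℕ × ℤ) :=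
  List.rec [] (fun e _ ih => Bool.rec ih e.2.toList (Nat.beq e.1 s)) l

private theorem ce_eq0 (D : Cfsg.Lie.ChevalleyDatum) (r s : ℕ) : D.chainEntry r s = fnd s (row D r) := by
  unfold Cfsg.Lie.ChevalleyDatum.chainEntry row
  rw [nth_arr]
  generalize (nth #[] D.chain.toList r).toList = l
  induction l with
  | nil => rfl
  | cons e l ih =>
    show _ = (Bool.rec (fnd s l) e.2.toList (Nat.beq e.1 s) : List (ℕ × ℤ))
    by_cases h : e.1 = s
    · rw [List.find?_cons_of_pos (by simpa using h), Nat.beq_eq.mpr h]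
    · rw [List.find?_cons_of_neg (by simpa using h), ih, Bool.eq_false_iff.2 fun h1 => h (Nat.eq_of_beq_eq_true h1)]

private noncomputable def fce (D : Cfsg.Lie.ChevalleyDatum) (r s : ℕ) : List (ℕ × ℤ) := frc r fun r => frc s fun s => fnd s (row D r)

private theorem ce_eq (D : Cfsg.Lie.ChevalleyDatum) : D.chainEntry = fce D := by
  funext r s
  rw [fce, frc_eq, frc_eq, ce_eq0]

private noncomputable def fcr (D : Cfsg.Lie.ChevalleyDatum) (r s i : ℕ) : Option ℕ := ((fce D r s)[i - 1]?).map Prod.fst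

private theorem cr_eq (D : Cfsg.Lie.ChevalleyDatum) : D.chainRoot = fcr D := by
  funext r s i
  rw [fcr, ← ce_eq]; rfl

private noncomputable def fcm (D : Cfsg.Lie.ChevalleyDatum) (r s i : ℕ) : ℤ := (((fce D r s)[i - 1]?).map Prod.snd).getD 0

private theorem cm_eq (D : Cfsg.Lie.ChevalleyDatum) : D.chainM = fcm D := by
  funext r s i
  rw [fcm, ← ce_eq]; rfl

private noncomputable def gct (cr : ℕ → ℕ → ℕ → Option ℕ) (cm : ℕ → ℕ → ℕ → ℤ) (r s : ℕ) : List (ℕ × ℤ × ℕ × ℕ) :=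
  ([(cr r s 1, cm r s 1, 1, 1), (cr r s 2, cm r s 2, 2, 1), (cr s r 2, cm s r 2, 1, 2), (cr r s 3, cm r s 3, 3, 1),
      (cr s r 3, - cm s r 3, 1, 3),
      ((cr r s 3).bind fun k => cr k s 1, ((cr r s 1).map fun k => cm k r 2 / 3).getD 0, 3, 2),
      ((cr s r 3).bind fun k => cr k r 1, ((cr r s 1).map fun k => -2 * cm k s 2 / 3).getD 0, 2, 3)] :
    List (Option ℕ × ℤ × ℕ × ℕ)).filterMap fun c => c.1.map fun k => (k, c.2)

private theorem gct_eq (D : Cfsg.Lie.ChevalleyDatum) (r s : ℕ) : D.commTerms r s = gct (fcr D) (fcm D) r s := by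
  rw [← cr_eq, ← cm_eq]; rfl

private noncomputable def msk (l : List (ℕ × Array (ℕ × ℤ))) : ℕ := List.rec 0 (fun e _ ih => Nat.lor ih (Nat.shiftLeft 1 e.1)) l

private theorem fnd_nil {s : ℕ} {l : List (ℕ × Array (ℕ × ℤ))} (h : (msk l).testBit s = false) : fnd s l = [] := by
  induction l with
  | nil => rfl
  | cons e l ih =>
    have h1 : (msk l ||| 1 <<< e.1).testBit s = false := h
    rw [Nat.testBit_or, Bool.or_eq_false_iff, Nat.one_shiftLeft, Nat.testBit_two_pow] at h1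
    show (Bool.rec (fnd s l) e.2.toList (Nat.beq e.1 s) : List (ℕ × ℤ)) = []
    rw [Bool.eq_false_iff.2 fun h2 => of_decide_eq_false h1.2 (Nat.eq_of_beq_eq_true h2)]
    exact ih h1.1

private noncomputable def fc2 (D : Cfsg.Lie.ChevalleyDatum) (r s : ℕ) : List (ℕ × ℤ) → List (ℕ × ℤ) → List (ℕ × ℤ × ℕ × ℕ)
  | [x], [_] => [(x.1, x.2, 1, 1)]
  | _, _ => gct (fcr D) (fcm D) r s

private noncomputable def fct (D : Cfsg.Lie.ChevalleyDatum) (r s : ℕ) : List (ℕ × ℤ × ℕ × ℕ) :=
  frc r fun r => frc s fun s =>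
    Bool.rec (fc2 D r s (fnd s (row D r)) (fnd r (row D s))) []
      (Nat.beq (Nat.land (Nat.lor (Nat.shiftRight (msk (row D r)) s) (Nat.shiftRight (msk (row D s)) r)) 1) 0)

private theorem ct_eq (D : Cfsg.Lie.ChevalleyDatum) : D.commTerms = fct D := by
  funext r s
  rw [fct, frc_eq, frc_eq]
  cases h : Nat.beq (Nat.land (Nat.lor (Nat.shiftRight (msk (row D r)) s) (Nat.shiftRight (msk (row D s)) r)) 1) 0
  · show _ = fc2 D r s _ _
    rw [← ce_eq0, ← ce_eq0]
    unfold fc2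
    split
    · rename_i h1 h2
      unfold Cfsg.Lie.ChevalleyDatum.commTerms Cfsg.Lie.ChevalleyDatum.chainRoot Cfsg.Lie.ChevalleyDatum.chainM
      rw [h1, h2]; rfl
    · exact gct_eq D r s
  · have h1 : ((msk (row D r) >>> s ||| msk (row D s) >>> r)).testBit 0 = false := by
      have h2 : (msk (row D r) >>> s ||| msk (row D s) >>> r) &&& 1 = 0 := Nat.eq_of_beq_eq_true h
      rw [Nat.and_one_is_mod] at h2
      rw [Nat.testBit_zero, h2]; rfl
    rw [Nat.testBit_or, Bool.or_eq_false_iff, Nat.testBit_shiftRight, Nat.testBit_shiftRight, Nat.add_zero, Nat.add_zero] at h1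
    show _ = []
    unfold Cfsg.Lie.ChevalleyDatum.commTerms Cfsg.Lie.ChevalleyDatum.chainRoot Cfsg.Lie.ChevalleyDatum.chainM
    rw [ce_eq0 D r s, ce_eq0 D s r, fnd_nil h1.1, fnd_nil h1.2]; rfl

private theorem ct_fun : Cfsg.Lie.ChevalleyDatum.commTerms = fct := funext ct_eq

private noncomputable def fng (D : Cfsg.Lie.ChevalleyDatum) (r : ℕ) : ℕ := frc r (nth 0 D.negIdx.toList)

private theorem ng_eq (D : Cfsg.Lie.ChevalleyDatum) : D.neg = fng D := by
  funext r
  rw [fng, frc_eq]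
  exact nth_arr _ _ _

private theorem ng_fun : Cfsg.Lie.ChevalleyDatum.neg = fng := funext ng_eq

private noncomputable def fld {α : Type} (l : List α) (n : ℕ) (d : α) : α := frc n (nth d l)

private theorem ld_eq {α : Type} (l : List α) (n : ℕ) (d : α) : l.getD n d = fld l n d := by
  rw [fld, frc_eq, nth_eq]

private theorem ld_fun : @List.getD.{0} = @fld := by
  funext α a n d; exact ld_eq a n d

private noncomputable def dOf {P : Prop} (b : Bool) (h : b = true ↔ P) : Decidable P :=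
  Bool.rec (motive := fun c => b = c → Decidable P) (fun e => isFalse fun hp => Bool.noConfusion (e.symm.trans (h.2 hp)))
    (fun e => isTrue (h.1 e)) b rfl

private noncomputable def flt (n : ℕ) (p : ∀ k, k < n → Bool) (m : ℕ) : Bool :=
  Nat.rec true (fun k ih => Bool.rec false ih
    (Bool.rec (motive := fun b => Nat.ble (Nat.succ k) n = b → Bool) (fun _ => true)
      (fun h => p k (Nat.le_of_ble_eq_true h)) (Nat.ble (Nat.succ k) n) rfl)) m

private theorem flt_one (n : ℕ) (p : ∀ k, k < n → Bool) (k : ℕ) (b : Bool) (e : Nat.ble (Nat.succ k) n = b) :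
    (Bool.rec (motive := fun b => Nat.ble (Nat.succ k) n = b → Bool) (fun _ => true)
      (fun h => p k (Nat.le_of_ble_eq_true h)) b e : Bool) = true ↔ ∀ h, p k h = true := by
  cases b
  · exact ⟨fun _ h => absurd (Nat.ble_eq_true_of_le h) (by rw [e]; exact Bool.false_ne_true), fun _ => rfl⟩
  · exact ⟨fun h _ => h, fun h => h _⟩

private theorem flt_iff (n : ℕ) (p : ∀ k, k < n → Bool) (m : ℕ) :
    flt n p m = true ↔ ∀ k, k < m → ∀ h, p k h = true := by
  induction m with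
  | zero => exact ⟨fun _ k h => absurd h (Nat.not_lt_zero k), fun _ => rfl⟩
  | succ m ih =>
    have e : ∀ a b : Bool, (Bool.rec false a b : Bool) = true ↔ b = true ∧ a = true := by decide
    refine (e _ _).trans ((and_congr (flt_one n p m _ rfl) ih).trans ⟨fun h k hk => ?_, fun h => ⟨h m (Nat.lt_succ_self m), fun k hk => h k (Nat.lt_succ_of_lt hk)⟩⟩)
    rcases Nat.lt_succ_iff_lt_or_eq.1 hk with h1 | h1
    · exact h.2 k h1
    · exact h1 ▸ h.1

private noncomputable def fff {n : ℕ} (P : Fin n → Prop) [H : DecidablePred P] : Decidable (∀ i, P i) :=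
  dOf (flt n (fun k h => @decide _ (H ⟨k, h⟩)) n)
    ((flt_iff _ _ _).trans ⟨fun h k => of_decide_eq_true (h k.1 k.2 k.2), fun h k _ hk => decide_eq_true (h ⟨k, hk⟩)⟩)

private theorem ff_fun : @Nat.decidableForallFin = @fff := by
  funext n P H; exact Subsingleton.elim _ _

private noncomputable def flb {α : Type} (e : α → α → Bool) (l : List α) : List α → Bool :=
  List.rec (motive := fun _ => List α → Bool) (fun m => List.rec true (fun _ _ _ => false) m)
    (fun a _ ih m => List.rec false (fun b m _ => Bool.rec false (ih m) (e a b)) m) l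

private theorem fle_iff {α : Type} [H : DecidableEq α] (l m : List α) :
    flb (fun a b => @decide _ (H a b)) l m = true ↔ l = m := by
  induction l generalizing m with
  | nil =>
    cases m with
    | nil => exact ⟨fun _ => rfl, fun _ => rfl⟩
    | cons b m => exact ⟨fun h => Bool.noConfusion h, fun h => nomatch h⟩
  | cons a l ih =>
    cases m with
    | nil => exact ⟨fun h => Bool.noConfusion h, fun h => nomatch h⟩
    | cons b m =>
      have e : ∀ a b : Bool, (Bool.rec false a b : Bool) = true ↔ b = true ∧ a = true := by decide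
      exact (e _ _).trans ((and_congr decide_eq_true_iff (ih m)).trans List.cons_eq_cons.symm)

private theorem le_fun : @instDecidableEqList.{0} =
    fun α H l m => dOf (flb (fun a b => @decide _ (H a b)) l m) (@fle_iff α H l m) := by
  funext α H l m; exact Subsingleton.elim _ _

private noncomputable def fal {α : Type} (l : List α) (p : α → Bool) : Bool :=
  List.rec true (fun a _ ih => Bool.rec false ih (p a)) l

private theorem al_fun : @List.all.{0} = @fal := by
  funext α l p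
  induction l with
  | nil => rfl
  | cons a l ih => rw [List.all_cons, ih]; show _ = (Bool.rec false (fal l p) (p a) : Bool); cases p a <;> rfl

private noncomputable def fmp {α β : Type} (f : α → β) (l : List α) : List β := List.rec [] (fun a _ ih => f a :: ih) l

private theorem mp_fun : @List.map.{0, 0} = @fmp := by
  funext α β f l
  induction l with
  | nil => rfl
  | cons a l ih => rw [List.map_cons, ih]; rfl

private noncomputable def ffl {α : Type} (p : α → Bool) (l : List α) : List α :=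
  List.rec [] (fun a _ ih => Bool.rec ih (a :: ih) (p a)) l

private theorem fl_fun : @List.filter.{0} = @ffl := by
  funext α p l
  induction l with
  | nil => rfl
  | cons a l ih =>
    rw [List.filter_cons, ih]; show _ = (Bool.rec (ffl p l) (a :: ffl p l) (p a) : List α); cases p a <;> rfl

private noncomputable def fap {α : Type} (l m : List α) : List α := List.rec m (fun a _ ih => a :: ih) l

private theorem fap_eq {α : Type} (l m : List α) : l ++ m = fap l m := by
  induction l with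
  | nil => rfl
  | cons a l ih => rw [List.cons_append, ih]; rfl

private noncomputable def ffm {α β : Type} (f : α → List β) (l : List α) : List β := List.rec [] (fun a _ ih => fap (f a) ih) l

private theorem fm_fun : @List.flatMap.{0, 0} = @ffm := by
  funext α β f l
  induction l with
  | nil => rfl
  | cons a l ih => rw [List.flatMap_cons, ih, fap_eq]; rfl

private theorem dl_fun : Nat.decLt = fun a b => dOf (Nat.ble (Nat.succ a) b) Nat.ble_eq.to_iff := by
  funext a b; exact Subsingleton.elim _ _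

private theorem dn_fun : instDecidableEqNat = fun a b => dOf (Nat.beq a b) Nat.beq_eq.to_iff := by
  funext a b; exact Subsingleton.elim _ _

private noncomputable def ibq (a b : ℤ) : Bool :=
  Int.rec (fun m => Int.rec (fun n => Nat.beq m n) (fun _ => false) b) (fun m => Int.rec (fun _ => false) (fun n => Nat.beq m n) b) a

private theorem ibq_iff (a b : ℤ) : ibq a b = true ↔ a = b := by
  rcases a with m | m <;> rcases b with n | n
  · exact Nat.beq_eq.to_iff.trans ⟨fun h => h ▸ rfl, Int.ofNat.inj⟩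
  · exact ⟨fun h => Bool.noConfusion h, fun h => nomatch h⟩
  · exact ⟨fun h => Bool.noConfusion h, fun h => nomatch h⟩
  · exact Nat.beq_eq.to_iff.trans ⟨fun h => h ▸ rfl, Int.negSucc.inj⟩

private theorem dz_fun : Int.instDecidableEq = fun a b => dOf (ibq a b) (ibq_iff a b) := by
  funext a b; exact Subsingleton.elim _ _

private theorem fq_fun : instDecidableEqFin = fun _ a b => dOf (Nat.beq a.1 b.1) (Nat.beq_eq.to_iff.trans Fin.ext_iff.symm) := by
  funext n a b; exact Subsingleton.elim _ _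

end Cfsg.Agent.H90F

-- part: H212/S5/PslTwo
section
/-!
# S2274-R1: the strong row of `PSL₂(q)`, `p` prime to `q`

* `exists_fix_sq` : `σ` of odd order: every unit is a fixed unit times a square;
* `conj_inn` : the field automorphism `σ` of odd order: the `PGL₂(q)`-class is a `PSL₂(q)`-class;
* `outerOk_psl2`, `homOk_psl2` : the outer automorphisms of order `p`;
* **`srow_psl2_cross`** : the strong row.
-/

set_option autoImplicit false

universe u

namespace Cfsg.Agent.H212.S5.PslTwo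

open Cfsg Subgroup Matrix Cfsg.Agent.H533.T5 Cfsg.Agent.H106.MT Cfsg.Agent.H28.T5Ok Cfsg.Agent.H28.T5Mid
open Cfsg.Agent.H199.PslAut Cfsg.Agent.H199.PslField Cfsg.Agent.H132.S5 Cfsg.Agent.H242.StrP.FC
open Cfsg.Agent.ClassicalGeometry.AutPSL.Root
open Cfsg.Agent.ClassicalGeometry.AutPSL.Auto
open Cfsg.Agent.ClassicalGeometry.AutPSL.Main

/-- Every unit is a fixed unit times a square. -/
theorem exists_fix_sq {F : Type*} [Field F] [Finite F] {σ : F ≃+* F} (hσ : Odd (orderOf σ)) (u : F) (hu : u ≠ 0) :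
    ∃ a b : F, a ≠ 0 ∧ b ≠ 0 ∧ σ a = a ∧ u = a * b ^ 2 := by
  obtain ⟨k, hk⟩ := hσ
  have hpow : ∀ i : ℕ, σ ((σ ^ i) u) = (σ ^ (i + 1)) u := fun i => by
    rw [pow_succ']
    rfl
  obtain ⟨N, hN⟩ : ∃ N : F, N = ∏ i ∈ Finset.range (2 * k + 1), (σ ^ i) u := ⟨_, rfl⟩
  have hN0 : N ≠ 0 := by
    rw [hN]
    exact Finset.prod_ne_zero_iff.2 fun i _ => (map_ne_zero _).2 hu
  have hσN : σ N = N := by
    have h1 : σ N = ∏ i ∈ Finset.range (2 * k + 1), (σ ^ (i + 1)) u := by
      rw [hN, map_prod]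
      exact Finset.prod_congr rfl fun i _ => hpow i
    have h2 := Finset.prod_range_succ' (fun i => (σ ^ i) u) (2 * k + 1)
    have h3 := Finset.prod_range_succ (fun i => (σ ^ i) u) (2 * k + 1)
    have h4 : (σ ^ (2 * k + 1)) u = u := by
      rw [← hk, pow_orderOf_eq_one]
      rfl
    have h5 : (σ ^ 0) u = u := by
      rw [pow_zero]
      rfl
    rw [h2, ← h1, ← hN] at h3
    simp only [h4, h5] at h3
    exact mul_right_cancel₀ hu h3
  have hsq : IsSquare (∏ i ∈ Finset.range (2 * k + 1), (u * (σ ^ i) u)) :=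
    Finset.prod_induction _ IsSquare (fun _ _ ha hb => ha.mul hb) IsSquare.one
      fun i _ => Cfsg.Agent.Lib.AutSL2Out.isSquare_mul_map (σ ^ i) u
  rw [Finset.prod_mul_distrib, Finset.prod_const, Finset.card_range, ← hN] at hsq
  obtain ⟨c, hc⟩ := hsq
  have huk : u ^ k ≠ 0 := pow_ne_zero _ hu
  have hc0 : c ≠ 0 := by
    rintro rfl
    rw [mul_zero] at hc
    exact mul_ne_zero (pow_ne_zero _ hu) hN0 hc
  refine ⟨N⁻¹, c / u ^ k, inv_ne_zero hN0, div_ne_zero hc0 huk, by rw [map_inv₀, hσN], ?_⟩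
  rw [div_pow, pow_two c, ← hc]
  field_simp
  ring

section

variable {F : Type*} [Field F] [Fintype F]

/-- A `PGL₂`-conjugate of a field automorphism of odd order is a `PSL₂`-conjugate. -/
theorem conj_inn {σ : F ≃+* F} (hσ : Odd (orderOf σ)) {x : MulAut (ProjectiveSpecialLinearGroup (Fin 2) F)}
    (h : IsConjUnder (inndiagPSL 2 F) (phi 2 F σ) x) :
    ∃ g, x = MulAut.conj g * phi 2 F σ * (MulAut.conj g)⁻¹ := by
  obtain ⟨δ, hδ, rfl⟩ := h
  obtain ⟨w, rfl⟩ := mem_inndiag.1 hδ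
  obtain ⟨K, hK, -⟩ := card_fix σ
  have hj : ∀ a, σ a = a ↔ ∃ b : K, K.subtype b = a := fun a =>
    ⟨fun h => ⟨⟨a, (hK a).2 h⟩, rfl⟩, fun ⟨b, hb⟩ => hb ▸ (hK _).1 b.2⟩
  obtain ⟨a, b, ha, hb, hσa, hu⟩ := exists_fix_sq hσ ((GeneralLinearGroup.det w : Fˣ) : F) (Units.ne_zero _)
  obtain ⟨h, hh⟩ := GeneralLinearGroup.det_surjective (n := Fin 2) (R := K)
    (Units.mk0 (⟨a, (hK a).2 hσa⟩ : K) (fun h0 => ha (congrArg Subtype.val h0)))
  obtain ⟨z, hz⟩ : ∃ z, z = scal 2 F (Units.mk0 b hb) * GeneralLinearGroup.map K.subtype h := ⟨_, rfl⟩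
  have hzc : Psi 2 F z ∈ Subgroup.centralizer {phi 2 F σ} := (comm_phi_iff le_rfl hj z).2 ⟨_, h, hz⟩
  have hdh : GeneralLinearGroup.det (GeneralLinearGroup.map K.subtype h) = Units.mk0 a ha := by
    apply Units.ext
    have h1 : (((GeneralLinearGroup.det h : Kˣ) : K) : F) = a := by rw [hh]; rfl
    rw [Units.val_mk0, ← h1]
    change ((h : Matrix (Fin 2) (Fin 2) K).map K.subtype).det = K.subtype ((h : Matrix (Fin 2) (Fin 2) K).det)
    rw [RingHom.map_det]
    rfl
  have hdz : GeneralLinearGroup.det z = GeneralLinearGroup.det w := by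
    rw [hz, map_mul, det_scal, hdh]
    apply Units.ext
    rw [hu, Units.val_mul, Units.val_pow_eq_pow_val, Units.val_mk0, Units.val_mk0]
    ring
  have hdet : ((w * z⁻¹ : GL (Fin 2) F) : Matrix (Fin 2) (Fin 2) F).det = 1 := by
    have h1 : GeneralLinearGroup.det (w * z⁻¹) = 1 := by rw [map_mul, map_inv, hdz, mul_inv_cancel]
    exact congrArg Units.val h1
  obtain ⟨s, hs⟩ : ∃ s : _root_.Matrix.SpecialLinearGroup (Fin 2) F, (s : GL (Fin 2) F) = w * z⁻¹ :=
    ⟨⟨_, hdet⟩, Units.ext rfl⟩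
  have hw : Psi 2 F w = MulAut.conj (pr s) * Psi 2 F z := by
    rw [← Psi_coe, hs, map_mul, map_inv, inv_mul_cancel_right]
  refine ⟨pr s, ?_⟩
  have hcomm : Psi 2 F z * phi 2 F σ = phi 2 F σ * Psi 2 F z := (Subgroup.mem_centralizer_singleton_iff.1 hzc)
  rw [hw, mul_assoc (MulAut.conj (pr s)), hcomm, _root_.mul_inv_rev]
  group

end

section

variable {F : Type} [Field F] [Fintype F] {p : ℕ}

/-- The form of the outer automorphisms of order `p`. -/
theorem form (h4 : 4 ≤ Fintype.card F) (hp : p.Prime) (h5 : 5 ≤ p)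
    {x : MulAut (ProjectiveSpecialLinearGroup (Fin 2) F)} (hx : orderOf x = p) (hxo : ¬ ∃ g, x = MulAut.conj g) :
    ∃ σ : F ≃+* F, orderOf σ = p ∧ ∃ g, x = MulAut.conj g * phi 2 F σ * (MulAut.conj g)⁻¹ := by
  have hs : IsSimpleGroup (ProjectiveSpecialLinearGroup (Fin 2) F) := simple_psl le_rfl fun _ => h4
  have hfin : Finite (ProjectiveSpecialLinearGroup (Fin 2) F) := Cfsg.Agent.H452.FprPsl2.pfin
  have hZ : center (ProjectiveSpecialLinearGroup (Fin 2) F) = ⊥ := Cfsg.Agent.H163.PG.center_of_simple (not_comm_psl hs)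
  rcases Cfsg.Agent.H163.PG.psl_types le_rfl hp hx with h | ⟨σ, hσ, h⟩ | ⟨h, -⟩ | ⟨h, -⟩
  · refine absurd (inner_of_coprime (relIndex_psl le_rfl hZ) hp ?_ h hx) hxo
    intro h1
    have h2 := Nat.le_of_dvd (by norm_num) (h1.trans (Nat.gcd_dvd_left _ _))
    omega
  · exact ⟨σ, hσ, conj_inn (by rw [hσ]; exact hp.odd_of_ne_two (by omega)) h⟩
  · (clear * - h5 h; omega)
  · omega

theorem outerOk_psl2 (h4 : 4 ≤ Fintype.card F) (hp : p.Prime) (h5 : 5 ≤ p) (hF : ¬ p ∣ Fintype.card F) :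
    OuterOk p (ProjectiveSpecialLinearGroup (Fin 2) F) where
  sb d hd hdo hpY := by
    have := Fact.mk hp
    obtain ⟨q₀, N₀, hN₀, -, hs, hna, -, N, h1, h2, ⟨e⟩, h3⟩ := fix_psl.{0} (n := 2) le_rfl (fun _ => h4) (p := p)
      (by omega) (fun h => by omega) hd hdo hpY (fun P => Cfsg.Agent.H452.FprPsl2.psl_cyclic (by omega) hF P)
    refine ⟨N, h1, h2, e.isSimpleGroup, fun hc => hna ⟨⟨fun a b => e.symm.injective ?_⟩⟩, h3⟩
    rw [map_mul, map_mul]
    exact hc.is_comm.comm _ _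
  conj c d hc hd hco hdo := by
    have := Fact.mk hp
    have hfinR : Finite (F ≃+* F) := Cfsg.Agent.H28.T5RankOne.finite_ringAut F
    have hcyc : IsCyclic (F ≃+* F) := LieRecognition.FieldSemilinear.isCyclic_ringAut F
    obtain ⟨σ, hσ, g, rfl⟩ := form h4 hp h5 hc hco
    obtain ⟨τ, hτ, g', rfl⟩ := form h4 hp h5 hd hdo
    obtain ⟨j, hj⟩ := mem_zpowers_iff.1 (Cfsg.Agent.H106.MT.mem_zpowers_of_cyclic hp hσ hτ)
    refine ⟨(MulAut.conj (g * g'⁻¹) :), ⟨_, rfl⟩, j, ?_⟩
    have h1 : MulAut.conj (g * g'⁻¹) * (MulAut.conj g' * phi 2 F τ * (MulAut.conj g')⁻¹) *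
        (MulAut.conj (g * g'⁻¹))⁻¹ = MulAut.conj g * phi 2 F τ * (MulAut.conj g)⁻¹ := by
      rw [map_mul, map_inv]
      group
    rw [h1, conj_zpow, ← map_zpow, hj]

end

/-- **The strong row of `PSL₂(q)`, `p` prime to `q`.** -/
theorem srow_psl2_cross {p : ℕ} (hp : p.Prime) (h5 : 5 ≤ p) {F : Type} [Field F] [Fintype F]
    (hF : ¬ p ∣ Fintype.card F) (B : SBox.{u} p) {S : Type u} [Group S] [Finite S] [IsSimpleGroup S]
    (hna : ¬ IsMulCommutative S) (e : S ≃* ProjectiveSpecialLinearGroup (Fin 2) F) : SRow p S := by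
  have := Fact.mk hp
  have hp2 : p ≠ 2 := by omega
  have h4 : 4 ≤ Fintype.card F := Cfsg.Agent.H436.TT.four_le hna e
  have hfin : Finite (ProjectiveSpecialLinearGroup (Fin 2) F) := Cfsg.Agent.H452.FprPsl2.pfin
  have hs : IsSimpleGroup (ProjectiveSpecialLinearGroup (Fin 2) F) := simple_psl le_rfl fun _ => h4
  have hcyc : ∀ P : Sylow p (ProjectiveSpecialLinearGroup (Fin 2) F),
      IsCyclic ↥(P : Subgroup (ProjectiveSpecialLinearGroup (Fin 2) F)) := fun P =>
    Cfsg.Agent.H452.FprPsl2.psl_cyclic hp2 hF P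
  obtain ⟨P⟩ : Nonempty (Sylow p S) := inferInstance
  have hP : IsCyclic ↥(P : Subgroup S) := by
    have h1 := Cfsg.Agent.H28.T5RankOne.cyclic_of_sylow hcyc
      ((P : Subgroup S).map (e : S →* ProjectiveSpecialLinearGroup (Fin 2) F)) (P.2.map _)
    exact isCyclic_of_surjective (e.subgroupMap _).symm (e.subgroupMap _).symm.surjective
  exact srow_of_ok B.aa B.rs hp hna (OuterOk.congr e (outerOk_psl2 h4 hp h5 hF))
    (HomOk.congr e (HomOk.of_cyclic hp (not_comm_psl hs) (Cfsg.Agent.H28.T5RankOne.cyclic_of_sylow hcyc)))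
    (fun x y hx hy => spair_of_cyclic B.aa B.rs hna P hP hx hy)

end Cfsg.Agent.H212.S5.PslTwo
end

-- part: H442/S5/Cop
section
/-!
# Two tools for the strong rows (helper442)

* `bpair_of_coprime` : part (b) for two powers `c`, `c ^ m` of an automorphism `c` of order `p` of a `p'`-group `V` with
  `[V, c] ∩ C_V(c) ≠ 1`;
* `exists_not_mem_zpowers` : not all conjugates of an automorphism of a simple group normalise `⟨x⟩`.
-/

set_option autoImplicit false

universe u

namespace Cfsg.Agent.H442.S5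

open Cfsg.Agent.H533.T5 Cfsg.Agent.H132.S5

section cop

variable {A : Type*} [Group A] [Finite A] {p : ℕ} [hpf : Fact p.Prime]

theorem bpair_of_coprime (V : Subgroup A) [hV : V.Normal] (hpV : ¬ p ∣ Nat.card V) {c : A} (hc : orderOf c = p) {m : ℕ}
    (hm : m.Coprime p) {z : A} (hz : z ∈ V) (hz1 : z ≠ 1) (hzc : Commute z c)
    (hzcl : z ∈ Subgroup.closure {y : A | ∃ v ∈ V, y = c⁻¹ * v * c * v⁻¹}) : BPair p V c (c ^ m) := by
  classical
  have hp : p.Prime := hpf.out
  have hcp : c ^ p = 1 := by rw [← hc, pow_orderOf_eq_one]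
  by_contra hcon
  have hcon' : ∀ g ∈ V, ∃ k : ℕ, (c * (g * c ^ m * g⁻¹)) ^ p ^ k = 1 := by
    intro g hg
    by_contra h
    push Not at h
    exact hcon ⟨g, hg, h⟩
  have htriv : ∀ y ∈ V, (∃ k : ℕ, y ^ p ^ k = 1) → y = 1 := by
    rintro y hy ⟨k, hk⟩
    have h1 : orderOf y ∣ p ^ k := orderOf_dvd_of_pow_eq_one hk
    have h2 : orderOf y ∣ Nat.card V := by
      have h3 : orderOf (⟨y, hy⟩ : ↥V) ∣ Nat.card V := orderOf_dvd_natCard _
      rwa [Subgroup.orderOf_mk] at h3
    have h3 : Nat.Coprime (p ^ k) (Nat.card V) := ((Nat.Prime.coprime_iff_not_dvd hp).2 hpV).pow_left k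
    exact orderOf_eq_one_iff.1 (Nat.dvd_one.1 (h3 ▸ Nat.dvd_gcd h1 h2))
  obtain ⟨D, hD⟩ : ∃ D : Set A, D = {y | ∃ v ∈ V, y = v * c ^ m * v⁻¹} := ⟨_, rfl⟩
  obtain ⟨E, hE⟩ : ∃ E : Set A, E = {y | ∃ v ∈ V, y = v * c ^ (m + 1) * v⁻¹} := ⟨_, rfl⟩
  -- `c D ⊆ E`
  have h1 : (fun y => c * y) '' D ⊆ E := by
    rintro _ ⟨y, hy, rfl⟩
    rw [hD] at hy
    obtain ⟨v, hv, rfl⟩ := hy
    rw [hE]
    obtain ⟨k, hk⟩ := hcon' v hv
    show ∃ w ∈ V, c * (v * c ^ m * v⁻¹) = w * c ^ (m + 1) * w⁻¹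
    obtain ⟨x, hx⟩ : ∃ x, x = c * (v * c ^ m * v⁻¹) := ⟨_, rfl⟩
    rw [← hx] at hk ⊢
    have hxV : x * (c ^ (m + 1))⁻¹ ∈ V := by
      have h2 : x * (c ^ (m + 1))⁻¹ = (c * v * c⁻¹) * (c ^ (m + 1) * v⁻¹ * (c ^ (m + 1))⁻¹) := by
        rw [hx, pow_succ']; group
      rw [h2]
      exact mul_mem (hV.conj_mem _ hv _) (hV.conj_mem _ (inv_mem hv) _)
    have hxp : x ^ p = 1 := by
      have h2 : x ^ p ∈ V := by
        have h3 : (QuotientGroup.mk' V) x = (QuotientGroup.mk' V) (c ^ (m + 1)) := by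
          rw [← mul_inv_eq_one, ← map_inv, ← map_mul, QuotientGroup.mk'_apply, QuotientGroup.eq_one_iff]
          exact hxV
        rw [← QuotientGroup.eq_one_iff, ← QuotientGroup.mk'_apply, map_pow, h3, ← map_pow, ← pow_mul, mul_comm, pow_mul,
          hcp, one_pow, map_one]
      refine htriv _ h2 ⟨k, ?_⟩
      rw [← pow_mul, mul_comm, pow_mul, hk, one_pow]
    by_cases hdiv : p ∣ m + 1
    · obtain ⟨l, hl⟩ := hdiv
      have h3 : c ^ (m + 1) = 1 := by rw [hl, pow_mul, hcp, one_pow]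
      refine ⟨1, one_mem _, ?_⟩
      rw [h3, inv_one, mul_one] at hxV
      rw [htriv x hxV ⟨k, hk⟩, h3]
      group
    · have h3 : orderOf (c ^ (m + 1)) = p := by
        rw [Nat.Coprime.orderOf_pow, hc]
        rw [hc]
        exact (Nat.Prime.coprime_iff_not_dvd hp).2 hdiv
      obtain ⟨i, hi, h4⟩ := conj_of_coprime V hpV hxp h3 hxV
      exact ⟨i, hi, h4⟩
  -- `|E| ≤ |D|`
  have h2 : E.ncard ≤ ((fun y => c * y) '' D).ncard := by
    rw [Set.ncard_image_of_injective _ (mul_right_injective c)]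
    obtain ⟨j, hj⟩ : ∃ j : ℕ, c ^ (m + 1) = (c ^ m) ^ j := by
      have h3 : orderOf (c ^ m) = p := by
        rw [Nat.Coprime.orderOf_pow, hc]
        rw [hc]
        exact hm.symm
      have h4 : Subgroup.zpowers (c ^ m) = Subgroup.zpowers c := by
        apply Subgroup.eq_of_le_of_card_ge
        · rw [Subgroup.zpowers_le]
          exact Subgroup.npow_mem_zpowers c m
        · rw [Nat.card_zpowers, Nat.card_zpowers, h3, hc]
      have h5 : c ^ (m + 1) ∈ Subgroup.zpowers (c ^ m) := by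
        rw [h4]
        exact Subgroup.npow_mem_zpowers c (m + 1)
      obtain ⟨j, hj⟩ := (isOfFinOrder_of_finite (c ^ m)).mem_powers_iff_mem_zpowers.2 h5
      exact ⟨j, hj.symm⟩
    have h3 : E = (fun y => y ^ j) '' D := by
      ext y
      constructor
      · intro hy
        rw [hE] at hy
        obtain ⟨v, hv, rfl⟩ := hy
        refine ⟨v * c ^ m * v⁻¹, by rw [hD]; exact ⟨v, hv, rfl⟩, ?_⟩
        show (v * c ^ m * v⁻¹) ^ j = _
        rw [conj_pow, hj]
      · rintro ⟨x, hx, rfl⟩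
        rw [hD] at hx
        obtain ⟨v, hv, rfl⟩ := hx
        rw [hE]
        refine ⟨v, hv, ?_⟩
        show (v * c ^ m * v⁻¹) ^ j = _
        rw [conj_pow, hj]
    rw [h3]
    exact Set.ncard_image_le (Set.toFinite _)
  have h3 : (fun y => c * y) '' D = E := Set.eq_of_subset_of_ncard_le h1 h2 (Set.toFinite _)
  -- `D` is stable under the commutators
  have h4 : ∀ v ∈ V, ∀ y ∈ D, c⁻¹ * v * c * v⁻¹ * y ∈ D := by
    intro v hv y hy
    have h5 : v * (c * (v⁻¹ * y * v)) * v⁻¹ ∈ E := by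
      have h6 : c * (v⁻¹ * y * v) ∈ E := by
        rw [← h3]
        refine ⟨v⁻¹ * y * v, ?_, rfl⟩
        rw [hD] at hy ⊢
        obtain ⟨w, hw, rfl⟩ := hy
        exact ⟨v⁻¹ * w, mul_mem (inv_mem hv) hw, by group⟩
      rw [hE] at h6 ⊢
      obtain ⟨w, hw, h7⟩ := h6
      exact ⟨v * w, mul_mem hv hw, by rw [h7]; group⟩
    rw [← h3] at h5
    obtain ⟨y', hy', h6⟩ := h5
    have h7 : c * y' = v * (c * (v⁻¹ * y * v)) * v⁻¹ := h6
    have h8 : c⁻¹ * v * c * v⁻¹ * y = y' := by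
      calc c⁻¹ * v * c * v⁻¹ * y = c⁻¹ * (v * (c * (v⁻¹ * y * v)) * v⁻¹) := by group
        _ = y' := by rw [← h7]; group
    rw [h8]
    exact hy'
  have h5 : ∀ w ∈ Subgroup.closure {y : A | ∃ v ∈ V, y = c⁻¹ * v * c * v⁻¹}, ∀ y ∈ D, w * y ∈ D := by
    intro w hw
    induction hw using Subgroup.closure_induction with
    | mem w hw =>
      obtain ⟨v, hv, rfl⟩ := hw
      exact h4 v hv
    | one => intro y hy; rwa [one_mul]
    | mul a b _ _ ha hb =>
      intro y hy
      rw [mul_assoc]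
      exact ha _ (hb _ hy)
    | inv a _ ha =>
      intro y hy
      have h6 : ∀ (k : ℕ), a ^ k * y ∈ D := by
        intro k
        induction k with
        | zero => rwa [pow_zero, one_mul]
        | succ k ih => rw [pow_succ', mul_assoc]; exact ha _ ih
      obtain ⟨k, hk⟩ := (isOfFinOrder_of_finite a).mem_powers_iff_mem_zpowers.2
        (inv_mem (Subgroup.mem_zpowers a))
      have hk' : a ^ k = a⁻¹ := hk
      rw [← hk']
      exact h6 k
  have h6 : z * c ^ m ∈ D := h5 z hzcl (c ^ m) (by rw [hD]; exact ⟨1, one_mem _, by group⟩)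
  rw [hD] at h6
  obtain ⟨v, -, h7⟩ := h6
  have h8 : (z * c ^ m) ^ p = 1 := by
    rw [h7, conj_pow, ← pow_mul, mul_comm m p, pow_mul, hcp, one_pow, mul_one, mul_inv_cancel]
  rw [(hzc.pow_right m).mul_pow, ← pow_mul, mul_comm m p, pow_mul, hcp, one_pow, mul_one] at h8
  exact hz1 (htriv z hz ⟨1, by rw [pow_one]; exact h8⟩)

/-- the commutators with the powers of `c` -/
theorem mem_closure_pow (V : Subgroup A) [hV : V.Normal] (c : A) (j : ℕ) {v : A} (hv : v ∈ V) :
    (c ^ j)⁻¹ * v * c ^ j * v⁻¹ ∈ Subgroup.closure {y : A | ∃ v ∈ V, y = c⁻¹ * v * c * v⁻¹} := by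
  induction j with
  | zero =>
    rw [pow_zero]
    have : (1 : A)⁻¹ * v * 1 * v⁻¹ = 1 := by group
    rw [this]
    exact one_mem _
  | succ j ih =>
    have h1 : (c ^ (j + 1))⁻¹ * v * c ^ (j + 1) * v⁻¹ =
        (c⁻¹ * ((c ^ j)⁻¹ * v * c ^ j) * c * ((c ^ j)⁻¹ * v * c ^ j)⁻¹) * ((c ^ j)⁻¹ * v * c ^ j * v⁻¹) := by
      rw [pow_succ]; group
    rw [h1]
    refine mul_mem (Subgroup.subset_closure ⟨_, ?_, rfl⟩) ih
    have := hV.conj_mem _ hv (c ^ j)⁻¹
    rwa [inv_inv] at this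

end cop

section simple

variable {S : Type*} [Group S] [Finite S]

/-- Not all the conjugates of an automorphism of a simple group normalise `⟨x⟩`. -/
theorem exists_not_mem_zpowers [IsSimpleGroup S] (hna : ¬ IsMulCommutative S) {x : S} (hx : x ≠ 1) {d : MulAut S}
    (hd : d ≠ 1) : ∃ g : S, (MulAut.conj g * d * (MulAut.conj g)⁻¹) x ∉ Subgroup.zpowers x := by
  by_contra hcon
  push Not at hcon
  have h0 : d x ∈ Subgroup.zpowers x := by simpa using hcon 1
  have hz : Subgroup.zpowers (d x) = Subgroup.zpowers x := by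
    apply Subgroup.eq_of_le_of_card_ge
    · rw [Subgroup.zpowers_le]; exact h0
    · rw [Nat.card_zpowers, Nat.card_zpowers, MulEquiv.orderOf_eq]
  -- `g d(g)⁻¹` normalises `⟨x⟩`
  have h1 : ∀ g : S, g * (d g)⁻¹ ∈ Subgroup.normalizer (Subgroup.zpowers x : Set S) := by
    intro g
    have h2 := hcon g
    have h3 : (MulAut.conj g * d * (MulAut.conj g)⁻¹) x = (g * (d g)⁻¹) * d x * (g * (d g)⁻¹)⁻¹ := by
      rw [MulAut.mul_apply, MulAut.mul_apply, ← map_inv, MulAut.conj_apply, MulAut.conj_apply]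
      simp only [map_mul, map_inv]
      group
    rw [h3] at h2
    apply Subgroup.mem_normalizer_fintype
    intro n hn
    rw [SetLike.mem_coe, ← hz] at hn
    obtain ⟨k, rfl⟩ := Subgroup.mem_zpowers_iff.1 hn
    rw [← conj_zpow, ← h3]
    exact Subgroup.zpow_mem _ (hcon g) k
  -- the normal subgroup generated by them
  obtain ⟨M, hM⟩ : ∃ M : Subgroup S, M = Subgroup.closure {y : S | ∃ g : S, y = g * (d g)⁻¹} := ⟨_, rfl⟩
  have hMn : M.Normal := by
    refine ⟨fun n hn h => ?_⟩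
    rw [hM] at hn ⊢
    induction hn using Subgroup.closure_induction with
    | mem n hn =>
      obtain ⟨g, rfl⟩ := hn
      have h2 : h * (g * (d g)⁻¹) * h⁻¹ = (h * g * (d (h * g))⁻¹) * (h * (d h)⁻¹)⁻¹ := by
        rw [map_mul]; group
      rw [h2]
      exact mul_mem (Subgroup.subset_closure ⟨_, rfl⟩) (inv_mem (Subgroup.subset_closure ⟨_, rfl⟩))
    | one => rw [mul_one, mul_inv_cancel]; exact one_mem _
    | mul a b _ _ ha hb =>
      have h2 : h * (a * b) * h⁻¹ = (h * a * h⁻¹) * (h * b * h⁻¹) := by group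
      rw [h2]
      exact mul_mem ha hb
    | inv a _ ha =>
      have h2 : h * a⁻¹ * h⁻¹ = (h * a * h⁻¹)⁻¹ := by group
      rw [h2]
      exact inv_mem ha
  have hMle : M ≤ Subgroup.normalizer (Subgroup.zpowers x : Set S) := by
    rw [hM, Subgroup.closure_le]
    rintro _ ⟨g, rfl⟩
    exact h1 g
  rcases hMn.eq_bot_or_eq_top with h2 | h2
  · apply hd
    apply MulEquiv.ext
    intro g
    have h3 : g * (d g)⁻¹ ∈ M := by rw [hM]; exact Subgroup.subset_closure ⟨g, rfl⟩
    rw [h2, Subgroup.mem_bot, mul_inv_eq_one] at h3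
    rw [MulAut.one_apply]
    exact h3.symm
  · rw [h2, top_le_iff] at hMle
    have hZn : (Subgroup.zpowers x).Normal := Subgroup.normalizer_eq_top_iff.1 hMle
    rcases hZn.eq_bot_or_eq_top with h3 | h3
    · exact hx (Subgroup.zpowers_eq_bot.1 h3)
    · apply hna
      refine ⟨⟨fun a b => ?_⟩⟩
      have ha : a ∈ Subgroup.zpowers x := by rw [h3]; exact Subgroup.mem_top a
      have hb : b ∈ Subgroup.zpowers x := by rw [h3]; exact Subgroup.mem_top b
      obtain ⟨i, rfl⟩ := Subgroup.mem_zpowers_iff.1 ha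
      obtain ⟨j, rfl⟩ := Subgroup.mem_zpowers_iff.1 hb
      exact (Commute.refl x).zpow_zpow i j

end simple

end Cfsg.Agent.H442.S5
end

-- part: H442/S5/SzA
section
/-!
# The strong rows of `Sz(q)`, `²G₂(q)` (helper442)
-/

set_option autoImplicit false
set_option linter.unusedSectionVars false

universe u

namespace Cfsg.Agent.H442.S5

open Cfsg Cfsg.Agent.H533.T5 Cfsg.Agent.H106.MT Cfsg.Agent.H132.S5 Cfsg.Agent.H28.T5RankOne Cfsg.Agent.H957.T5M

section RowsRee

variable {S : Type u} [Group S] {K : Type} [Field K] [Fintype K] {m : ℕ} (hm : 1 ≤ m)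
  (hK : Fintype.card K = 3 ^ (2 * m + 1)) {p : ℕ} (hpp : p.Prime) (hp5 : 5 ≤ p)
  (e : S ≃* ↥(Cfsg.Lie.twistedG2 K (3 ^ m)))

include hm hK hpp hp5 e in
/-- **The strong row of `²G₂(q)`, `p ≥ 5`.** -/
theorem srow_ree [Finite S] (hAA : AAHyp.{u} p) (hRS : RSHyp.{u} p) : SRow p S := by
  have := Fact.mk hpp
  have hs : IsSimpleGroup ↥(Cfsg.Lie.twistedG2 K (3 ^ m)) := (Cfsg.Agent.S1073.result hm hK).1
  have := e.isSimpleGroup
  have hna : ¬ IsMulCommutative S := fun hc => ree_na hm hK ⟨⟨fun a b => e.symm.injective (by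
    rw [map_mul, map_mul]
    exact hc.is_comm.comm _ _)⟩⟩
  obtain ⟨P⟩ : Nonempty (Sylow p S) := inferInstance
  have hP : IsCyclic ↥(P : Subgroup S) := by
    have h1 := cyclic_of_sylow (ree_cyc hm hK hp5) ((P : Subgroup S).map (e : S →* ↥(Cfsg.Lie.twistedG2 K (3 ^ m))))
      (P.2.map _)
    exact isCyclic_of_surjective (e.subgroupMap _).symm (e.subgroupMap _).symm.surjective
  exact srow_of_ok hAA hRS hpp hna (outerOk_ree hm hK hpp hp5 e) (homOk_ree hm hK hpp hp5 e)
    (fun x y hx hy => spair_of_cyclic hAA hRS hna P hP hx hy)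

end RowsRee

section RowsSz

variable {S : Type u} [Group S] {F : Type} [Field F] [Fintype F] {m : ℕ} (hm : 1 ≤ m)
  (hF : Fintype.card F = 2 ^ (2 * m + 1)) {p : ℕ} (hpp : p.Prime) (hp2 : p ≠ 2)
  (e : S ≃* ↥(Cfsg.Lie.Sz F (2 ^ (m + 1))))

include hm hF hpp hp2 e in
/-- **The strong row of `Sz(q)`, `p` odd** (not `Sz(32)`, `p = 5`). -/
theorem srow_sz [Finite S] (hAA : AAHyp.{u} p) (hRS : RSHyp.{u} p) (h5 : ¬ (p = 5 ∧ m = 2)) : SRow p S := by
  have := Fact.mk hpp
  have hs : IsSimpleGroup ↥(Cfsg.Lie.Sz F (2 ^ (m + 1))) := Cfsg.Agent.S1162.result hm hF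
  have := e.isSimpleGroup
  have hna : ¬ IsMulCommutative S := fun hc => sz_na hm hF ⟨⟨fun a b => e.symm.injective (by
    rw [map_mul, map_mul]
    exact hc.is_comm.comm _ _)⟩⟩
  obtain ⟨P⟩ : Nonempty (Sylow p S) := inferInstance
  have hP : IsCyclic ↥(P : Subgroup S) := by
    have h1 := cyclic_of_sylow (sz_cyc hm hF hp2) ((P : Subgroup S).map (e : S →* ↥(Cfsg.Lie.Sz F (2 ^ (m + 1)))))
      (P.2.map _)
    exact isCyclic_of_surjective (e.subgroupMap _).symm (e.subgroupMap _).symm.surjective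
  exact srow_of_ok hAA hRS hpp hna (outerOk_sz hm hF hpp hp2 e h5) (homOk_sz hm hF hpp hp2 e)
    (fun x y hx hy => spair_of_cyclic hAA hRS hna P hP hx hy)

end RowsSz

/-! ### `Sz(32)`, `p = 5` -/

theorem isConj_of_sq {G : Type*} [Group G] (hsq : ∀ z : G, orderOf z = 5 → IsConj z (z ^ 2)) {x y s : G}
    (hx : orderOf x = 5) (hy : orderOf y = 5) {j : ℤ} (hj : (s * y * s⁻¹) ^ j = x) : IsConj y x := by
  have hord : ∀ z : G, orderOf z = 5 → orderOf (z ^ 2) = 5 := by
    intro z hz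
    rw [Nat.Coprime.orderOf_pow, hz]
    rw [hz]; decide
  have h5 : y ^ 5 = 1 := by rw [← hy, pow_orderOf_eq_one]
  have e4 : (y ^ 2) ^ 2 = y ^ 4 := by rw [← pow_mul]
  have h4 : IsConj y (y ^ 4) := by
    have := (hsq y hy).trans (hsq _ (hord y hy))
    rwa [e4] at this
  have h3 : IsConj y (y ^ 3) := by
    have h := h4.trans (hsq (y ^ 4) (by rw [← e4]; exact hord _ (hord y hy)))
    have e3 : (y ^ 4) ^ 2 = y ^ 3 := by
      calc (y ^ 4) ^ 2 = y ^ 5 * y ^ 3 := by rw [← pow_mul, ← pow_add]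
        _ = y ^ 3 := by rw [h5, one_mul]
    rwa [e3] at h
  have h2 : IsConj y (y ^ 2) := hsq y hy
  obtain ⟨k, hk⟩ := H28.T5Sz32.exists_nat_pow (by norm_num : 0 < 5) (a := s * y * s⁻¹) (by
    rw [conj_pow, h5, mul_one, mul_inv_cancel]) j
  rw [hk, conj_pow, ← pow_mod_orderOf, hy] at hj
  have h6 : k % 5 < 5 := Nat.mod_lt _ (by norm_num)
  have hcase : IsConj y (y ^ (k % 5)) := by
    interval_cases h7 : k % 5
    · exfalso
      rw [pow_zero, mul_one, mul_inv_cancel] at hj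
      rw [← hj, orderOf_one] at hx
      omega
    · rw [pow_one]
    · exact h2
    · exact h3
    · exact h4
  have h8 : IsConj (y ^ (k % 5)) x := isConj_iff.2 ⟨s, hj⟩
  exact hcase.trans h8

theorem pow_eq_sq {G : Type*} [Group G] {z : G} {n : ℕ} (hn : n = 5 * 6 + 2) (h : z ^ 5 = 1) : z ^ n = z ^ 2 := by
  rw [hn, pow_add, pow_mul, h, one_pow, one_mul]

theorem orderOf_dvd_stab {G Ω : Type*} [Group G] [Finite G] [MulAction G Ω] {x : G} {a : Ω} (h : x • a = a) :
    orderOf x ∣ Nat.card (MulAction.stabilizer G a) :=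
  Subgroup.orderOf_dvd_natCard _ h

section Sz32

open Cfsg.Agent.LieRecognition.SzMatrix Cfsg.Agent.H967.CopMat Cfsg.Agent.H967.CopSz Cfsg.Agent.H28.T5Sz32

variable {F : Type} [Field F] [Fintype F] (hF : Fintype.card F = 2 ^ (2 * 2 + 1))

include hF in
/-- one class of elements of order `5` -/
theorem isConj_five {x y : ↥(Cfsg.Lie.Sz F (2 ^ (2 + 1)))} (hx : orderOf x = 5) (hy : orderOf y = 5) :
    ∃ s, s * y * s⁻¹ = x := by
  have h5p : Fact (Nat.Prime 5) := ⟨Nat.prime_five⟩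
  obtain ⟨P⟩ : Nonempty (Sylow 5 ↥(Cfsg.Lie.Sz F (2 ^ (2 + 1)))) := inferInstance
  obtain ⟨s, j, hj⟩ := exists_conj_of_cyclic P (sz_cyc (by norm_num) hF (by norm_num) P) hx hy
  have h32 : Nat.card F = 5 * 6 + 2 := by rw [Nat.card_eq_fintype_card, hF]; norm_num
  exact isConj_iff.1 (isConj_of_sq (fun z hz => by
    have h1 := H937.SzConj.sz_conj (m := 2) (by norm_num) (by rw [Nat.card_eq_fintype_card, hF]) z (by rw [hz]; decide)
    have h2 : z ^ Nat.card F = z ^ 2 := pow_eq_sq h32 (by rw [← hz, pow_orderOf_eq_one])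
    rwa [h2] at h1) hx hy hj)

include hF in
/-- elements of order `5` generating a solvable group -/
theorem mem_zpowers_of_solvable {x y : ↥(Cfsg.Sz F 2)} (hx : orderOf x = 5) (hy : orderOf y = 5)
    (hs : Group.IsSolvable ↥(Subgroup.closure ({x, y} : Set ↥(Cfsg.Sz F 2)))) : y ∈ Subgroup.zpowers x := by
  have h5p : Fact (Nat.Prime 5) := ⟨Nat.prime_five⟩
  have hfin := H270.StrP.finite_Sz' (m := 2) (by norm_num) hF
  have hfinO := H98.SzBasic.finite_ovoid F 2
  have H := H102.SzSol.hyp (m := 2) (by norm_num) hF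
  have hN := H.card_normalizer (by norm_num) (e := 2) (fun g hg => H102.SzSol.norm_free (m := 2) (by norm_num) hF g hg)
  have hx1 : x ≠ 1 := by
    rintro rfl
    rw [orderOf_one] at hx
    omega
  rcases (H.solvable_iff hN hx1).1 hs with ⟨a, ha, -⟩ | ⟨T, hT, h1, h2⟩
  · exfalso
    have h3 := H.card_map_one a a
    have h4 : orderOf x ∣ Nat.card (MulAction.stabilizer ↥(Cfsg.Sz F 2) a) := orderOf_dvd_stab ha
    have h5 : Nat.card (MulAction.stabilizer ↥(Cfsg.Sz F 2) a) = (2 ^ (2 * 2 + 1)) ^ 2 * (2 ^ (2 * 2 + 1) - 1) := h3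
    rw [h5, hx] at h4
    norm_num at h4
  · obtain ⟨e, he⟩ := hN T hT
    have h3 := H102.RankOneSol.IsT.mem_of_odd he h1 (by rw [hx]; decide)
    have h4 := H102.RankOneSol.IsT.mem_of_odd he h2 (by rw [hy]; decide)
    have hcomm := hT.comm h3 h4
    have hE : IsPGroup 5 ↥(Subgroup.closure ({x, y} : Set ↥(Cfsg.Sz F 2))) := by
      have hcl : ∀ a ∈ Subgroup.closure ({x, y} : Set ↥(Cfsg.Sz F 2)), a ∈ T ∧ a ^ 5 = 1 := by
        intro a ha
        induction ha using Subgroup.closure_induction with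
        | mem a ha =>
          rcases ha with rfl | ha
          · exact ⟨h3, by rw [← hx, pow_orderOf_eq_one]⟩
          · rw [Set.mem_singleton_iff] at ha
            subst ha
            exact ⟨h4, by rw [← hy, pow_orderOf_eq_one]⟩
        | one => exact ⟨one_mem _, one_pow _⟩
        | mul a b _ _ ha hb =>
          refine ⟨mul_mem ha.1 hb.1, ?_⟩
          rw [(show Commute a b from hT.comm ha.1 hb.1).mul_pow, ha.2, hb.2, one_mul]
        | inv a _ ha => exact ⟨inv_mem ha.1, by rw [inv_pow, ha.2, inv_one]⟩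
      rintro ⟨a, ha⟩
      refine ⟨1, Subtype.ext ?_⟩
      rw [pow_one]
      exact (hcl a ha).2
    have hcyc := cyclic_of_sylow (fun P => H270.StrP.sz_cyclic (m := 2) (by norm_num) hF (by norm_num) P) _ hE
    exact H947.Cyc.mem_zpowers_of_cyclic hcyc (Subgroup.subset_closure (by simp)) (Subgroup.subset_closure (by simp)) hx hy

include hF in
/-- additive Hilbert 90 for `α` -/
theorem exists_coboundary (h2 : (2 : F) = 0) {α : F} (hα : α ^ 5 = α ^ 2 + 1) {σ : F ≃+* F} (hσ : orderOf σ = 5) :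
    ∃ c, σ c + c = α := by
  have hcyc : IsCyclic (F ≃+* F) := LieRecognition.FieldSemilinear.isCyclic_ringAut F
  have hfinR := finite_ringAut F
  obtain ⟨φ, hφ5, hφ⟩ := exists_frob hF hα
  obtain ⟨k, hk⟩ := Subgroup.mem_zpowers_iff.1 (mem_zpowers_of_cyclic Nat.prime_five hσ hφ5)
  have h5 : φ ^ 5 = 1 := by rw [← hφ5, pow_orderOf_eq_one]
  obtain ⟨n, hn⟩ := exists_nat_pow (by norm_num : 0 < 5) h5 k
  rw [hn, ← pow_mod_orderOf, hφ5] at hk
  have h6 : n % 5 < 5 := Nat.mod_lt _ (by norm_num)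
  have e1 : ∀ a, (φ ^ 1) a = a ^ 2 := fun a => by rw [pow_one, hφ]
  have e2 : ∀ a, (φ ^ 2) a = a ^ 4 := fun a => by
    show φ (φ a) = _
    rw [hφ, hφ, ← pow_mul]
  have e3 : ∀ a, (φ ^ 3) a = a ^ 8 := fun a => by
    show φ (φ (φ a)) = _
    rw [hφ, hφ, hφ, ← pow_mul, ← pow_mul]
  have e4 : ∀ a, (φ ^ 4) a = a ^ 16 := fun a => by
    show φ (φ (φ (φ a))) = _
    rw [hφ, hφ, hφ, hφ, ← pow_mul, ← pow_mul, ← pow_mul]
  have hα8 : α ^ 8 = α ^ 3 + α ^ 2 + 1 := by
    linear_combination (1 + α ^ 3) * hα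
  have hα16 : α ^ 16 = α ^ 4 + α ^ 3 + α + 1 := by
    linear_combination (3 + α + α ^ 2 + 2 * α ^ 3 + α ^ 5 + α ^ 6 + α ^ 8 + α ^ 11) * hα +
      (1 + 2 * α ^ 2 + α ^ 3) * h2
  interval_cases h7 : n % 5
  · exfalso
    rw [pow_zero] at hk
    rw [← hk, orderOf_one] at hσ
    omega
  · refine ⟨α ^ 3, ?_⟩
    rw [← hk, e1]
    linear_combination α * hα + α ^ 3 * h2
  · refine ⟨α ^ 4 + α ^ 2, ?_⟩
    rw [← hk, map_add, map_pow, map_pow, e2]
    linear_combination (4 + α + α ^ 2 + 3 * α ^ 3 + α ^ 5 + α ^ 6 + α ^ 8 + α ^ 11) * hα +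
      (2 + 3 * α ^ 2 + 2 * α ^ 3 + α ^ 4) * h2
  · refine ⟨α ^ 4 + α ^ 2 + α, ?_⟩
    rw [← hk, map_add, map_add, map_pow, map_pow, e3, hα8]
    linear_combination (37 + 24 * α + 19 * α ^ 2 + 17 * α ^ 3 + 9 * α ^ 4 + 6 * α ^ 5 + 4 * α ^ 6 + α ^ 7) * hα +
      (20 + 12 * α + 32 * α ^ 2 + 24 * α ^ 3 + 18 * α ^ 4) * h2
  · refine ⟨α ^ 3 + α, ?_⟩
    rw [← hk, map_add, map_pow, e4, hα16]
    linear_combination (24 + 14 * α + 13 * α ^ 2 + 12 * α ^ 3 + 5 * α ^ 4 + 3 * α ^ 5 + 3 * α ^ 6 + α ^ 7) * hα +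
      (13 + 9 * α + 20 * α ^ 2 + 16 * α ^ 3 + 14 * α ^ 4) * h2

end Sz32

end Cfsg.Agent.H442.S5
end

-- part: H442/S5/SzB
section
/-!
# The strong row of `Sz(32)`, `p = 5` (helper442)
-/

set_option autoImplicit false
set_option linter.unusedSectionVars false

universe u

namespace Cfsg.Agent.H442.S5

open Cfsg Cfsg.Agent.H533.T5 Cfsg.Agent.H106.MT Cfsg.Agent.H132.S5 Cfsg.Agent.H28.T5RankOne Cfsg.Agent.H957.T5M
open Cfsg.Agent.LieRecognition.SzMatrix Cfsg.Agent.H967.CopMat Cfsg.Agent.H967.CopSz Cfsg.Agent.H28.T5Sz32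

variable {F : Type} [Field F] [Fintype F] (hF : Fintype.card F = 2 ^ (2 * 2 + 1))

/-- **Part (b), inner against outer.** -/
theorem bpair_base {σ : F ≃+* F} (hσ : orderOf σ = 5) {α : F} (hα : α ^ 5 = α ^ 2 + 1) :
    BPair 5 (MulAut.conj : ↥(Cfsg.Lie.Sz F (2 ^ (2 + 1))) →* _).range
      (MulAut.conj ((good hF).u 1 (α ^ 2 + α + 1) * ((good hF).w * (good hF).u 0 α * (good hF).w)))
      (fieldAut (stab_sz hF) σ) := by
  have h2 : (2 : F) = 0 := (good hF).two
  have hs : IsSimpleGroup ↥(Cfsg.Lie.Sz F (2 ^ (2 + 1))) := Cfsg.Agent.S1162.result (by norm_num) hF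
  have hinj := conj_injective_of_simple (S := ↥(Cfsg.Lie.Sz F (2 ^ (2 + 1)))) (sz_na (by norm_num) hF)
  obtain ⟨Φ, hΦ⟩ : ∃ Φ, Φ = fieldAut (stab_sz hF) σ := ⟨_, rfl⟩
  rw [← hΦ]
  have hΦu : ∀ a b, Φ ((good hF).u a b) = (good hF).u (σ a) (σ b) := fun a b => by
    rw [hΦ, fieldAut_u]
  have hΦw : Φ (good hF).w = (good hF).w := by rw [hΦ, fieldAut_w]
  have hcg : ∀ y, Φ * MulAut.conj y = MulAut.conj (Φ y) * Φ := fun y => by
    refine MulEquiv.ext fun a => ?_
    simp only [MulAut.mul_apply, MulAut.mul_apply, MulAut.conj_apply, MulAut.conj_apply, map_mul, map_mul, map_inv]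
  obtain ⟨c, hc⟩ := exists_coboundary hF h2 hα hσ
  obtain ⟨g, hg⟩ : ∃ g, g = (good hF).w * (good hF).u 0 c := ⟨_, rfl⟩
  -- `Φ g g⁻¹`
  have h3 : (good hF).w * (good hF).u 0 α * (good hF).w = Φ g * g⁻¹ := by
    have h4 : (good hF).u 0 (σ c) = (good hF).u 0 α * (good hF).u 0 c := by
      rw [(good hF).u_mul, map_zero, mul_zero, add_zero, add_zero]
      congr 1
      linear_combination hc - c * h2
    rw [hg, map_mul, hΦw, hΦu, map_zero, h4, mul_inv_rev, (good hF).w_inv]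
    group
  refine ⟨MulAut.conj g, ⟨g, rfl⟩, fun k hk => ?_⟩
  obtain ⟨u, hu⟩ : ∃ u, u = (good hF).u 1 (α ^ 2 + α + 1) := ⟨_, rfl⟩
  have h5 : MulAut.conj ((good hF).u 1 (α ^ 2 + α + 1) * ((good hF).w * (good hF).u 0 α * (good hF).w)) *
      (MulAut.conj g * Φ * (MulAut.conj g)⁻¹) = MulAut.conj u * Φ := by
    simp only [h3, ← hu, ← map_inv MulAut.conj g, mul_assoc (MulAut.conj g) Φ (MulAut.conj g⁻¹), hcg (g⁻¹), map_mul MulAut.conj u (Φ g * g⁻¹), map_mul MulAut.conj (Φ g) (g⁻¹), map_inv Φ g]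
    simp only [map_inv]
    group
  rw [h5] at hk
  -- the fifth power
  have h6 : (MulAut.conj u * Φ) ^ 5 = MulAut.conj (u * Φ u * Φ (Φ u) * Φ (Φ (Φ u)) * Φ (Φ (Φ (Φ u)))) * Φ ^ 5 := by
    have h7 : ∀ y, Φ * MulAut.conj y = MulAut.conj (Φ y) * Φ := hcg
    calc (MulAut.conj u * Φ) ^ 5 = MulAut.conj u * (Φ * MulAut.conj u) * (Φ * MulAut.conj u) * (Φ * MulAut.conj u) *
          (Φ * MulAut.conj u) * Φ := by simp only [pow_succ, pow_zero, one_mul, mul_assoc]
      _ = MulAut.conj u * MulAut.conj (Φ u) * (Φ * MulAut.conj (Φ u)) * (Φ * MulAut.conj (Φ u)) *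
          (Φ * MulAut.conj (Φ u)) * Φ * Φ := by simp only [h7 u]; simp only [mul_assoc]
      _ = MulAut.conj u * MulAut.conj (Φ u) * MulAut.conj (Φ (Φ u)) * (Φ * MulAut.conj (Φ (Φ u))) *
          (Φ * MulAut.conj (Φ (Φ u))) * Φ * Φ * Φ := by simp only [h7 (Φ u)]; simp only [mul_assoc]
      _ = MulAut.conj u * MulAut.conj (Φ u) * MulAut.conj (Φ (Φ u)) * MulAut.conj (Φ (Φ (Φ u))) *
          (Φ * MulAut.conj (Φ (Φ (Φ u)))) * Φ * Φ * Φ * Φ := by simp only [h7 (Φ (Φ u))]; simp only [mul_assoc]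
      _ = _ := by simp only [h7]; simp only [map_mul, pow_succ, pow_zero, one_mul, mul_assoc]
  have hΦ5 : Φ ^ 5 = 1 := by
    rw [hΦ, ← map_pow, ← hσ, pow_orderOf_eq_one, map_one]
  rw [hΦ5, mul_one] at h6
  obtain ⟨β, hβ⟩ : ∃ β, u * Φ u * Φ (Φ u) * Φ (Φ (Φ u)) * Φ (Φ (Φ (Φ u))) = (good hF).u 1 β := by
    have h7 : ∃ β, u * Φ u * Φ (Φ u) * Φ (Φ (Φ u)) * Φ (Φ (Φ (Φ u))) = (good hF).u (1 + 1 + 1 + 1 + 1) β := by
      rw [hu]
      simp only [hΦu, map_one, (good hF).u_mul]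
      exact ⟨_, rfl⟩
    obtain ⟨β, hβ⟩ := h7
    refine ⟨β, ?_⟩
    rw [hβ]
    congr 1
    linear_combination (2 : F) * h2
  rw [hβ] at h6
  have h8 : (good hF).u 1 β ^ 4 = 1 := by
    have h9 : (good hF).u 1 β ^ 2 = (good hF).u 0 1 := by
      rw [pow_two, (good hF).u_mul, map_one]
      (with_reducible congr 1)
      · linear_combination h2
      · linear_combination β * h2
    have h10 : (good hF).u 1 β ^ 4 = ((good hF).u 1 β ^ 2) ^ 2 := by rw [← pow_mul]
    rw [h10, h9, pow_two, (good hF).u_mul, map_zero, mul_zero, add_zero, add_zero,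
      ← (good hF).u_zero]
    congr 1
    linear_combination h2
  have h9 : (MulAut.conj ((good hF).u 1 β)) ^ 5 ^ k = 1 := by
    rw [← h6, ← pow_mul, mul_comm, pow_mul, hk, one_pow]
  rw [← map_pow] at h9
  have h10 : (good hF).u 1 β ^ 5 ^ k = 1 := hinj (by rw [h9, map_one])
  have h11 : (good hF).u 1 β = 1 := by
    have h12 : orderOf ((good hF).u 1 β) ∣ Nat.gcd 4 (5 ^ k) :=
      Nat.dvd_gcd (orderOf_dvd_of_pow_eq_one h8) (orderOf_dvd_of_pow_eq_one h10)
    have h13 : Nat.gcd 4 (5 ^ k) = 1 := Nat.Coprime.pow_right k (by norm_num)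
    rw [h13] at h12
    exact orderOf_eq_one_iff.1 (Nat.dvd_one.1 h12)
  rw [← (good hF).u_zero] at h11
  exact one_ne_zero ((good hF).u_inj h11).1

include hF in
/-- **Part (b), inner against outer.** -/
theorem bpair_io {x : ↥(Cfsg.Lie.Sz F (2 ^ (2 + 1)))} (hx : orderOf x = 5)
    {d : MulAut ↥(Cfsg.Lie.Sz F (2 ^ (2 + 1)))} (hd : orderOf d = 5) (hdo : ¬ ∃ g, d = MulAut.conj g) :
    BPair 5 (MulAut.conj : ↥(Cfsg.Lie.Sz F (2 ^ (2 + 1))) →* _).range (MulAut.conj x) d := by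
  have h5p : Fact (Nat.Prime 5) := ⟨Nat.prime_five⟩
  have hcyc : IsCyclic (F ≃+* F) := LieRecognition.FieldSemilinear.isCyclic_ringAut F
  have hfinR := finite_ringAut F
  obtain ⟨α, hα⟩ := exists_root (F := F) hF (good hF).two
  obtain ⟨σ, hσ, g, rfl⟩ := (sz_data (m := 2) (by norm_num) hF (by norm_num)).form hd hdo
  obtain ⟨x₀, hx₀⟩ : ∃ x₀, x₀ = (good hF).u 1 (α ^ 2 + α + 1) * ((good hF).w * (good hF).u 0 α * (good hF).w) :=
    ⟨_, rfl⟩
  obtain ⟨h1, h2⟩ := x0_pow hF hα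
  have h3 := bpair_base hF hσ hα
  rw [← hx₀] at h1 h2 h3
  have hx₀5 : orderOf x₀ = 5 := orderOf_eq_prime h1 h2
  obtain ⟨s, hs⟩ := isConj_five hF hx₀5 hx
  refine BPair.conj_left (s := MulAut.conj s) ⟨s, rfl⟩ (BPair.conj_right (s := MulAut.conj g⁻¹) ⟨g⁻¹, rfl⟩ ?_)
  have e1 : MulAut.conj s * MulAut.conj x * (MulAut.conj s)⁻¹ = MulAut.conj x₀ := by
    simp only [← map_inv, ← map_mul, ← map_mul, hs]
  have e2 : MulAut.conj g⁻¹ * (MulAut.conj g * fieldAut (stab_sz hF) σ * (MulAut.conj g)⁻¹) *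
      (MulAut.conj g⁻¹)⁻¹ = fieldAut (stab_sz hF) σ := by
    rw [map_inv]
    group
  rw [e1, e2]
  exact h3

include hF in
/-- **Part (a), inner against outer.** -/
theorem apair_io {x : ↥(Cfsg.Lie.Sz F (2 ^ (2 + 1)))} (hx : orderOf x = 5)
    {d : MulAut ↥(Cfsg.Lie.Sz F (2 ^ (2 + 1)))} (hd : orderOf d = 5) :
    APair (MulAut.conj : ↥(Cfsg.Lie.Sz F (2 ^ (2 + 1))) →* _).range (MulAut.conj x) d := by
  have hs : IsSimpleGroup ↥(Cfsg.Lie.Sz F (2 ^ (2 + 1))) := Cfsg.Agent.S1162.result (by norm_num) hF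
  have hna := sz_na (m := 2) (by norm_num) hF
  have hinj := conj_injective_of_simple (S := ↥(Cfsg.Lie.Sz F (2 ^ (2 + 1)))) hna
  obtain ⟨g, hg⟩ := exists_not_mem_zpowers hna (x := x) (by rintro rfl; rw [orderOf_one] at hx; omega)
    (d := d) (by rintro rfl; rw [orderOf_one] at hd; omega)
  refine ⟨MulAut.conj g, ⟨g, rfl⟩, fun hsol => hg ?_⟩
  obtain ⟨D, hD⟩ : ∃ D, D = MulAut.conj g * d * (MulAut.conj g)⁻¹ := ⟨_, rfl⟩
  rw [← hD] at hsol ⊢
  have h1 : MulAut.conj (D x) = D * MulAut.conj x * D⁻¹ := by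
    refine MulEquiv.ext fun a => ?_
    simp only [MulAut.mul_apply, MulAut.mul_apply, MulAut.conj_apply, MulAut.conj_apply, map_mul, map_mul, map_inv,
      MulAut.apply_inv_self]
  have h2 : Group.IsSolvable ↥(Subgroup.closure ({MulAut.conj x, MulAut.conj (D x)} : Set (MulAut
      ↥(Cfsg.Lie.Sz F (2 ^ (2 + 1)))))) := by
    refine isSolvable_of_le ?_ hsol
    rw [Subgroup.closure_le]
    have hxm : MulAut.conj x ∈ Subgroup.closure ({MulAut.conj x, D} : Set (MulAut ↥(Cfsg.Lie.Sz F (2 ^ (2 + 1))))) :=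
      Subgroup.subset_closure (by simp)
    have hDm : D ∈ Subgroup.closure ({MulAut.conj x, D} : Set (MulAut ↥(Cfsg.Lie.Sz F (2 ^ (2 + 1))))) :=
      Subgroup.subset_closure (by simp)
    rintro a (rfl | ha)
    · exact hxm
    · rw [Set.mem_singleton_iff] at ha
      rw [ha, SetLike.mem_coe, h1]
      exact mul_mem (mul_mem hDm hxm) (inv_mem hDm)
  obtain ⟨e⟩ := Cfsg.Agent.OddCyclic.ClaimC.SzIso.iso (m := 2) (by norm_num) hF
  have h3 : Group.IsSolvable ↥(Subgroup.closure ({x, D x} : Set ↥(Cfsg.Lie.Sz F (2 ^ (2 + 1))))) := by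
    have h4 := closure_pair_map (MulAut.conj : ↥(Cfsg.Lie.Sz F (2 ^ (2 + 1))) →* _) x (D x)
    rw [← h4] at h2
    exact Group.isSolvable_of_isSolvable_injective
      (f := ((Subgroup.closure ({x, D x} : Set _)).equivMapOfInjective _ hinj).toMonoidHom) (MulEquiv.injective _)
  have h4 : Group.IsSolvable ↥(Subgroup.closure ({e.symm x, e.symm (D x)} : Set ↥(Cfsg.Sz F 2))) := by
    have h5 := closure_pair_map (e.symm.toMonoidHom) x (D x)
    have h6 : Group.IsSolvable ↥((Subgroup.closure ({x, D x} : Set ↥(Cfsg.Lie.Sz F (2 ^ (2 + 1))))).map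
        e.symm.toMonoidHom) :=
      Group.isSolvable_of_surjective (f := (e.symm.toMonoidHom).subgroupMap _)
        ((e.symm.toMonoidHom).subgroupMap_surjective _)
    rw [h5] at h6
    exact h6
  have h5 := mem_zpowers_of_solvable hF (by rw [MulEquiv.orderOf_eq, hx])
    (by rw [MulEquiv.orderOf_eq, MulEquiv.orderOf_eq, hx]) h4
  obtain ⟨k, hk⟩ := Subgroup.mem_zpowers_iff.1 h5
  refine Subgroup.mem_zpowers_iff.2 ⟨k, e.symm.injective ?_⟩
  rw [map_zpow]
  exact hk

end Cfsg.Agent.H442.S5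
end

-- part: H442/S5/SzC
section
/-!
# The strong row of `Sz(32)`, `p = 5`: outer against outer, and the assembly (helper442)

* `srow_sz_all` : `SRow p (Sz(q))`, `p` odd;
* `srow_ree` (in `SzA`) : `SRow p (²G₂(q))`, `p ≥ 5`.
-/

set_option autoImplicit false
set_option linter.unusedSectionVars false

universe u

namespace Cfsg.Agent.H442.S5

open Cfsg Cfsg.Agent.H533.T5 Cfsg.Agent.H106.MT Cfsg.Agent.H106.MB Cfsg.Agent.H132.S5 Cfsg.Agent.H28.T5RankOne
open Cfsg.Agent.H957.T5M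
open Cfsg.Agent.LieRecognition.SzMatrix Cfsg.Agent.H967.CopMat Cfsg.Agent.H967.CopSz Cfsg.Agent.H28.T5Sz32

section

variable {F : Type} [Field F] [Fintype F] (hF : Fintype.card F = 2 ^ (2 * 2 + 1))

theorem u_comm (a b c d : F) : (good hF).u a b * (good hF).u c d =
    (good hF).u 0 (a * theta hF c + c * theta hF a) * ((good hF).u c d * (good hF).u a b) := by
  have h2 : (2 : F) = 0 := (good hF).two
  rw [(good hF).u_mul, (good hF).u_mul, (good hF).u_mul]
  congr 1
  · ring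
  · linear_combination (-(c * theta hF a)) * h2

/-- **Part (b), outer against outer, for the field automorphisms.** -/
theorem bpair_field {σ : F ≃+* F} (hσ : orderOf σ = 5) {m : ℕ} (hm : m.Coprime 5) :
    BPair 5 (MulAut.conj : ↥(Cfsg.Lie.Sz F (2 ^ (2 + 1))) →* _).range (fieldAut (stab_sz hF) σ)
      (fieldAut (stab_sz hF) σ ^ m) := by
  have h5p : Fact (Nat.Prime 5) := ⟨Nat.prime_five⟩
  have hcyc : IsCyclic (F ≃+* F) := LieRecognition.FieldSemilinear.isCyclic_ringAut F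
  have hfinR := finite_ringAut F
  have h2 : (2 : F) = 0 := (good hF).two
  have hs : IsSimpleGroup ↥(Cfsg.Lie.Sz F (2 ^ (2 + 1))) := Cfsg.Agent.S1162.result (by norm_num) hF
  have hinj := conj_injective_of_simple (S := ↥(Cfsg.Lie.Sz F (2 ^ (2 + 1)))) (sz_na (by norm_num) hF)
  obtain ⟨α, hα⟩ := exists_root (F := F) hF h2
  obtain ⟨φ, hφ5, hφ⟩ := exists_frob hF hα
  -- the subgroup `V`
  obtain ⟨V, hV⟩ : ∃ V : Subgroup (MulAut ↥(Cfsg.Lie.Sz F (2 ^ (2 + 1)))),
      V = ((good hF).unip).map (MulAut.conj : ↥(Cfsg.Lie.Sz F (2 ^ (2 + 1))) →* _) := ⟨_, rfl⟩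
  have hmemV : ∀ a b, MulAut.conj ((good hF).u a b) ∈ V := fun a b => by
    rw [hV]; exact Subgroup.mem_map_of_mem _ ((good hF).u_mem_unip a b)
  have hVmem : ∀ v ∈ V, ∃ a b, v = MulAut.conj ((good hF).u a b) := by
    intro v hv
    rw [hV] at hv
    obtain ⟨x, hx, rfl⟩ := hv
    obtain ⟨a, b, rfl⟩ := ((good hF).mem_unip_iff x).1 hx
    exact ⟨a, b, rfl⟩
  have hVc : Nat.card V = (2 ^ (2 * 2 + 1)) ^ 2 := by
    rw [hV, Subgroup.card_map_of_injective hinj, (good hF).card_unip, Nat.card_eq_fintype_card, hF]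
  -- the action of the field automorphisms
  have hact : ∀ (τ : F ≃+* F) (a b : F), fieldAut (stab_sz hF) τ * MulAut.conj ((good hF).u a b) *
      (fieldAut (stab_sz hF) τ)⁻¹ = MulAut.conj ((good hF).u (τ a) (τ b)) := by
    intro τ a b
    rw [← fieldAut_u]
    refine MulEquiv.ext fun y => ?_
    simp only [MulAut.mul_apply, MulAut.mul_apply, MulAut.conj_apply, MulAut.conj_apply, map_mul, map_mul, map_inv,
      MulAut.apply_inv_self]
  -- the normalizer
  obtain ⟨M, hM⟩ : ∃ M : Subgroup (MulAut ↥(Cfsg.Lie.Sz F (2 ^ (2 + 1)))),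
      M = Subgroup.normalizer (V : Set (MulAut ↥(Cfsg.Lie.Sz F (2 ^ (2 + 1))))) := ⟨_, rfl⟩
  have hVM : V ≤ M := by rw [hM]; exact Subgroup.le_normalizer
  have hnorm : (V.subgroupOf M).Normal := by rw [hM]; exact Subgroup.normal_in_normalizer
  have hfM : ∀ τ : F ≃+* F, fieldAut (stab_sz hF) τ ∈ M := by
    intro τ
    rw [hM, Subgroup.mem_normalizer_iff]
    intro v
    constructor
    · intro hv
      obtain ⟨a, b, rfl⟩ := hVmem v hv
      rw [hact]
      exact hmemV _ _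
    · intro hv
      obtain ⟨a, b, hab⟩ := hVmem _ hv
      have h3 : v = fieldAut (stab_sz hF) τ⁻¹ * MulAut.conj ((good hF).u a b) * (fieldAut (stab_sz hF) τ⁻¹)⁻¹ := by
        rw [← hab, map_inv]; group
      rw [h3, hact]
      exact hmemV _ _
  obtain ⟨c, hc⟩ : ∃ c : M, c = ⟨fieldAut (stab_sz hF) σ, hfM σ⟩ := ⟨_, rfl⟩
  have hcc : (c : MulAut ↥(Cfsg.Lie.Sz F (2 ^ (2 + 1)))) = fieldAut (stab_sz hF) σ := by rw [hc]
  -- `φ⁻¹` is a power of `σ`
  obtain ⟨j, hj⟩ : ∃ j : ℕ, σ ^ j = φ⁻¹ := by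
    have h3 : orderOf φ⁻¹ = 5 := by rw [orderOf_inv, hφ5]
    obtain ⟨k, hk⟩ := Subgroup.mem_zpowers_iff.1 (mem_zpowers_of_cyclic Nat.prime_five h3 hσ)
    obtain ⟨n, hn⟩ := exists_nat_pow (by norm_num : 0 < 5) (a := σ) (by rw [← hσ, pow_orderOf_eq_one]) k
    exact ⟨n, by rw [← hn, hk]⟩
  have hcj : ((c ^ j : M) : MulAut ↥(Cfsg.Lie.Sz F (2 ^ (2 + 1)))) = (fieldAut (stab_sz hF) φ)⁻¹ := by
    rw [Subgroup.coe_pow, hcc, ← map_pow, hj, map_inv]
  obtain ⟨CL, hCLdef⟩ : ∃ CL : Subgroup M, CL = Subgroup.closure {y : M | ∃ v ∈ V.subgroupOf M, y = c⁻¹ * v * c * v⁻¹} :=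
    ⟨_, rfl⟩
  obtain ⟨L, hL⟩ : ∃ L : Subgroup (MulAut ↥(Cfsg.Lie.Sz F (2 ^ (2 + 1)))), L = CL.map M.subtype := ⟨_, rfl⟩
  have hCL : ∀ a b : F, MulAut.conj ((good hF).u (a ^ 2) (b ^ 2) * ((good hF).u a b)⁻¹) ∈ L := by
    intro a b
    have h3 := mem_closure_pow (V.subgroupOf M) c j (v := ⟨MulAut.conj ((good hF).u a b), hVM (hmemV a b)⟩)
      (hmemV a b)
    simp only [← hCLdef] at h3
    rw [hL]
    refine ⟨_, h3, ?_⟩
    (simp only [Subgroup.coe_subtype]; simp +singlePass only [Subgroup.coe_mul]; simp +singlePass only [Subgroup.coe_mul]; simp +singlePass only [Subgroup.coe_mul]; (conv => enter [@2, @5, @5, @5]; rw [Subgroup.coe_inv]); (conv => enter [@2, @6]; rw [Subgroup.coe_inv]); (conv => enter [@2, @5, @5, @5, @3]; rw [hcj]); (conv => enter [@2, @5, @6]; rw [hcj]); (conv => enter [@2, @5, @5, @5]; rw [inv_inv]))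
    show fieldAut (stab_sz hF) φ * MulAut.conj ((good hF).u a b) * (fieldAut (stab_sz hF) φ)⁻¹ *
      (MulAut.conj ((good hF).u a b))⁻¹ = _
    simp only [hact, hφ, hφ, map_mul, map_inv]
  have hθ : theta hF α = α ^ 3 + α ^ 2 + 1 := by
    rw [theta_apply]
    linear_combination (α ^ 3 + 1) * hα
  have hr4 : (α ^ 3 + α ^ 2 + 1) ^ 4 = α := by
    linear_combination (35 + 23 * α + 19 * α ^ 2 + 17 * α ^ 3 + 9 * α ^ 4 + 6 * α ^ 5 + 4 * α ^ 6 + α ^ 7) * hα +
      (18 + 11 * α + 29 * α ^ 2 + 22 * α ^ 3 + 17 * α ^ 4) * h2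
  -- the involution
  have hz : MulAut.conj ((good hF).u 0 1) ∈ L := by
    obtain ⟨β₁, hβ₁⟩ : ∃ β, (good hF).u (α ^ 2) ((0 : F) ^ 2) * ((good hF).u α 0)⁻¹ = (good hF).u (α ^ 2 + α) β := by
      rw [(good hF).u_inv, (good hF).u_mul]
      exact ⟨_, rfl⟩
    obtain ⟨β₂, hβ₂⟩ : ∃ β, (good hF).u ((α ^ 4) ^ 2) ((0 : F) ^ 2) * ((good hF).u (α ^ 4) 0)⁻¹ =
        (good hF).u ((α ^ 4) ^ 2 + α ^ 4) β := by
      rw [(good hF).u_inv, (good hF).u_mul]
      exact ⟨_, rfl⟩
    have h3 := hCL α 0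
    have h4 := hCL (α ^ 4) 0
    have h5 := hCL 0 (α ^ 2 + α)
    rw [hβ₁] at h3
    rw [hβ₂] at h4
    have h6 : (good hF).u ((0 : F) ^ 2) ((α ^ 2 + α) ^ 2) * ((good hF).u 0 (α ^ 2 + α))⁻¹ =
        (good hF).u 0 ((α ^ 2 + α) ^ 2 + (α ^ 2 + α)) := by
      rw [(good hF).u_inv, (good hF).u_mul, map_zero]
      (with_reducible congr 1)
      · ring
      · ring
    rw [h6] at h5
    have h7 := u_comm hF (α ^ 2 + α) β₁ ((α ^ 4) ^ 2 + α ^ 4) β₂
    have h8 : MulAut.conj ((good hF).u 0 ((α ^ 2 + α) * theta hF ((α ^ 4) ^ 2 + α ^ 4) +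
        ((α ^ 4) ^ 2 + α ^ 4) * theta hF (α ^ 2 + α))) ∈ L := by
      have h9 : (good hF).u 0 ((α ^ 2 + α) * theta hF ((α ^ 4) ^ 2 + α ^ 4) +
          ((α ^ 4) ^ 2 + α ^ 4) * theta hF (α ^ 2 + α)) = (good hF).u (α ^ 2 + α) β₁ *
            (good hF).u ((α ^ 4) ^ 2 + α ^ 4) β₂ * ((good hF).u ((α ^ 4) ^ 2 + α ^ 4) β₂ *
            (good hF).u (α ^ 2 + α) β₁)⁻¹ := by
        rw [h7, mul_inv_cancel_right]
      simp only [h9, map_mul, map_inv, map_mul, map_mul]
      exact mul_mem (mul_mem h3 h4) (inv_mem (mul_mem h4 h3))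
    have h9 := mul_mem h8 h5
    rw [← map_mul, (good hF).u_mul] at h9
    have h10 : (good hF).u (0 + 0 : F) ((α ^ 2 + α) * theta hF ((α ^ 4) ^ 2 + α ^ 4) +
        ((α ^ 4) ^ 2 + α ^ 4) * theta hF (α ^ 2 + α) + ((α ^ 2 + α) ^ 2 + (α ^ 2 + α)) + 0 * theta hF 0) =
        (good hF).u 0 1 := by
      (with_reducible congr 1)
      · ring
      · simp only [map_add, map_pow, hθ, hr4]
        linear_combination (15 + 11 * α + 10 * α ^ 2 + 9 * α ^ 3 + 4 * α ^ 4 + 6 * α ^ 5 + 4 * α ^ 6 + α ^ 7 +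
          2 * α ^ 8 + α ^ 9) * hα + (7 + 6 * α + 14 * α ^ 2 + 12 * α ^ 3 + 9 * α ^ 4) * h2
    rw [h10] at h9
    exact h9
  rw [hL] at hz
  obtain ⟨z, hzCL, hzc⟩ := hz
  rw [Subgroup.coe_subtype] at hzc
  rw [hCLdef] at hzCL
  have key := bpair_of_coprime (p := 5) (V.subgroupOf M) (by
      rw [Nat.card_congr (Subgroup.subgroupOfEquivOfLe hVM).toEquiv, hVc]
      norm_num) (c := c) (by
      rw [← Subgroup.orderOf_coe, hcc]
      refine orderOf_eq_prime (by rw [← map_pow, ← hσ, pow_orderOf_eq_one, map_one]) fun h3 => ?_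
      have h4 : σ = 1 := by
        ext a
        have h5 := fieldAut_u hF σ a 0
        rw [h3, MulAut.one_apply] at h5
        exact ((good hF).u_inj h5).1.symm
      rw [h4, orderOf_one] at hσ
      omega) hm (z := z) (by
      show (z : MulAut ↥(Cfsg.Lie.Sz F (2 ^ (2 + 1)))) ∈ V
      rw [hzc]; exact hmemV _ _) (by
      rintro rfl
      rw [Subgroup.coe_one] at hzc
      have h3 : (good hF).u 0 1 = 1 := hinj (by rw [← hzc, map_one])
      rw [← (good hF).u_zero] at h3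
      exact one_ne_zero ((good hF).u_inj h3).2) (by
      have h3 := hact σ 0 1
      rw [map_zero, map_one] at h3
      apply Subtype.ext
      rw [Subgroup.coe_mul, Subgroup.coe_mul, hzc, hcc]
      rw [← eq_mul_inv_iff_mul_eq]
      exact h3.symm) hzCL
  have h3 := (BPair.of_subgroup (M := M) (S := V) key)
  rw [Subgroup.coe_pow, hcc] at h3
  refine h3.mono ?_
  rw [hV]
  rintro _ ⟨x, -, rfl⟩
  exact ⟨x, rfl⟩

include hF in
/-- **The strong row of `Sz(32)`, `p = 5`.** -/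
theorem srow_sz32 (hAA : AAHyp.{0} 5) (hRS : RSHyp.{0} 5) : SRow 5 ↥(Cfsg.Lie.Sz F (2 ^ (2 + 1))) := by
  have h5p : Fact (Nat.Prime 5) := ⟨Nat.prime_five⟩
  have hcyc : IsCyclic (F ≃+* F) := LieRecognition.FieldSemilinear.isCyclic_ringAut F
  have hfinR := finite_ringAut F
  have hs : IsSimpleGroup ↥(Cfsg.Lie.Sz F (2 ^ (2 + 1))) := Cfsg.Agent.S1162.result (by norm_num) hF
  have hna := sz_na (m := 2) (by norm_num) hF
  have hinj := conj_injective_of_simple (S := ↥(Cfsg.Lie.Sz F (2 ^ (2 + 1)))) hna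
  have hI := conj_range_normal (S := ↥(Cfsg.Lie.Sz F (2 ^ (2 + 1))))
  obtain ⟨P⟩ : Nonempty (Sylow 5 ↥(Cfsg.Lie.Sz F (2 ^ (2 + 1)))) := inferInstance
  have io : ∀ {x : ↥(Cfsg.Lie.Sz F (2 ^ (2 + 1)))} {d : MulAut ↥(Cfsg.Lie.Sz F (2 ^ (2 + 1)))}, orderOf x = 5 →
      orderOf d = 5 → (¬ ∃ g, d = MulAut.conj g) →
      SPair 5 (MulAut.conj : ↥(Cfsg.Lie.Sz F (2 ^ (2 + 1))) →* _).range (MulAut.conj x) d :=
    fun hx hd hdo => SPair.mk' Nat.prime_five (apair_io hF hx hd) (bpair_io hF hx hd hdo)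
  intro c d hc hd
  by_cases hci : ∃ g, c = MulAut.conj g
  · obtain ⟨x, rfl⟩ := hci
    by_cases hdi : ∃ g, d = MulAut.conj g
    · obtain ⟨y, rfl⟩ := hdi
      rw [orderOf_injective _ hinj] at hc hd
      have := (spair_of_cyclic hAA hRS hna P (sz_cyc (by norm_num) hF (by norm_num) P) hc hd).of_injective
        (MulAut.conj : ↥(Cfsg.Lie.Sz F (2 ^ (2 + 1))) →* _) hinj
      rwa [← MonoidHom.range_eq_map] at this
    · rw [orderOf_injective _ hinj] at hc
      exact io hc hd hdi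
  · by_cases hdi : ∃ g, d = MulAut.conj g
    · obtain ⟨y, rfl⟩ := hdi
      rw [orderOf_injective _ hinj] at hd
      exact (io hd hc hci).symm
    · have hdata := sz_data (m := 2) (by norm_num) hF (p := 5) (by norm_num)
      refine SPair.mk' Nat.prime_five ?_ ?_
      · obtain ⟨s, hs', j, h⟩ := hdata.conj hc hd hci hdi
        refine APair.of_aligned (R := (MulAut.conj : ↥(Cfsg.Lie.Sz F (2 ^ (2 + 1))) →* _).range) hRS le_rfl hc
          (fun r hr => hI.conj_mem _ hr c) hs' j (h := 1) (Commute.one_right _) (fun r _ => Commute.one_right _)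
          (by rw [h, mul_one]) (not_solvable_inn hna ?_)
        rintro rfl
        rw [orderOf_one] at hc
        omega
      · obtain ⟨σ, hσ, g, rfl⟩ := hdata.form hc hci
        obtain ⟨τ, hτ, g', rfl⟩ := hdata.form hd hdi
        refine BPair.conj_left (s := MulAut.conj g⁻¹) ⟨g⁻¹, rfl⟩ (BPair.conj_right (s := MulAut.conj g'⁻¹) ⟨g'⁻¹, rfl⟩ ?_)
        have e1 : ∀ (g : ↥(Cfsg.Lie.Sz F (2 ^ (2 + 1)))) (σ : F ≃+* F),
            MulAut.conj g⁻¹ * (MulAut.conj g * fieldAut (stab_sz hF) σ * (MulAut.conj g)⁻¹) * (MulAut.conj g⁻¹)⁻¹ =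
              fieldAut (stab_sz hF) σ := by
          intro g σ
          rw [map_inv]
          group
        rw [e1, e1]
        obtain ⟨k, hk⟩ := Subgroup.mem_zpowers_iff.1 (mem_zpowers_of_cyclic Nat.prime_five hτ hσ)
        obtain ⟨n, hn⟩ := exists_nat_pow (by norm_num : 0 < 5) (a := σ) (by rw [← hσ, pow_orderOf_eq_one]) k
        rw [← hk, hn, map_pow]
        refine bpair_field hF hσ ?_
        rw [Nat.coprime_comm, Nat.Prime.coprime_iff_not_dvd Nat.prime_five]
        rintro ⟨l, hl⟩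
        rw [← hk, hn, hl, pow_mul, show σ ^ 5 = 1 by rw [← hσ, pow_orderOf_eq_one], one_pow, orderOf_one] at hτ
        omega

end

/-- the solvable Baer-Suzuki theorem in a smaller universe -/
theorem rshyp_down {p : ℕ} (h : RSHyp.{u} p) : RSHyp.{0} p := by
  intro K _ _ x hx hgx
  let e : ULift.{u} K ≃* K := MulEquiv.ulift
  have hpair : ∀ a b : ULift.{u} K, Group.IsSolvable ↥(Subgroup.closure ({e a, e b} : Set K)) →
      Group.IsSolvable ↥(Subgroup.closure ({a, b} : Set (ULift.{u} K))) := by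
    intro a b hab
    have hab' : Group.IsSolvable ↥((Subgroup.closure ({a, b} : Set (ULift.{u} K))).map (e : ULift.{u} K →* K)) := by
      rw [closure_pair_map (e : ULift.{u} K →* K) a b]
      exact hab
    exact Group.isSolvable_of_isSolvable_injective
      (f := ((Subgroup.closure ({a, b} : Set (ULift.{u} K))).equivMapOfInjective (e : ULift.{u} K →* K)
        e.injective).toMonoidHom) (MulEquiv.injective _)
  have h1 := h (ULift.{u} K) (e.symm x) (by rw [MulEquiv.orderOf_eq, hx]) (fun g => by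
    apply hpair
    have h2 := hgx (e g)
    rw [map_mul, map_mul, map_inv, e.apply_symm_apply]
    exact h2)
  have h2 : Subgroup.closure {y : K | ∃ g : K, y = g * x * g⁻¹} =
      (Subgroup.closure {y : ULift.{u} K | ∃ g : ULift.{u} K, y = g * e.symm x * g⁻¹}).map (e : ULift.{u} K →* K) := by
    rw [MonoidHom.map_closure]
    congr 1
    ext y
    constructor
    · rintro ⟨g, rfl⟩
      refine ⟨e.symm g * e.symm x * (e.symm g)⁻¹, ⟨e.symm g, rfl⟩, ?_⟩
      show e (e.symm g * e.symm x * (e.symm g)⁻¹) = _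
      rw [map_mul, map_mul, map_inv, e.apply_symm_apply, e.apply_symm_apply]
    · rintro ⟨_, ⟨g, rfl⟩, rfl⟩
      refine ⟨e g, ?_⟩
      show e (g * e.symm x * g⁻¹) = _
      rw [map_mul, map_mul, map_inv, e.apply_symm_apply]
  rw [h2]
  exact Group.isSolvable_of_surjective (f := (e : ULift.{u} K →* K).subgroupMap _)
    ((e : ULift.{u} K →* K).subgroupMap_surjective _)

/-- **The strong row of `Sz(q)`, `p` odd.** -/
theorem srow_sz_all {S : Type u} [Group S] [Finite S] {F : Type} [Field F] [Fintype F] {m : ℕ} (hm : 1 ≤ m)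
    (hF : Fintype.card F = 2 ^ (2 * m + 1)) {p : ℕ} (hpp : p.Prime) (hp2 : p ≠ 2)
    (e : S ≃* ↥(Cfsg.Lie.Sz F (2 ^ (m + 1)))) (B : SBox.{u} p) : SRow p S := by
  by_cases h5 : p = 5 ∧ m = 2
  · obtain ⟨rfl, rfl⟩ := h5
    exact H897.T5Sub.SRow.congr e.symm (srow_sz32 hF (aahyp_down B.aa) (rshyp_down B.rs))
  · exact srow_sz hm hF hpp hp2 e B.aa B.rs h5

/-- **The strong row of `²G₂(q)`, `p ≥ 5`.** -/
theorem srow_ree_all {S : Type u} [Group S] [Finite S] {K : Type} [Field K] [Fintype K] {m : ℕ} (hm : 1 ≤ m)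
    (hK : Fintype.card K = 3 ^ (2 * m + 1)) {p : ℕ} (hpp : p.Prime) (hp5 : 5 ≤ p)
    (e : S ≃* ↥(Cfsg.Lie.twistedG2 K (3 ^ m))) (B : SBox.{u} p) : SRow p S :=
  srow_ree hm hK hpp hp5 e B.aa B.rs

end Cfsg.Agent.H442.S5
end

-- part: H951/S5/CoreFalse
section
/-!
# Special pairs of rank two groups (S2274): no normal `p`-subgroups

`core_false` : `c ∈ U`, `c ∉ V_i`, `c` acts trivially on all `j`-panels of fixed chambers, `d` fixes exactly the chambers
of one `i`-panel. Then `⟨c, d ^ g⟩`, `g = (n_j n_i)⁻¹`, normalises no `p`-subgroup `≠ 1` (Borel-Tits).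
-/

set_option autoImplicit false
set_option linter.unusedSectionVars false

namespace Cfsg.Agent.H951.S5.CoreFalse

open CoxeterSystem Cfsg.Agent.ChevalleyStructure.CoxeterGeom Cfsg.Agent.Tits.Roots Cfsg.Agent.Tits.Core
  Cfsg.Agent.Tits.RootComb Cfsg.Agent.Tits.Exchange Cfsg.Agent.Nodes.Reps Cfsg.Agent.Nodes.BNOf
  Cfsg.Agent.Nodes.StabComb Cfsg.Agent.Nodes.Bruhat Cfsg.Agent.Nodes.OppDec Cfsg.Agent.Nodes.LeviDec
  Cfsg.Agent.KFacts.RgdBorelTits
  Cfsg.Agent.H533.T5 Cfsg.Agent.H798.T5Geo Cfsg.Agent.H798.T5Root Cfsg.Agent.H798.T5Bond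

variable {I W Y : Type*} [Fintype I] [DecidableEq I] [Group W] [Group Y] {M : CoxeterMatrix I}
  {cs : CoxeterSystem M W} {A : I → I → ℤ} {h : IsCartan M A} {p : ℕ} {T : Subgroup Y} {n : I → Y}
  {X : (I → ℤ) → Subgroup Y}

theorem LJ_mono {J J' : Set I} (hJ : J ⊆ J') : LJ cs h T X J ≤ LJ cs h T X J' :=
  sup_le_sup le_rfl (RGD.Sup_mono fun _ hx => ⟨hx.1, fun k hk => hx.2 k fun h1 => hk (hJ h1)⟩)

theorem PJ_mono {J J' : Set I} (hJ : J ⊆ J') : PJ cs h T X J ≤ PJ cs h T X J' :=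
  sup_le ((LJ_mono hJ).trans LJ_le_PJ) ((VJ_le_B J).trans B_le_PJ)

theorem isPGroup_zpowers_conj {x : Y} (hx : IsPGroup p (Subgroup.zpowers x)) (k : Y) :
    IsPGroup p (Subgroup.zpowers (k * x * k⁻¹)) := by
  have h2 : Subgroup.zpowers (k * x * k⁻¹) = (Subgroup.zpowers x).map (MulAut.conj k).toMonoidHom := by
    rw [MonoidHom.map_zpowers]; rfl
  rw [h2]
  exact hx.map _

theorem core_false [Finite W] [Finite Y] [Fact p.Prime] (R : RGD cs h p T n X) {F : (I → ℤ) → ℝ → Subgroup Y}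
    (hF : Filt R F) (hG : GG cs h T X = ⊤) {i j : I} (hij : i ≠ j) (hM : M i j ≠ 2) (hall : ∀ k, k = i ∨ k = j)
    {c d : Y} (hc : c ∈ RGD.Sup X (RGD.Pos cs h)) (hc' : c ∉ VJ cs h X {i}) (hcj : ¬ NT cs h X c j)
    (hd : ∀ g ∈ PJ cs h T X {i}, g * d * g⁻¹ ∈ RGD.Sup X (RGD.Pos cs h) ∧ g * d * g⁻¹ ∉ VJ cs h X {j})
    {N : Subgroup Y} (hN : IsPGroup p N) (hN1 : N ≠ ⊥) (hcN : c ∈ Subgroup.normalizer (N : Set Y))
    (hdN : (n j * n i)⁻¹ * d * (n j * n i)⁻¹⁻¹ ∈ Subgroup.normalizer (N : Set Y)) : False := by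
  obtain ⟨x, J, hJ, -, hNJ⟩ := borel_tits hF hG hN hN1
  obtain ⟨g0, hg0⟩ : ∃ g0, g0 = (n j * n i)⁻¹ := ⟨_, rfl⟩
  rw [← hg0] at hdN
  have hc1 : x⁻¹ * c * x ∈ PJ cs h T X J := mem_cj.1 (hNJ hcN)
  have hd1 : x⁻¹ * (g0 * d * g0⁻¹) * x ∈ PJ cs h T X J := mem_cj.1 (hNJ hdN)
  have hdU : d ∈ RGD.Sup X (RGD.Pos cs h) := by
    have := (hd 1 (one_mem _)).1
    rwa [one_mul, inv_one, mul_one] at this
  have pc : IsPGroup p (Subgroup.zpowers c) := R.isPGroup_Upos.to_le (by rw [Subgroup.zpowers_le]; exact hc)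
  have pd : IsPGroup p (Subgroup.zpowers d) := R.isPGroup_Upos.to_le (by rw [Subgroup.zpowers_le]; exact hdU)
  have hJuniv : ({i, j} : Set I) = Set.univ := by
    ext k
    simp only [Set.mem_insert_iff, Set.mem_singleton_iff, Set.mem_univ, iff_true]
    exact hall k
  have htop : ∀ y : Y, y ∈ PJ cs h T X {i, j} := by
    intro y
    rw [hJuniv]
    refine LJ_le_PJ ?_
    rw [LJ_univ, hG]
    exact Subgroup.mem_top y
  -- the goal
  have main : g0⁻¹ * c * g0 ∈ PJ cs h T X {i} → False := by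
    intro h1
    refine hc' (mem_V_of_core R hij hM hc ?_)
    have e : n j * n i * c * (n j * n i)⁻¹ = g0⁻¹ * c * g0 := by rw [hg0]; group
    rwa [e]
  by_cases hjJ : j ∈ J
  · -- `J ⊆ {j}`
    have hiJ : i ∉ J := by
      intro hiJ
      apply hJ
      ext k
      simp only [Set.mem_univ, iff_true]
      rcases hall k with rfl | rfl
      · exact hiJ
      · exact hjJ
    have hJj : J ⊆ {j} := by
      intro k hk
      rcases hall k with rfl | rfl
      · exact absurd hk hiJ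
      · rfl
    have hc2 := PJ_mono (cs := cs) (h := h) (T := T) (X := X) hJj hc1
    have hd2 := PJ_mono (cs := cs) (h := h) (T := T) (X := X) hJj hd1
    obtain ⟨r, hr, hrK⟩ := exists_conj_U_P R (J := {j}) (K := Subgroup.zpowers (x⁻¹ * g0 * d * (x⁻¹ * g0)⁻¹))
      (isPGroup_zpowers_conj pd _) (by
        rw [Subgroup.zpowers_le]
        have e : x⁻¹ * g0 * d * (x⁻¹ * g0)⁻¹ = x⁻¹ * (g0 * d * g0⁻¹) * x := by group
        rwa [e])
    have h1 := hrK _ (Subgroup.mem_zpowers _)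
    obtain ⟨y, hy⟩ : ∃ y, y = r * x⁻¹ * g0 := ⟨_, rfl⟩
    have h2 : y * d * y⁻¹ ∈ RGD.B cs h T X := by
      have e : y * d * y⁻¹ = r * (x⁻¹ * g0 * d * (x⁻¹ * g0)⁻¹) * r⁻¹ := by rw [hy]; group
      rw [e]
      exact RGD.U_le_B h1
    have hyP := mem_P_of_only R hd (htop y) h2
    -- `y g0⁻¹ c g0 y⁻¹ ∈ P_j`
    obtain ⟨c', hc'e⟩ : ∃ c', c' = y * (g0⁻¹ * c * g0) * y⁻¹ := ⟨_, rfl⟩
    have h3 : c' ∈ PJ cs h T X {j} := by
      have e : c' = r * (x⁻¹ * c * x) * r⁻¹ := by rw [hc'e, hy]; group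
      rw [e]
      exact mul_mem (mul_mem hr hc2) (inv_mem hr)
    have pc' : IsPGroup p (Subgroup.zpowers c') := by
      have e : c' = (y * g0⁻¹) * c * (y * g0⁻¹)⁻¹ := by rw [hc'e]; group
      rw [e]
      exact isPGroup_zpowers_conj pc _
    obtain ⟨s, hs, hsK⟩ := exists_conj_U_P R (J := {j}) pc' (by rw [Subgroup.zpowers_le]; exact h3)
    have h4 := hsK _ (Subgroup.mem_zpowers _)
    have h5 : s * c' * s⁻¹ ∈ VJ cs h X {j} := by
      have e : s * c' * s⁻¹ = (s * y * g0⁻¹) * c * (s * y * g0⁻¹)⁻¹ := by rw [hc'e]; group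
      rw [e] at h4 ⊢
      exact mem_V_of_not_NT hcj _ h4
    have h6 := (P_conj_V R hs).1 h5
    have h7 : c' ∈ PJ cs h T X {i} := B_le_PJ (VJ_le_B _ h6)
    apply main
    have e : g0⁻¹ * c * g0 = y⁻¹ * c' * y := by rw [hc'e]; group
    rw [e]
    exact mul_mem (mul_mem (inv_mem hyP) h7) hyP
  · -- `J ⊆ {i}`
    have hJi : J ⊆ {i} := by
      intro k hk
      rcases hall k with rfl | rfl
      · rfl
      · exact absurd hk hjJ
    have hc2 := PJ_mono (cs := cs) (h := h) (T := T) (X := X) hJi hc1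
    have hd2 := PJ_mono (cs := cs) (h := h) (T := T) (X := X) hJi hd1
    obtain ⟨r, hr, hrK⟩ := exists_conj_U_P R (J := {i}) (K := Subgroup.zpowers (x⁻¹ * g0 * d * (x⁻¹ * g0)⁻¹))
      (isPGroup_zpowers_conj pd _) (by
        rw [Subgroup.zpowers_le]
        have e : x⁻¹ * g0 * d * (x⁻¹ * g0)⁻¹ = x⁻¹ * (g0 * d * g0⁻¹) * x := by group
        rwa [e])
    have h1 := hrK _ (Subgroup.mem_zpowers _)
    obtain ⟨y, hy⟩ : ∃ y, y = r * x⁻¹ * g0 := ⟨_, rfl⟩
    have h2 : y * d * y⁻¹ ∈ RGD.B cs h T X := by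
      have e : y * d * y⁻¹ = r * (x⁻¹ * g0 * d * (x⁻¹ * g0)⁻¹) * r⁻¹ := by rw [hy]; group
      rw [e]
      exact RGD.U_le_B h1
    have hyP := mem_P_of_only R hd (htop y) h2
    apply main
    have e : g0⁻¹ * c * g0 = (r⁻¹ * y)⁻¹ * (x⁻¹ * c * x) * (r⁻¹ * y) := by rw [hy]; group
    rw [e]
    have h3 := mul_mem (inv_mem hr) hyP
    exact mul_mem (mul_mem (inv_mem h3) hc2) h3

end Cfsg.Agent.H951.S5.CoreFalse
end

-- part: H951/S5/HH
section
/-!
# Hall-Higman: cubic elements of order `p ≥ 5` (S2274)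

`hh_false` : a solvable group without normal `p`-subgroups has no faithful representation in which an element of order
`p ≥ 5` satisfies `(x - 1) ^ 3 = 0`.
-/

set_option autoImplicit false
set_option linter.unusedSectionVars false

namespace Cfsg.Agent.H951.S5.HH

open Cfsg

theorem hh_false {F : Type*} [Field F] {p : ℕ} [hp : Fact p.Prime] [CharP F p] (h5 : 5 ≤ p) {V : Type*}
    [AddCommGroup V] [Module F V] [FiniteDimensional F V] {E : Type*} [Group E] [Finite E]
    (hsol : Group.IsSolvable E) (hN : ∀ N : Subgroup E, N.Normal → IsPGroup p N → N = ⊥)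
    (ρ : E →* (V ≃ₗ[F] V)) (hρ : Function.Injective ρ) {x : E} (hx : orderOf x = p)
    (hr : ((ρ x : Module.End F V) - 1) ^ 3 = 0) : False := by
  let e : E ≃* ρ.range := MonoidHom.ofInjective hρ
  have hfin : Finite ρ.range := Finite.of_equiv _ e.toEquiv
  have hsol' : Group.IsSolvable ρ.range := Group.isSolvable_of_surjective (f := e.toMonoidHom) e.surjective
  have hcore : Cfsg.pCore p ρ.range = ⊥ := by
    have h1 : (Cfsg.pCore p ρ.range).Normal := Cfsg.Agent.Lib.HallHigman.pCore_normal p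
    have h2 : IsPGroup p (Cfsg.pCore p ρ.range) := Cfsg.Agent.Lib.HallHigman.pCore_isPGroup p
    have h3 : (Cfsg.pCore p ρ.range).comap e.toMonoidHom = ⊥ :=
      hN _ (h1.comap _) (h2.comap_of_injective _ e.injective)
    rw [eq_bot_iff]
    intro y hy
    obtain ⟨z, rfl⟩ := e.surjective y
    have h4 : z ∈ (Cfsg.pCore p ρ.range).comap e.toMonoidHom := hy
    rw [h3, Subgroup.mem_bot] at h4
    rw [h4, map_one]
    exact one_mem _
  have ho : orderOf (ρ x) = p ^ 1 := by rw [orderOf_injective ρ hρ, hx, pow_one]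
  have := Cfsg.Agent.S0633.bound ρ.range (Cfsg.Agent.Lib.PSolvable.IsPSolvable_of_solvable p) hcore (ρ x) ⟨x, rfl⟩ 1
    le_rfl ho 3 hr
  rcases this with h | ⟨n₀, q, m, h1, h2, -, -, -, -, h3⟩
  · rw [pow_one] at h
    omega
  · have h4 : n₀ = 1 := by omega
    rw [h4, Nat.sub_self, pow_zero, pow_one, one_mul] at h3
    omega

end Cfsg.Agent.H951.S5.HH
end

-- part: H951/S5/D4Nat
section
/-!
# `D₄(K)` on the natural module (S2274, `³D₄(q)`)

* `Rl g A` : `g ∈ Ω₈⁺(K)` and `A` in the Chevalley group `D₄(K) ≤ GL₂₈(K)` correspond to each other;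
* `exists_cubic` : the elements of the unipotent radical of the parabolic subgroup of the long node lift to elements `g`
  with `(g - 1) ^ 3 = 0`;
* `scalar_of_rel_one` : `Rl g 1` only for `g = ± 1`.
-/

set_option autoImplicit false
set_option linter.unusedSectionVars false

namespace Cfsg.Agent.H951.S5.D4Nat

open Matrix Cfsg.Lie Cfsg.Agent.ChevalleyStructure Cfsg.Agent.ChevalleyStructure.OrthHyp
  Cfsg.Agent.ChevalleyStructure.OrthLie Cfsg.Agent.ChevalleyStructure.OrthLie.Tab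
  Cfsg.Agent.ChevalleyStructure.TwistedU
open Cfsg.Agent.ChevalleyStructure.OrthD4Def (tab)
open Cfsg.Agent.ChevalleyStructure.OrthD4Tab (ok span compat)
open Cfsg.Agent.ChevalleyStructure.D4Comm (xG coe_xG)
open Cfsg.Agent.ChevalleyStructure.D4U (RS)
open Cfsg.Agent.H106.MTwD4 (l1)

variable {F : Type*} [Field F]

/-- the index set -/
abbrev Ix := Fin 4 ⊕ Fin 4

/-! ### the flag -/

/-- the levels of the flag -/
def lev : Ix → ℕ
  | .inl i => if i.val < 2 then 0 else 1
  | .inr i => if i.val < 2 then 2 else 1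

theorem lev_le : ∀ k : Ix, lev k ≤ 2 := by decide +kernel

/-- acting trivially on the factors of the flag -/
def Lv (M : Matrix Ix Ix F) : Prop := ∀ k l, lev l ≤ lev k → M k l = if k = l then 1 else 0

theorem Lv.one : Lv (1 : Matrix Ix Ix F) := fun _ _ _ => Matrix.one_apply

theorem Lv.mul {M N : Matrix Ix Ix F} (hM : Lv M) (hN : Lv N) : Lv (M * N) := by
  intro i j hij
  rw [Matrix.mul_apply]
  have key : ∀ k, M i k * N k j = if k = i then (if i = j then 1 else 0) else 0 := by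
    intro k
    by_cases hk : k = i
    · subst hk
      rw [if_pos rfl, hM k k le_rfl, if_pos rfl, one_mul, hN k j hij]
    · rw [if_neg hk]
      by_cases h1 : lev k ≤ lev i
      · rw [hM i k h1, if_neg (Ne.symm hk), zero_mul]
      · rw [hN k j (by omega), if_neg, mul_zero]
        rintro rfl
        exact h1 hij
  rw [Finset.sum_congr rfl (fun k _ => key k), Finset.sum_ite_eq' Finset.univ i, if_pos (Finset.mem_univ _)]

theorem Lv.pow {M : Matrix Ix Ix F} (hM : Lv M) (n : ℕ) : Lv (M ^ n) := by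
  induction n with
  | zero => rw [pow_zero]; exact Lv.one
  | succ n ih => rw [pow_succ]; exact ih.mul hM

/-- **Elements of the flag group are cubic.** -/
theorem Lv.cube {M : Matrix Ix Ix F} (hM : Lv M) : (M - 1) ^ 3 = 0 := by
  have h0 : ∀ k l, lev l ≤ lev k → (M - 1) k l = 0 := by
    intro k l hkl
    rw [Matrix.sub_apply, hM k l hkl, Matrix.one_apply, sub_self]
  rw [pow_succ, pow_two]
  ext k l
  rw [Matrix.mul_apply]
  refine Finset.sum_eq_zero fun b _ => ?_
  by_cases hb : lev l ≤ lev b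
  · rw [h0 b l hb, mul_zero]
  · rw [Matrix.mul_apply, Finset.sum_eq_zero, zero_mul]
    intro a _
    by_cases ha : lev b ≤ lev a
    · rw [h0 a b ha, mul_zero]
    · rw [h0 k a, zero_mul]
      have := lev_le l
      omega

/-! ### related elements -/

/-- the relation -/
def Rl (g : GL Ix F) (A : GL chevD4.Idx F) : Prop :=
  g ∈ (plusForm 4 F).E ∧ tab.Rel (plusForm 4 F) g (A : Matrix chevD4.Idx chevD4.Idx F)

theorem Rl.one : Rl (1 : GL Ix F) 1 := ⟨one_mem _, Rel.one⟩

theorem Rl.mul {g h : GL Ix F} {A B : GL chevD4.Idx F} (hg : Rl g A) (hh : Rl h B) : Rl (g * h) (A * B) :=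
  ⟨mul_mem hg.1 hh.1, by rw [Units.val_mul]; exact hg.2.mul hh.2⟩

theorem Rl.inv {g : GL Ix F} {A : GL chevD4.Idx F} (hg : Rl g A) : Rl g⁻¹ A⁻¹ := by
  obtain ⟨hgE, hgO, l, hl⟩ := hg
  refine ⟨inv_mem hgE, inv_mem hgO, - (((A⁻¹ : GL chevD4.Idx F) : Matrix chevD4.Idx chevD4.Idx F) *ᵥ l),
    fun u v => ?_⟩
  have h1 := hl (((g⁻¹ : GL Ix F) : Matrix Ix Ix F) *ᵥ u) (((g⁻¹ : GL Ix F) : Matrix Ix Ix F) *ᵥ v)
  rw [act_act_inv, act_act_inv, (plusForm 4 F).B_act (inv_mem hgO)] at h1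
  rw [h1, Matrix.mulVec_add, Matrix.mulVec_mulVec, ← Units.val_mul, inv_mul_cancel, Units.val_one,
    Matrix.one_mulVec, Matrix.mulVec_smul, smul_neg, add_neg_cancel_right]

theorem Rl.eq {g : GL Ix F} {A B : GL chevD4.Idx F} (hA : Rl g A) (hB : Rl g B) : A = B :=
  Units.ext (hA.2.unique (compat F) span hB.2)

theorem exists_rl {A : GL chevD4.Idx F} (hA : A ∈ chevD4.group F) : ∃ g : GL Ix F, Rl g A := by
  obtain ⟨g, h1, h2⟩ := exists_of_mem_group (compat F) ok hA
  exact ⟨g, h1, h2⟩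

/-- **The kernel.** -/
theorem scalar_of_rel_one {g : GL Ix F} (hg : Rl g 1) :
    ∃ c : F, c ^ 2 = 1 ∧ ∀ v : Ix → F, (g : Matrix Ix Ix F) *ᵥ v = c • v := by
  refine (plusForm 4 F).scalar_of_commute (k := Sum.inl 0) (l := Sum.inl 1) (Set.mem_univ _) (Set.mem_univ _)
    (by decide) (show (Sum.inl 1 : Ix) ≠ Sum.inr 0 from Sum.inl_ne_inr) ((plusForm 4 F).E_le_O hg.1) fun e he => ?_
  exact commute_of_rel_one (compat F) OrthD4Tab.min OrthD4Tab.third hg.2 he

/-! ### the root elements of the radical -/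

/-- the check: the column `p` of the root element `r` -/
def ckB (r : ℕ) (p : Ix) : Bool := match tab.tv r p with
  | [] => false
  | x :: rest => decide (x = (p, 1, 0)) && rest.all fun y => decide (lev y.1 < lev p)

theorem ck : ∀ r ∈ l1, ∀ p : Ix, ckB r p = true := by decide +kernel

theorem pvec_apply_zero {l : List (Ix × ℤ × ℕ)} {t : F} {k : Ix} (h : ∀ x ∈ l, x.1 ≠ k) : pvec l t k = 0 := by
  unfold pvec
  induction l with
  | nil => simp
  | cons x l ih =>
    rw [List.map_cons, List.sum_cons, Pi.add_apply, ih fun y hy => h y (List.mem_cons_of_mem _ hy), add_zero,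
      Pi.smul_apply, Pi.single_eq_of_ne (Ne.symm (h x (List.mem_cons_self))), smul_zero]

theorem lv_rootV {r : Fin chevD4.nroots} (hr : r.val ∈ l1) (t : F) :
    Lv (rootV (compat F) r t : Matrix Ix Ix F) := by
  intro k p hkp
  have h1 : (rootV (compat F) r t : Matrix Ix Ix F) k p =
      ((rootV (compat F) r t : Matrix Ix Ix F) *ᵥ Pi.single p 1) k := by
    rw [Matrix.mulVec_single_one]
    rfl
  rw [h1, rootV, (plusForm 4 F).sieg_act, sgl_single (compat F)]
  have h2 := ck r.val hr p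
  unfold ckB at h2
  generalize tab.tv r.val p = L at h2 ⊢
  rcases L with _ | ⟨x, rest⟩
  · exact absurd h2 (by simp)
  · simp only [Bool.and_eq_true, decide_eq_true_eq, List.all_eq_true] at h2
    obtain ⟨rfl, h3⟩ := h2
    have h4 : pvec ((p, 1, 0) :: rest) t k = (Pi.single p 1 : Ix → F) k + pvec rest t k := by
      unfold pvec
      rw [List.map_cons, List.sum_cons, Pi.add_apply]
      simp
    rw [h4, pvec_apply_zero (fun y hy h => by
      have := h3 y hy
      rw [h] at this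
      omega), add_zero, Pi.single_apply]

/-- the elements with a lift in the flag group -/
def FG (F : Type*) [Field F] [Finite F] : Subgroup (GL chevD4.Idx F) where
  carrier := {A | ∃ g : GL Ix F, Rl g A ∧ Lv (g : Matrix Ix Ix F)}
  one_mem' := ⟨1, Rl.one, Lv.one⟩
  mul_mem' := by
    rintro A B ⟨g, hg, hg'⟩ ⟨h, hh, hh'⟩
    exact ⟨g * h, hg.mul hh, by rw [Units.val_mul]; exact hg'.mul hh'⟩
  inv_mem' := by
    rintro A ⟨g, hg, hg'⟩
    refine ⟨g⁻¹, hg.inv, ?_⟩
    have h1 : g⁻¹ = g ^ (orderOf g - 1) := by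
      rw [inv_eq_iff_mul_eq_one, ← pow_succ', Nat.sub_add_cancel (orderOf_pos g), pow_orderOf_eq_one]
    rw [h1, Units.val_pow_eq_pow_val]
    exact hg'.pow _

theorem RS_le_FG [Finite F] : RS F l1 ≤ FG F := by
  refine rspan_le xG fun r hr t => ?_
  have hr24 : r < chevD4.nroots := by
    have : ∀ r ∈ l1, r < chevD4.nroots := by decide +kernel
    exact this r hr
  refine ⟨rootV (compat F) ⟨r, hr24⟩ t, ⟨rootV_mem_E (compat F) _ t, ?_⟩, lv_rootV (r := ⟨r, hr24⟩) hr t⟩
  have h1 : chevD4.x F r t = chevD4.xMat F ⟨r, hr24⟩ t := dif_pos hr24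
  rw [coe_xG, h1]
  exact rel_rootV (compat F) ok _ t

/-- **The lifts of the radical are cubic.** -/
theorem exists_cubic [Finite F] {A : GL chevD4.Idx F} (hA : A ∈ RS F l1) :
    ∃ g : GL Ix F, Rl g A ∧ ((g : Matrix Ix Ix F) - 1) ^ 3 = 0 := by
  obtain ⟨g, h1, h2⟩ := RS_le_FG hA
  exact ⟨g, h1, h2.cube⟩

end Cfsg.Agent.H951.S5.D4Nat
end

-- part: H951/S5/D4Pair
section
/-!
# The special pairs of `³D₄(q)` in its own characteristic (S2274, O6)

`apair_only` : `c` of type `{0}` only, `d` fixing exactly the chambers of one `0`-panel: the group generated by `c` and a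
conjugate of `d` is not solvable (Borel-Tits, Hall-Higman: `c` is cubic on the natural module).
-/

set_option autoImplicit false
set_option linter.unusedSectionVars false
set_option maxHeartbeats 400000

namespace Cfsg.Agent.H951.S5.D4Pair

open CoxeterSystem Cfsg.Agent.ChevalleyStructure.CoxeterGeom Cfsg.Agent.Tits.Roots Cfsg.Agent.Tits.Core
  Cfsg.Agent.Nodes.BNOf Cfsg.Agent.Nodes.RGDTwGen Cfsg.Agent.Nodes.RGDChev Cfsg.Agent.Nodes.RGDFold
open Cfsg.Agent.Nodes.Reps Cfsg.Agent.Nodes.StabComb Cfsg.Agent.Nodes.LeviDec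
open Cfsg.Lie Cfsg.Agent.ChevalleyStructure Cfsg.Agent.ChevalleyStructure.OrthHyp
open Cfsg.Agent.Nodes.RGDTwD4 (isCartan X T n)
open Cfsg.Agent.H132.S5 Cfsg.Agent.H951.S5.D4Nat Cfsg.Agent.H951.S5.CoreFalse

variable {K : Type} [Field K] [Fintype K] {q : ℕ} {φ : K →+* K}

theorem tw_le (hφ : ∀ x, φ x = x ^ q) : twistedD4 K q ≤ chevD4.group K := by
  have hx : ∀ r (t : K), D4Cols.xU r t ∈ chevD4.group K := fun r t => by
    rw [D4U.xU_eq]
    exact Elts.xG_mem_group Nodes.RGDTwD4.hp.inList r t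
  exact D4Fixed.twisted_induction hφ (fun t _ => hx _ _) (fun t _ => hx _ _)
    (fun t => mul_mem (mul_mem (hx _ _) (hx _ _)) (hx _ _)) (fun t => mul_mem (mul_mem (hx _ _) (hx _ _)) (hx _ _))

/-- the pairs (lift, element) over a subgroup -/
def PG (H : Subgroup ↥(twistedD4 K q)) : Subgroup (GL Ix K × ↥(twistedD4 K q)) where
  carrier := {x | Rl x.1 (x.2 : GL chevD4.Idx K) ∧ x.2 ∈ H}
  one_mem' := ⟨Rl.one, one_mem _⟩
  mul_mem' := by
    rintro ⟨a, b⟩ ⟨c, d⟩ ⟨h1, h2⟩ ⟨h3, h4⟩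
    exact ⟨h1.mul h3, mul_mem h2 h4⟩
  inv_mem' := by
    rintro ⟨a, b⟩ ⟨h1, h2⟩
    exact ⟨h1.inv, inv_mem h2⟩

/-- the projection to the natural module -/
def p1 (H : Subgroup ↥(twistedD4 K q)) : ↥(PG H) →* GL Ix K :=
  (MonoidHom.fst (GL Ix K) ↥(twistedD4 K q)).comp (PG H).subtype

/-- the projection to the group -/
def p2 (H : Subgroup ↥(twistedD4 K q)) : ↥(PG H) →* ↥(twistedD4 K q) :=
  (MonoidHom.snd (GL Ix K) ↥(twistedD4 K q)).comp (PG H).subtype

theorem p1_injective (H : Subgroup ↥(twistedD4 K q)) : Function.Injective (p1 H) := by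
  rw [injective_iff_map_eq_one]
  rintro ⟨⟨a, b⟩, h1, h2⟩ h3
  have h4 : a = 1 := h3
  subst h4
  have h5 : b = 1 := Subtype.ext (Rl.eq h1 Rl.one)
  subst h5
  rfl

theorem p2_mem {H : Subgroup ↥(twistedD4 K q)} (x : ↥(PG H)) : p2 H x ∈ H := x.2.2

theorem exists_p2 (hφ : ∀ x, φ x = x ^ q) {H : Subgroup ↥(twistedD4 K q)} {y : ↥(twistedD4 K q)} (hy : y ∈ H) :
    ∃ x : ↥(PG H), p2 H x = y := by
  obtain ⟨g, hg⟩ := exists_rl (tw_le hφ y.2)
  exact ⟨⟨(g, y), hg, hy⟩, rfl⟩

/-- the kernel of `p2` -/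
theorem scalar_of_p2 {H : Subgroup ↥(twistedD4 K q)} {x : ↥(PG H)} (hx : p2 H x = 1) :
    ∃ c : K, c ^ 2 = 1 ∧ ∀ v : Ix → K, ((p1 H x : GL Ix K) : Matrix Ix Ix K).mulVec v = c • v := by
  obtain ⟨⟨a, b⟩, h1, h2⟩ := x
  have h3 : b = 1 := hx
  subst h3
  exact scalar_of_rel_one h1

theorem solvable_PG {H : Subgroup ↥(twistedD4 K q)} (hH : Group.IsSolvable ↥H) : Group.IsSolvable ↥(PG H) := by
  let f : ↥(PG H) →* ↥H := (p2 H).codRestrict H p2_mem
  have hk : Group.IsSolvable ↥f.ker := by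
    refine Group.isSolvable_of_comm fun a b => Subtype.ext (p1_injective H ?_)
    have ha : p2 H a = 1 := congrArg Subtype.val (MonoidHom.mem_ker.1 a.2)
    have hb : p2 H b = 1 := congrArg Subtype.val (MonoidHom.mem_ker.1 b.2)
    obtain ⟨c, -, hc⟩ := scalar_of_p2 ha
    obtain ⟨d, -, hd⟩ := scalar_of_p2 hb
    simp only [Subgroup.coe_mul, Subgroup.coe_mul, map_mul, map_mul]
    apply ext_act
    intro v
    ((conv => enter [@2]; rw [act_mul]); simp only [act_mul]; (conv => enter [@2]; rw [hc]); (conv => enter [@2, @6]; rw [hd]); rewrite [hd, hc, smul_comm]; with_reducible rfl)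
  exact Group.isSolvable_of_ker_le_range f.ker.subtype f (by rw [Subgroup.range_subtype])

/-- the representation on the natural module -/
noncomputable def rho (H : Subgroup ↥(twistedD4 K q)) : ↥(PG H) →* ((Ix → K) ≃ₗ[K] (Ix → K)) :=
  (LinearMap.GeneralLinearGroup.generalLinearEquiv K (Ix → K)).toMonoidHom.comp
    (Matrix.GeneralLinearGroup.toLin.toMonoidHom.comp (p1 H))

theorem rho_injective (H : Subgroup ↥(twistedD4 K q)) : Function.Injective (rho H) :=
  (LinearMap.GeneralLinearGroup.generalLinearEquiv K (Ix → K)).injective.comp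
    (Matrix.GeneralLinearGroup.toLin.injective.comp (p1_injective H))

theorem rho_coe (H : Subgroup ↥(twistedD4 K q)) (x : ↥(PG H)) :
    (rho H x : Module.End K (Ix → K)) = Matrix.toLinAlgEquiv' ((p1 H x : GL Ix K) : Matrix Ix Ix K) := rfl

theorem rho_cube {H : Subgroup ↥(twistedD4 K q)} {x : ↥(PG H)}
    (hx : (((p1 H x : GL Ix K) : Matrix Ix Ix K) - 1) ^ 3 = 0) :
    ((rho H x : Module.End K (Ix → K)) - 1) ^ 3 = 0 := by
  have h1 := congrArg (Matrix.toLinAlgEquiv' (R := K) (n := Ix)) hx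
  rwa [map_pow, map_sub, map_one, map_zero, ← rho_coe] at h1

/-- cubic elements have order `p` -/
theorem pow_eq_one_of_cube {p : ℕ} [Fact p.Prime] [CharP K p] (h3 : 3 ≤ p) {g : GL Ix K}
    (hg : ((g : Matrix Ix Ix K) - 1) ^ 3 = 0) : g ^ p = 1 := by
  apply Units.ext
  rw [Units.val_pow_eq_pow_val, Units.val_one]
  have h1 : ((g : Matrix Ix Ix K) - 1) ^ p = (g : Matrix Ix Ix K) ^ p - 1 := by
    have := sub_pow_char_of_commute p (Commute.one_right (g : Matrix Ix Ix K))
    rw [this, one_pow]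
  have h2 : ((g : Matrix Ix Ix K) - 1) ^ p = 0 := by
    obtain ⟨k, rfl⟩ := Nat.exists_eq_add_of_le h3
    rw [pow_add, hg, zero_mul]
  rw [h2] at h1
  exact (sub_eq_zero.1 h1.symm)

local notation "cG" => CoxeterMatrix.toCoxeterSystem CoxeterMatrix.G₂

/-- **Part (a) of the special pairs.** -/
theorem apair_only (hK : Fintype.card K = q ^ 3) (hφ : ∀ x, φ x = x ^ q) {p : ℕ} [Fact p.Prime] [CharP K p]
    (hp5 : 5 ≤ p) {c d : ↥(twistedD4 K q)} (hcp : orderOf c = p)
    (hc : c ∈ RGD.Sup (X φ q) (RGD.Pos cG isCartan)) (hc' : c ∉ VJ cG isCartan (X φ q) {0})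
    (hc1 : ¬ H798.T5Geo.NT cG isCartan (X φ q) c 1)
    (hd : ∀ g ∈ PJ cG isCartan (T K q) (X φ q) {0}, g * d * g⁻¹ ∈ RGD.Sup (X φ q) (RGD.Pos cG isCartan) ∧
      g * d * g⁻¹ ∉ VJ cG isCartan (X φ q) {1}) : APair (⊤ : Subgroup ↥(twistedD4 K q)) c d := by
  have hp : p.Prime := Fact.out
  have hW := H798.T5Tw.finW_D4
  have R := Nodes.RGDTwD4.rgd cG hK hφ p
  have hG1 := Nodes.RGDTwD4.G1_eq_top cG hK hφ
  have hG := KFacts.RgdFilt.GG_eq_top (T := T K q) hG1
  have hF := (H798.T5Tw.intComm_D4 p hφ hK).filt (R := R)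
  refine ⟨(n hφ 1 * n hφ 0)⁻¹, Subgroup.mem_top _, fun hsol => ?_⟩
  obtain ⟨d', hd'⟩ : ∃ d', d' = (n hφ 1 * n hφ 0)⁻¹ * d * (n hφ 1 * n hφ 0)⁻¹⁻¹ := ⟨_, rfl⟩
  rw [← hd'] at hsol
  obtain ⟨H, hH⟩ : ∃ H : Subgroup ↥(twistedD4 K q), H = Subgroup.closure ({c, d'} : Set ↥(twistedD4 K q)) := ⟨_, rfl⟩
  rw [← hH] at hsol
  have hcH : c ∈ H := by rw [hH]; exact Subgroup.subset_closure (by simp)
  have hdH : d' ∈ H := by rw [hH]; exact Subgroup.subset_closure (by simp)
  -- the lift of `c`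
  have hcV : c ∈ VJ cG isCartan (X φ q) {1} := by
    have := H798.T5Geo.mem_V_of_not_NT hc1 1 (by rwa [one_mul, inv_one, mul_one])
    rwa [one_mul, inv_one, mul_one] at this
  obtain ⟨g, hg, hg3⟩ := exists_cubic (H106.MTwD4.coe_V1 cG hcV)
  let x : ↥(PG H) := ⟨(g, c), hg, hcH⟩
  have hxo : orderOf x = p := by
    refine orderOf_eq_prime ?_ ?_
    · refine p1_injective H ?_
      rw [map_pow, map_one]
      exact pow_eq_one_of_cube (by omega) hg3
    · intro h1
      have h2 : c = 1 := congrArg (p2 H) h1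
      rw [h2, orderOf_one] at hcp
      exact hp.one_lt.ne hcp
  refine HH.hh_false hp5 (solvable_PG hsol) ?_ (rho H) (rho_injective H) hxo (rho_cube hg3)
  intro N hNn hN
  -- the image in the group
  have hNp : IsPGroup p (N.map (p2 H)) := hN.map _
  have hnorm : ∀ y ∈ H, y ∈ Subgroup.normalizer ((N.map (p2 H) : Subgroup ↥(twistedD4 K q)) : Set ↥(twistedD4 K q)) := by
    have key : ∀ y ∈ H, ∀ m ∈ N.map (p2 H), y * m * y⁻¹ ∈ N.map (p2 H) := by
      rintro y hy _ ⟨w, hw, rfl⟩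
      obtain ⟨e, rfl⟩ := exists_p2 hφ hy
      exact ⟨e * w * e⁻¹, hNn.conj_mem w hw e, by simp only [map_mul, map_mul, map_inv]⟩
    intro y hy
    rw [Subgroup.mem_normalizer_iff]
    intro m
    refine ⟨key y hy m, fun hm => ?_⟩
    have h1 := key y⁻¹ (inv_mem hy) _ hm
    have e : y⁻¹ * (y * m * y⁻¹) * y⁻¹⁻¹ = m := by group
    rwa [e] at h1
  have hbot : N.map (p2 H) = ⊥ := by
    by_contra hne
    refine core_false R hF hG (i := 0) (j := 1) (by decide) (by decide) (fun k => by (revert k; simp only [_root_.Fin.forall_fin_succ, Fin.isValue, _root_.zero_ne_one, _root_.or_false, _root_.Fin.succ_ne_zero, _root_.false_or, _root_.Fin.succ_zero_eq_one, _root_.IsEmpty.forall_iff, _root_.and_self])) hc hc' hc1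
      hd hNp hne (hnorm c hcH) ?_
    rw [← hd']
    exact hnorm d' hdH
  rw [eq_bot_iff]
  intro w hw
  have h1 : p2 H w = 1 := by
    have : p2 H w ∈ N.map (p2 H) := ⟨w, hw, rfl⟩
    rwa [hbot, Subgroup.mem_bot] at this
  obtain ⟨s, hs2, hs⟩ := scalar_of_p2 h1
  have h2 : w ^ 2 = 1 := by
    refine p1_injective H ?_
    rw [map_pow, map_one]
    apply ext_act
    intro v
    rw [pow_two, act_mul, hs, hs, smul_smul, ← pow_two, hs2, one_smul, act_one]
  obtain ⟨k, hk⟩ := hN ⟨w, hw⟩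
  have h3 : w ^ p ^ k = 1 := by simpa only [_root_.SubmonoidClass.mk_pow, _root_.OneMemClass.coe_one] using congrArg Subtype.val hk
  rw [Subgroup.mem_bot, ← orderOf_eq_one_iff]
  refine Nat.eq_one_of_dvd_coprimes ?_ (orderOf_dvd_of_pow_eq_one h2) (orderOf_dvd_of_pow_eq_one h3)
  exact Nat.Coprime.pow_right k ((Nat.coprime_primes Nat.prime_two hp).2 (by omega))

end Cfsg.Agent.H951.S5.D4Pair
end

-- part: H951/S5/TwD
section
/-!
# `³D₄(q)` in its own characteristic: the strong row (S2274, O6)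

* `spair_special` : the special pairs;
* `srow_D4`, `srow_twD4_own` : the strong row.
-/

set_option autoImplicit false
set_option linter.unusedSectionVars false
set_option maxHeartbeats 400000

universe u

namespace Cfsg.Agent.H951.S5.TwD

open CoxeterSystem Cfsg.Agent.ChevalleyStructure.CoxeterGeom Cfsg.Agent.Tits.Roots Cfsg.Agent.Tits.Core
  Cfsg.Agent.Nodes.BNOf Cfsg.Agent.Nodes.RGDTwGen Cfsg.Agent.Nodes.RGDChev Cfsg.Agent.Nodes.RGDFold
open Cfsg.Agent.Nodes.Reps Cfsg.Agent.Nodes.StabComb Cfsg.Agent.Nodes.LeviDec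
open Cfsg.Lie Cfsg.Agent.ChevalleyStructure
open Cfsg.Agent.Nodes.RGDTwD4 (isCartan X T n)
open Cfsg.Agent.H533.T5 Cfsg.Agent.H132.S5
open Cfsg.Agent.H798.T5Geo Cfsg.Agent.H798.T5Pan Cfsg.Agent.H798.T5Tp Cfsg.Agent.H798.T5Asm Cfsg.Agent.H798.T5Tw
open Cfsg.Agent.H798.T5Untw (comm_of_not)
open Cfsg.Agent.H951.S5.TPan Cfsg.Agent.H951.S5.Asm
open Cfsg.Agent.KFacts.TwDFour.Out (KD)

variable {K : Type} [Field K] [Fintype K] (p : ℕ) [Fact p.Prime] [CharP K p] {q : ℕ} {φ : K →+* K}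
  (hφ : ∀ x, φ x = x ^ q) (hK : Fintype.card K = q ^ 3)

local notation "cG" => CoxeterMatrix.toCoxeterSystem CoxeterMatrix.G₂

include hφ hK

/-- **The special pairs.** -/
theorem spair_special (h5 : 5 ≤ p) {x y : ↥(twistedD4 K q)} (hx : orderOf x = p)
    (hx0 : NT cG isCartan (X φ q) x 0) (hx1 : ¬ NT cG isCartan (X φ q) x 1)
    (hy1 : NT cG isCartan (X φ q) y 1) (hy0 : ¬ NT cG isCartan (X φ q) y 0) :
    SPair p (⊤ : Subgroup ↥(twistedD4 K q)) x y := by
  have hp : p.Prime := Fact.out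
  have hW := finW_D4
  have R := Nodes.RGDTwD4.rgd cG hK hφ p
  obtain ⟨g0, h1, h2⟩ := hx0
  obtain ⟨g1, h3, h4⟩ := hy1
  refine SPair.conj_left (s := g0) (Subgroup.mem_top _) (SPair.conj_right (s := g1) (Subgroup.mem_top _) ?_)
  have ho : orderOf (g0 * x * g0⁻¹) = p := by
    rw [← MulAut.conj_apply, MulEquiv.orderOf_eq, hx]
  have hx1' : ¬ NT cG isCartan (X φ q) (g0 * x * g0⁻¹) 1 := fun h => hx1 (h.of_conj g0)
  have hd : ∀ g ∈ PJ cG isCartan (T K q) (X φ q) {0},
      g * (g1 * y * g1⁻¹) * g⁻¹ ∈ RGD.Sup (X φ q) (RGD.Pos cG isCartan) ∧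
        g * (g1 * y * g1⁻¹) * g⁻¹ ∉ VJ cG isCartan (X φ q) {1} := by
    intro g hg
    refine ⟨VJ_le_U _ ((P_conj_V R hg).2 (mem_V_of_not_NT hy0 g1 h3)), fun hV => ?_⟩
    obtain ⟨e, he1, he2⟩ := H798.T5Bond.exists_ball_of_mem R (i := 0) (j := 1) h4 hy0 ⟨g, hg, hV⟩
    refine H798.T5GFour.ball_false_of_G2 R ⟨by decide, by decide, by decide, intComm_D4 p hφ hK⟩
      (fun k => by (revert k; simp only [_root_.Fin.forall_fin_succ, Fin.isValue, _root_.zero_ne_one, _root_.or_false, _root_.Fin.succ_ne_zero, _root_.false_or, _root_.Fin.succ_zero_eq_one, _root_.IsEmpty.forall_iff, _root_.and_self])) h5 (e := e * y * e⁻¹) (fun h6 => he1 (by rw [h6]; exact one_mem _)) he2 ?_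
    exact fun h6 => hy0 (h6.of_conj e)
  refine SPair.mk' hp (D4Pair.apair_only hK hφ h5 ho h1 h2 hx1' hd) ?_
  obtain ⟨g, hg⟩ := H106.MTwD4.prod_only hK hφ cG h5 h1 h2 hd
  exact ⟨g, Subgroup.mem_top _, hg⟩

/-- **`SRow` of `³D₄(q)`.** -/
theorem srow_D4 (h5 : 5 ≤ p) (hq : IsPrimePow q) [IsSimpleGroup ↥(twistedD4 K q)]
    (hna : ¬ IsMulCommutative ↥(twistedD4 K q)) (hrow : ∀ Q, RowTwo p Q) : SRow p ↥(twistedD4 K q) := by
  have hp : p.Prime := Fact.out
  have hW := finW_D4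
  have R := Cfsg.Agent.Nodes.RGDTwD4.rgd cG hK hφ p
  have hG1 := Nodes.RGDTwD4.G1_eq_top cG hK hφ
  obtain ⟨E, hB, he, hF⟩ := exists_eng_of (Q := fun i => Nat.card (KD φ i)) R (gen_D4 p hφ hK)
    (Cfsg.Agent.FixBN.TwGood.isSolvable_T Nodes.RGDTwD4.hp) (fun i => fnode_D4 p hφ hK i) (by norm_num)
  refine _root_.Cfsg.Agent.H951.S5.Asm.srow_of R hB he (comm_of_not hna) (KFacts.RgdFilt.GG_eq_top (T := T K q) hG1) (fun i => hrow _) hF ?_
    (fun c hc => hout_D4 p hφ hK hB he (by omega) (by omega) hq hc)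
  intro x y hx hy
  have px : ∀ {x : ↥(twistedD4 K q)}, orderOf x = p → x ^ p = 1 := fun h => by rw [← h, pow_orderOf_eq_one]
  have nx : ∀ {x : ↥(twistedD4 K q)}, orderOf x = p → x ≠ 1 := by
    rintro x h rfl
    rw [orderOf_one] at h
    exact hp.one_lt.ne h
  rcases cases_D4 p hφ hK (px hx) (px hy) (nx hx) (nx hy) with h1 | ⟨h1, h2, h3, h4⟩ | ⟨h1, h2, h3, h4⟩
  · exact Or.inl h1
  · exact Or.inr (spair_special p hφ hK h5 hx h1 h2 h3 h4)
  · exact Or.inr (spair_special p hφ hK h5 hy h1 h2 h3 h4).symm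

omit hφ hK in
omit φ in
/-- **The strong row of `³D₄(q)`, `p ≥ 5` dividing `q`.** -/
theorem srow_twD4_own (hp : p.Prime) (h5 : 5 ≤ p) (B : SBox.{u} p) (hq : IsPrimePow q)
    (hK : Fintype.card K = q ^ 3) {S : Type u} [Group S] (e : S ≃* ↥(twistedD4 K q)) : SRow p S := by
  obtain ⟨hs, hna⟩ := Cfsg.Agent.S1071.result hq hK
  obtain ⟨φ, hφ⟩ := D4Fixed.exists_frob hq hK
  exact Cfsg.Agent.H897.T5Sub.SRow.congr e.symm (srow_D4 p hφ hK h5 hq hna (fun Q => rowTwo_of hp h5 B Q))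

end Cfsg.Agent.H951.S5.TwD
end

-- part: H122/S5/Rows
section
/-!
# S2274, X2: the untwisted exceptional groups, abelian Sylow `p`-subgroups (helper122)

`e` is the order of `q` modulo `p`.
* `edat_g2` : `G₂(q)`, `e ∈ {1, 2}`; `edat_f4` : `e ∈ {1, 2, 3}`; `edat_e6` : `e ∈ {1, 2, 3}`; `edat_e7` : `e ∈ {1, 2, 3, 4}`;
  `edat_e8` : `e ∈ {1, 2, 3, 5}`.
-/

set_option autoImplicit false
set_option linter.unusedSectionVars false

namespace Cfsg.Agent.H122.S5

open Subgroup Cfsg Cfsg.Lie Cfsg.Agent.ChevalleyStructure.Elts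
open Cfsg.Agent.ChevalleyStructure

universe u

theorem Fac.mono {S : Type*} [Group S] [Finite S] {p c d : ℕ} {L : Subgroup S} (h : Fac p c L) (hd : d ∣ c) :
    Fac p d L := ⟨h.qs, fun k hk => h.pp k (hk.trans hd), h.z⟩

/-- transport of the data -/
theorem EDat.congr {p : ℕ} {S T : Type*} [Group S] [Group T] (e : T ≃* S) (h : EDat p S) : EDat p T := by
  obtain ⟨M, L, h1, h2, h3, h4, h5⟩ := h
  have hs : Function.Surjective (e : T →* S) := e.surjective
  have e1 : ↥L ≃* ↥(L.comap (e : T →* S)) := ((e.subgroupMap (L.comap (e : T →* S))).trans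
    (MulEquiv.subgroupCongr (map_comap_eq_self_of_surjective hs L))).symm
  have hc : Nat.card (↥L ⧸ center ↥L) = Nat.card (↥(L.comap (e : T →* S)) ⧸ center ↥(L.comap (e : T →* S))) :=
    Nat.card_congr (QuotientGroup.congr _ _ e1
      (SignalizersComponents.QsBasic.map_center_mulEquiv e1)).toEquiv
  refine ⟨M.comap (e : T →* S), L.comap (e : T →* S), ?_, ?_,
    SignalizersComponents.QsBasic.isQuasisimple_of_mulEquiv e1 h3, hc ▸ h4, ?_⟩
  · rwa [index_comap_of_surjective _ hs]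
  · have h6 : (normalizer (L : Set S)).comap (e : T →* S) = normalizer ((L.comap (e : T →* S) : Subgroup T) : Set T) :=
      comap_normalizer_eq_of_surjective L hs
    rw [← h6]
    exact comap_mono h2
  · rw [← hc, Nat.card_congr e.toEquiv]
    exact h5

theorem two_le_card {F : Type*} [Field F] [Fintype F] {q : ℕ} (hq : Fintype.card F = q) : 2 ≤ q :=
  hq ▸ Fintype.one_lt_card

theorem pow_dvd {q e d : ℕ} (hq : 1 ≤ q) (h : e ∣ d) : q ^ e - 1 ∣ q ^ d - 1 := by
  obtain ⟨k, rfl⟩ := h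
  rw [pow_mul, ← gs_mul (Nat.one_le_pow e q hq) k]
  exact Dvd.intro _ rfl

theorem center_bot {S : Type*} [Group S] (h : IsSimpleGroup S ∧ ¬ IsMulCommutative S) : center S = ⊥ := by
  have := h.1
  rcases Subgroup.Normal.eq_bot_or_eq_top (inferInstance : (center S).Normal) with h1 | h1
  · exact h1
  · exact absurd ⟨⟨fun a b => ((mem_center_iff.1 (h1 ▸ mem_top b)) a)⟩⟩ h.2

section

variable {D : ChevalleyDatum} (hD : InList D) {F : Type u} [Field F] [Fintype F] {p : ℕ} (hp : p.Prime) {q e : ℕ}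
  (hq : Fintype.card F = q) (he : orderOf ((q : ℕ) : ZMod p) = e) (he0 : 0 < e)

include hD hp hq he he0

/-- the general row -/
theorem gen_row (hcen : center ↥(D.group F) = ⊥) {N j : ℕ} {ds : List ℕ}
    (hcard : Nat.card ↥(D.group F) ∣ q ^ N * (ds.map fun d => q ^ d - 1).prod) (hds : ∀ d ∈ ds, e ∣ d → ¬ p ∣ d / e)
    {a b : List ℕ} {l : List (List ℕ)} (hF : ∀ x ∈ a :: b :: l, Fac p ((q ^ e - 1) ^ j) (sub hD F x))
    (hl : pairB D (a :: b :: l) = true) (hj : j ≠ 0)
    (hk : ds.countP (fun d => decide (e ∣ d)) = j * (l.length + 2)) : EDat p ↥(D.group F) := by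
  have := finite_group (D := D) F
  have hq2 := two_le_card hq
  obtain ⟨m, hm, h1⟩ := exists_bound hp (by omega) he he0 N ds hds
  have h2 := pairwise_of hD F hl
  rw [List.map_cons, List.map_cons] at h2
  refine edat_of hp hcen (pow_ne_zero _ (pow_sub_ne hq2 he0)) (A := sub hD F a) (B := sub hD F b)
    (Ls := l.map (sub hD F)) ?_ h2 (dvd_pow ((dvd_iff (by omega) he e).2 dvd_rfl) hj) ?_ hm
  · intro L hL
    have h3 : L ∈ (a :: b :: l).map (sub hD F) := by
      rw [List.map_cons, List.map_cons]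
      exact hL
    obtain ⟨x, hx, rfl⟩ := List.mem_map.1 h3
    exact hF x hx
  · rw [List.length_map, ← pow_mul, ← hk, ← h1]
    exact hcard

/-- factors of type `A₁`, `e ∈ {1, 2}` -/
theorem row_one (h5 : 5 ≤ p) (he2 : e ∣ 2) (hcen : center ↥(D.group F) = ⊥) {N : ℕ} {ds : List ℕ}
    (hcard : Nat.card ↥(D.group F) ∣ q ^ N * (ds.map fun d => q ^ d - 1).prod) (hds : ∀ d ∈ ds, e ∣ d → ¬ p ∣ d / e)
    {a b : ℕ} {l : List ℕ} (hlt : ∀ x ∈ a :: b :: l, x < D.nroots)
    (hl : pairB D ((a :: b :: l).map fun r => [r, D.neg r]) = true)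
    (hk : ds.countP (fun d => decide (e ∣ d)) = l.length + 2) : EDat p ↥(D.group F) := by
  have hq2 := two_le_card hq
  have hq4 : 4 ≤ q := by
    have h1 : p ∣ q ^ 2 - 1 := (dvd_iff (by omega) he 2).2 he2
    have h2 : q ^ 2 - 1 = (q - 1) * (q + 1) := by
      obtain ⟨t, rfl⟩ := Nat.exists_eq_add_of_le' hq2
      rw [show t + 2 - 1 = t + 1 by omega, show (t + 2) ^ 2 = (t + 1) * (t + 2 + 1) + 1 by ring]
      rfl
    rw [h2, hp.dvd_mul] at h1
    rcases h1 with h1 | h1
    · have := Nat.le_of_dvd (by omega) h1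
      omega
    · have := Nat.le_of_dvd (by omega) h1
      omega
  rw [List.map_cons, List.map_cons] at hl
  refine gen_row hD hp hq he he0 hcen hcard hds (j := 1) ?_ hl one_ne_zero (by
    rw [hk, List.length_map, one_mul])
  intro x hx
  have h3 : x ∈ (a :: b :: l).map fun r => [r, D.neg r] := by
    rw [List.map_cons, List.map_cons]
    exact hx
  obtain ⟨r, hr, rfl⟩ := List.mem_map.1 h3
  rw [pow_one]
  exact (fac_one hD F hq hq4 hp h5 (hlt r hr)).mono (pow_dvd (by omega) he2)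

end

/-! ### types `Aₙ` -/

section

variable {F : Type u} [Field F] [Fintype F] {q : ℕ} (hq : Fintype.card F = q)

include hq

theorem sl3_one : (q ^ 1 - 1) ^ 2 ∣ Nat.card (Matrix.SpecialLinearGroup (Fin 3) F) := by
  have h1 : 1 ≤ q := by have := two_le_card hq; omega
  rw [H953.card_SL 3 (by norm_num), hq, show Finset.Icc 2 3 = {2, 3} from rfl,
    Finset.prod_pair (by norm_num), pow_two]
  exact (mul_dvd_mul (pow_dvd h1 (by norm_num)) (pow_dvd h1 (by norm_num))).mul_left _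

theorem sl_dvd {n e : ℕ} (hn : 1 ≤ n) (he : 2 ≤ e) (hen : e ≤ n) :
    (q ^ e - 1) ^ 1 ∣ Nat.card (Matrix.SpecialLinearGroup (Fin n) F) := by
  rw [H953.card_SL n hn, hq, pow_one]
  exact (Finset.dvd_prod_of_mem (fun j => q ^ j - 1) (Finset.mem_Icc.2 ⟨he, hen⟩)).mul_left _

end

section

variable {D : ChevalleyDatum} (hD : InList D) {F : Type u} [Field F] [Fintype F] {p : ℕ} (hp : p.Prime) {q e : ℕ}
  (hq : Fintype.card F = q) (he : orderOf ((q : ℕ) : ZMod p) = e) (he0 : 0 < e)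

include hD hp hq he he0

/-- factors of type `Aₙ₋₁` -/
theorem row_an (hcen : center ↥(D.group F) = ⊥) {N j n : ℕ} {ds : List ℕ} (hn : 3 ≤ n) (hpn : ¬ p ∣ n)
    (hcard : Nat.card ↥(D.group F) ∣ q ^ N * (ds.map fun d => q ^ d - 1).prod) (hds : ∀ d ∈ ds, e ∣ d → ¬ p ∣ d / e)
    {a b : List (List ℕ)} {l : List (List (List ℕ))} (hR : ∀ R ∈ a :: b :: l, ∃ σ, IsAn D n R σ)
    (hl : pairB D ((a :: b :: l).map (lst n)) = true) (hj : j ≠ 0)
    (hc : (q ^ e - 1) ^ j ∣ Nat.card (Matrix.SpecialLinearGroup (Fin n) F))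
    (hk : ds.countP (fun d => decide (e ∣ d)) = j * (l.length + 2)) : EDat p ↥(D.group F) := by
  rw [List.map_cons, List.map_cons] at hl
  refine gen_row hD hp hq he he0 hcen hcard hds (j := j) ?_ hl hj (by rw [hk, List.length_map])
  intro x hx
  have h3 : x ∈ (a :: b :: l).map (lst n) := by
    rw [List.map_cons, List.map_cons]
    exact hx
  obtain ⟨R, hR', rfl⟩ := List.mem_map.1 h3
  obtain ⟨σ, h⟩ := hR R hR'
  exact fac_an hD F hp hn hpn h hc

end

theorem not_dvd_23 {p n : ℕ} (hp : p.Prime) (h5 : 5 ≤ p) (h : n ∣ 2 ^ 10 * 3 ^ 10) : ¬ p ∣ n := by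
  intro h1
  rcases hp.dvd_mul.1 (h1.trans h) with h2 | h2
  · have := Nat.le_of_dvd (by norm_num) (hp.dvd_of_dvd_pow h2)
    omega
  · have := Nat.le_of_dvd (by norm_num) (hp.dvd_of_dvd_pow h2)
    omega

theorem not_dvd_2357 {p n : ℕ} (hp : p.Prime) (h5 : 5 ≤ p) (hp5 : p ≠ 5) (hp7 : p ≠ 7) (h : n ∣ 2 ^ 10 * 3 ^ 10 * 5 ^ 10 * 7 ^ 10) :
    ¬ p ∣ n := by
  intro h1
  rcases hp.dvd_mul.1 (h1.trans h) with h2 | h2
  · rcases hp.dvd_mul.1 h2 with h2 | h2
    · exact not_dvd_23 hp h5 dvd_rfl h2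
    · exact hp5 ((Nat.prime_dvd_prime_iff_eq hp (by norm_num)).1 (hp.dvd_of_dvd_pow h2))
  · exact hp7 ((Nat.prime_dvd_prime_iff_eq hp (by norm_num)).1 (hp.dvd_of_dvd_pow h2))

section

variable {F : Type u} [Field F] [Fintype F] {p q : ℕ} (hq : Fintype.card F = q) (hp : p.Prime) (h5 : 5 ≤ p)

include hq hp h5

/-- `G₂(q)` -/
theorem edat_g2 (he : orderOf ((q : ℕ) : ZMod p) = 1 ∨ orderOf ((q : ℕ) : ZMod p) = 2) :
    EDat p ↥(chevG2.group F) := by
  have hq2 := two_le_card hq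
  have hq4 : 4 ≤ q := by
    have h1 : p ∣ q ^ 2 - 1 := by
      rcases he with he | he <;> exact (dvd_iff (by omega) he 2).2 (by norm_num)
    have h2 : q ^ 2 - 1 = (q - 1) * (q + 1) := by
      obtain ⟨t, rfl⟩ := Nat.exists_eq_add_of_le' hq2
      rw [show t + 2 - 1 = t + 1 by omega, show (t + 2) ^ 2 = (t + 1) * (t + 2 + 1) + 1 by ring]
      rfl
    rw [h2, hp.dvd_mul] at h1
    rcases h1 with h1 | h1
    · have := Nat.le_of_dvd (by omega) h1
      omega
    · have := Nat.le_of_dvd (by omega) h1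
      omega
  have hcen : center ↥(chevG2.group F) = ⊥ := by
    refine center_bot (S1055.result ?_)
    classical
    by_contra hcon
    push Not at hcon
    have h1 : (Finset.univ : Finset F) ⊆ {0, 1} := by
      intro a _
      rw [Finset.mem_insert, Finset.mem_singleton]
      exact or_iff_not_imp_left.2 fun h => hcon a h
    have h2 := (Finset.card_le_card h1).trans Finset.card_le_two
    rw [Finset.card_univ, hq] at h2
    omega
  have hcard : Nat.card ↥(chevG2.group F) ∣ q ^ 6 * (([2, 6] : List ℕ).map fun d => q ^ d - 1).prod := by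
    rw [S1059.result hq]
    simp only [List.map_cons, List.map_nil, List.prod_cons, List.prod_nil, mul_one, ← mul_assoc]
    exact dvd_rfl
  rcases he with he | he
  · exact row_one (by simp [InList]) hp hq he (by norm_num) h5 (by norm_num) hcen hcard
      (fun d hd hed => not_dvd_23 hp h5 (by revert d; decide)) (a := 0) (b := 4) (l := []) (by decide +kernel)
      (by decide +kernel) (by decide)
  · exact row_one (by simp [InList]) hp hq he (by norm_num) h5 (by norm_num) hcen hcard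
      (fun d hd hed => not_dvd_23 hp h5 (by revert d; decide)) (a := 0) (b := 4) (l := []) (by decide +kernel)
      (by decide +kernel) (by decide)

omit hq hp h5 in
theorem card_f4 (hq : Fintype.card F = q) : Nat.card ↥(chevF4.group F) ∣
    q ^ 24 * (([2, 6, 8, 12] : List ℕ).map fun d => q ^ d - 1).prod := by
  rw [S1062.result hq]
  simp only [List.map_cons, List.map_nil, List.prod_cons, List.prod_nil, mul_one, ← mul_assoc]
  exact dvd_rfl

omit hq hp h5 in
theorem card_e6 (hq : Fintype.card F = q) : Nat.card ↥(chevE6.group F) ∣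
    q ^ 36 * (([2, 5, 6, 8, 9, 12] : List ℕ).map fun d => q ^ d - 1).prod := by
  refine Dvd.intro_left (Nat.gcd 3 (q - 1)) ?_
  rw [S1063.result hq]
  simp only [List.map_cons, List.map_nil, List.prod_cons, List.prod_nil, mul_one, ← mul_assoc]

omit hq hp h5 in
theorem card_e7 (hq : Fintype.card F = q) : Nat.card ↥(chevE7.group F) ∣
    q ^ 63 * (([2, 6, 8, 10, 12, 14, 18] : List ℕ).map fun d => q ^ d - 1).prod := by
  refine Dvd.intro_left (Nat.gcd 2 (q - 1)) ?_
  rw [S1064.result hq]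
  simp only [List.map_cons, List.map_nil, List.prod_cons, List.prod_nil, mul_one, ← mul_assoc]

omit hq hp h5 in
theorem card_e8 (hq : Fintype.card F = q) : Nat.card ↥(chevE8.group F) ∣
    q ^ 120 * (([2, 8, 12, 14, 18, 20, 24, 30] : List ℕ).map fun d => q ^ d - 1).prod := by
  rw [S1065.result hq]
  simp only [List.map_cons, List.map_nil, List.prod_cons, List.prod_nil, mul_one, ← mul_assoc]
  exact dvd_rfl

omit hq hp h5 in
theorem cen_of {D : ChevalleyDatum} (hD : D ∈ [chevD4, chevF4, chevE6, chevE7, chevE8]) :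
    center ↥(D.group F) = ⊥ := center_bot (S1054.result D hD)

/-- `F₄(q)` -/
theorem edat_f4 (he : orderOf ((q : ℕ) : ZMod p) = 1 ∨ orderOf ((q : ℕ) : ZMod p) = 2 ∨ orderOf ((q : ℕ) : ZMod p) = 3) :
    EDat p ↥(chevF4.group F) := by
  have hcen : center ↥(chevF4.group F) = ⊥ := cen_of (by simp)
  have hp3 : ¬ p ∣ 3 := not_dvd_23 hp h5 (by norm_num)
  rcases he with he | he | he
  · exact row_one (by simp [InList]) hp hq he (by norm_num) h5 (by norm_num) hcen (card_f4 hq)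
      (fun d hd hed => not_dvd_23 hp h5 (by revert d; decide)) (a := 0) (b := 6) (l := [17, 22]) (by decide +kernel)
      (by decide +kernel) (by decide)
  · exact row_one (by simp [InList]) hp hq he (by norm_num) h5 (by norm_num) hcen (card_f4 hq)
      (fun d hd hed => not_dvd_23 hp h5 (by revert d; decide)) (a := 0) (b := 6) (l := [17, 22]) (by decide +kernel)
      (by decide +kernel) (by decide)
  · refine row_an (by simp [InList]) hp hq he (by norm_num) hcen (j := 1) (n := 3) (by norm_num) hp3 (card_f4 hq)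
      (fun d hd hed => not_dvd_23 hp h5 (by revert d; decide))
      (a := [[0,0,1],[47,0,24],[46,23,0]]) (b := [[0,13,14],[34,0,27],[33,20,0]]) (l := []) ?_
      (by decide +kernel) one_ne_zero (sl_dvd hq (by norm_num) (by norm_num) (by norm_num)) (by decide)
    intro R hR
    refine ⟨[], ?_⟩
    simp only [List.mem_cons, List.not_mem_nil, or_false] at hR
    rcases hR with rfl | rfl <;> exact
      { lt := by decide +kernel, neg := by decide +kernel, comm := by decide +kernel, br := by decide +kernel }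

/-- `E₆(q)` -/
theorem edat_e6 (he : (orderOf ((q : ℕ) : ZMod p) = 1 ∧ p ≠ 5) ∨ orderOf ((q : ℕ) : ZMod p) = 2 ∨
    orderOf ((q : ℕ) : ZMod p) = 3) : EDat p ↥(chevE6.group F) := by
  have hcen : center ↥(chevE6.group F) = ⊥ := cen_of (by simp)
  have hp3 : ¬ p ∣ 3 := not_dvd_23 hp h5 (by norm_num)
  have hAn : ∀ R ∈ [[[0,0,1],[71,0,46],[70,25,0]], [[0,14,15],[57,0,42],[56,29,0]], [[0,33,34],[38,0,36],[37,35,0]]],
      ∃ σ, IsAn chevE6 3 R σ := by
    intro R hR
    refine ⟨[], ?_⟩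
    simp only [List.mem_cons, List.not_mem_nil, or_false] at hR
    rcases hR with rfl | rfl | rfl <;> exact
      { lt := by decide +kernel, neg := by decide +kernel, comm := by decide +kernel, br := by decide +kernel }
  rcases he with ⟨he, hp5⟩ | he | he
  · refine row_an (by simp [InList]) hp hq he (by norm_num) hcen (j := 2) (n := 3) (by norm_num) hp3 (card_e6 hq)
      (fun d hd hed => ?_) hAn (by (delta Cfsg.Agent.H122.S5.pairB Cfsg.Agent.H122.S5.pairB._f Cfsg.Agent.H122.S5.comB Cfsg.Agent.H122.S5.lst Cfsg.Agent.H122.S5.rt; rewrite [H90F.dl_fun, H90F.ct_fun, H90F.ng_fun, H90F.ld_fun, H90F.al_fun, H90F.mp_fun, H90F.fl_fun, H90F.fm_fun]; decide +kernel)) two_ne_zero (sl3_one hq) (by decide)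
    intro h
    have h1 : d ∣ 2 ^ 10 * 3 ^ 10 ∨ d = 5 := by clear h; revert d; decide
    rw [Nat.div_one] at h
    rcases h1 with h1 | h1
    · exact not_dvd_23 hp h5 h1 h
    · subst h1
      exact hp5 ((Nat.prime_dvd_prime_iff_eq hp (by norm_num)).1 h)
  · exact row_one (by simp [InList]) hp hq he (by norm_num) h5 (by norm_num) hcen (card_e6 hq)
      (fun d hd hed => not_dvd_23 hp h5 (by revert d; decide)) (a := 0) (b := 11) (l := [27, 32]) (by decide +kernel)
      (by decide +kernel) (by decide)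
  · exact row_an (by simp [InList]) hp hq he (by norm_num) hcen (j := 1) (n := 3) (by norm_num) hp3 (card_e6 hq)
      (fun d hd hed => not_dvd_23 hp h5 (by revert d; decide)) hAn
      (by decide +kernel) one_ne_zero (sl_dvd hq (by norm_num) (by norm_num) (by norm_num)) (by decide)

/-- `E₇(q)` -/
theorem edat_e7 (he : (orderOf ((q : ℕ) : ZMod p) ∣ 2 ∧ p ≠ 5 ∧ p ≠ 7) ∨ orderOf ((q : ℕ) : ZMod p) = 3 ∨
    orderOf ((q : ℕ) : ZMod p) = 4) : EDat p ↥(chevE7.group F) := by
  have hcen : center ↥(chevE7.group F) = ⊥ := cen_of (by simp)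
  rcases he with ⟨he2, hp5, hp7⟩ | he | he
  · have he12 : orderOf ((q : ℕ) : ZMod p) = 1 ∨ orderOf ((q : ℕ) : ZMod p) = 2 :=
      (Nat.dvd_prime Nat.prime_two).1 he2
    rcases he12 with he | he
    · exact row_one (by simp [InList]) hp hq he (by norm_num) h5 (by norm_num) hcen (card_e7 hq)
        (fun d hd hed => not_dvd_2357 hp h5 hp5 hp7 (by revert d; decide)) (a := 0) (b := 33)
        (l := [38, 47, 52, 59, 62]) (by decide +kernel) (by (delta Cfsg.Agent.H122.S5.pairB Cfsg.Agent.H122.S5.pairB._f Cfsg.Agent.H122.S5.comB; rewrite [H90F.dl_fun, H90F.ct_fun, H90F.ng_fun, H90F.al_fun, H90F.mp_fun]; decide +kernel)) (by decide)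
    · exact row_one (by simp [InList]) hp hq he (by norm_num) h5 (by norm_num) hcen (card_e7 hq)
        (fun d hd hed => not_dvd_2357 hp h5 hp5 hp7 (by revert d; decide)) (a := 0) (b := 33)
        (l := [38, 47, 52, 59, 62]) (by decide +kernel) (by decide +kernel) (by decide)
  · refine row_an (by simp [InList]) hp hq he (by norm_num) hcen (j := 1) (n := 3) (by norm_num)
      (not_dvd_23 hp h5 (by norm_num)) (card_e7 hq)
      (fun d hd hed => not_dvd_23 hp h5 (by revert d; decide))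
      (a := [[0,0,1],[125,0,93],[124,32,0]]) (b := [[0,43,44],[82,0,63],[81,62,0]])
      (l := [[[0,55,56],[70,0,66],[69,59,0]]]) ?_
      (by (delta Cfsg.Agent.H122.S5.pairB Cfsg.Agent.H122.S5.pairB._f Cfsg.Agent.H122.S5.comB Cfsg.Agent.H122.S5.lst Cfsg.Agent.H122.S5.rt; rewrite [H90F.dl_fun, H90F.ct_fun, H90F.ng_fun, H90F.ld_fun, H90F.al_fun, H90F.mp_fun, H90F.fl_fun, H90F.fm_fun]; decide +kernel)) one_ne_zero (sl_dvd hq (by norm_num) (by norm_num) (by norm_num)) (by decide)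
    intro R hR
    refine ⟨[], ?_⟩
    simp only [List.mem_cons, List.not_mem_nil, or_false] at hR
    rcases hR with rfl | rfl | rfl <;> exact
      { lt := by decide +kernel, neg := by decide +kernel, comm := by decide +kernel, br := by decide +kernel }
  · refine row_an (by simp [InList]) hp hq he (by norm_num) hcen (j := 1) (n := 4) (by norm_num)
      (not_dvd_23 hp h5 (by norm_num)) (card_e7 hq)
      (fun d hd hed => not_dvd_23 hp h5 (by revert d; decide))
      (a := [[0,0,1,2],[125,0,93,94],[124,32,0,73],[123,31,52,0]])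
      (b := [[0,57,58,59],[68,0,63,65],[67,62,0,64],[66,60,61,0]]) (l := []) ?_
      (by (delta Cfsg.Agent.H122.S5.pairB Cfsg.Agent.H122.S5.pairB._f Cfsg.Agent.H122.S5.comB Cfsg.Agent.H122.S5.lst Cfsg.Agent.H122.S5.rt; rewrite [H90F.dl_fun, H90F.ct_fun, H90F.ng_fun, H90F.ld_fun, H90F.al_fun, H90F.mp_fun, H90F.fl_fun, H90F.fm_fun]; decide +kernel)) one_ne_zero (sl_dvd hq (by norm_num) (by norm_num) (by norm_num)) (by decide)
    intro R hR
    simp only [List.mem_cons, List.not_mem_nil, or_false] at hR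
    rcases hR with rfl | rfl
    · exact ⟨[[1,1,1,1],[1,1,1,-1],[1,1,1,1],[1,-1,1,1]],
        { lt := by decide +kernel, neg := by decide +kernel, comm := by decide +kernel, br := by decide +kernel }⟩
    · exact ⟨[],
        { lt := by decide +kernel, neg := by decide +kernel, comm := by decide +kernel, br := by decide +kernel }⟩

/-- `E₈(q)` -/
theorem edat_e8 (he : (orderOf ((q : ℕ) : ZMod p) ∣ 2 ∧ p ≠ 5 ∧ p ≠ 7) ∨ (orderOf ((q : ℕ) : ZMod p) = 3 ∧ p ≠ 5) ∨
    orderOf ((q : ℕ) : ZMod p) = 5) : EDat p ↥(chevE8.group F) := by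
  have hcen : center ↥(chevE8.group F) = ⊥ := cen_of (by simp)
  rcases he with ⟨he2, hp5, hp7⟩ | ⟨he, hp5⟩ | he
  · have he12 : orderOf ((q : ℕ) : ZMod p) = 1 ∨ orderOf ((q : ℕ) : ZMod p) = 2 :=
      (Nat.dvd_prime Nat.prime_two).1 he2
    rcases he12 with he | he
    · exact row_one (by simp [InList]) hp hq he (by norm_num) h5 (by norm_num) hcen (card_e8 hq)
        (fun d hd hed => not_dvd_2357 hp h5 hp5 hp7 (by revert d; decide)) (a := 0) (b := 13)
        (l := [80, 87, 98, 104, 113, 118]) (by decide +kernel) (by (delta Cfsg.Agent.H122.S5.pairB._f Cfsg.Agent.H122.S5.comB Cfsg.Agent.H122.S5.pairB; rewrite [H90F.dl_fun, H90F.ct_fun, H90F.ng_fun, H90F.al_fun, H90F.mp_fun]; decide +kernel)) (by decide)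
    · exact row_one (by simp [InList]) hp hq he (by norm_num) h5 (by norm_num) hcen (card_e8 hq)
        (fun d hd hed => not_dvd_2357 hp h5 hp5 hp7 (by revert d; decide)) (a := 0) (b := 13)
        (l := [80, 87, 98, 104, 113, 118]) (by decide +kernel) (by decide +kernel) (by decide)
  · refine row_an (by simp [InList]) hp hq he (by norm_num) hcen (j := 1) (n := 3) (by norm_num)
      (not_dvd_23 hp h5 (by norm_num)) (card_e8 hq) (fun d hd hed => ?_)
      (a := [[0,0,1],[239,0,120],[238,119,0]]) (b := [[0,35,45],[204,0,141],[194,98,0]])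
      (l := [[[0,76,77],[163,0,135],[162,104,0]], [[0,112,113],[127,0,123],[126,116,0]]]) ?_
      (by (delta Cfsg.Agent.H122.S5.pairB._f Cfsg.Agent.H122.S5.comB Cfsg.Agent.H122.S5.lst Cfsg.Agent.H122.S5.pairB Cfsg.Agent.H122.S5.rt; rewrite [H90F.dl_fun, H90F.ct_fun, H90F.ng_fun, H90F.ld_fun, H90F.al_fun, H90F.mp_fun, H90F.fl_fun, H90F.fm_fun]; decide +kernel)) one_ne_zero (sl_dvd hq (by norm_num) (by norm_num) (by norm_num)) (by decide)
    · intro h
      have h1 : d / 3 ∣ 2 ^ 10 * 3 ^ 10 ∨ d / 3 = 2 * 5 := by clear h; revert d; decide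
      rcases h1 with h1 | h1
      · exact not_dvd_23 hp h5 h1 h
      · rw [h1, hp.dvd_mul] at h
        rcases h with h | h
        · exact not_dvd_23 hp h5 (by norm_num) h
        · exact hp5 ((Nat.prime_dvd_prime_iff_eq hp (by norm_num)).1 h)
    · intro R hR
      refine ⟨[], ?_⟩
      simp only [List.mem_cons, List.not_mem_nil, or_false] at hR
      rcases hR with rfl | rfl | rfl | rfl <;> exact
        { lt := by decide +kernel, neg := by decide +kernel, comm := by decide +kernel, br := by decide +kernel }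
  · have hp5 : ¬ p ∣ 5 := by
      intro h
      have h1 := (Nat.prime_dvd_prime_iff_eq hp (by norm_num)).1 h
      subst h1
      have : Fact (Nat.Prime 5) := ⟨hp⟩
      have h2 := pow_orderOf_eq_one ((q : ℕ) : ZMod 5)
      rw [he, ZMod.pow_card] at h2
      rw [h2, orderOf_one] at he
      omega
    refine row_an (by simp [InList]) hp hq he (by norm_num) hcen (j := 1) (n := 5) (by norm_num)
      hp5 (card_e8 hq)
      (fun d hd hed => not_dvd_23 hp h5 (by revert d; decide))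
      (a := [[0,0,1,2,3],[239,0,120,122,125],[238,119,0,121,124],[237,117,118,0,123],[236,114,115,116,0]])
      (b := [[0,70,75,76,77],[169,0,141,142,147],[164,98,0,130,136],[163,97,109,0,135],[162,92,103,104,0]]) (l := []) ?_
      (by (delta Cfsg.Agent.H122.S5.pairB._f Cfsg.Agent.H122.S5.comB Cfsg.Agent.H122.S5.lst Cfsg.Agent.H122.S5.pairB Cfsg.Agent.H122.S5.rt; rewrite [H90F.dl_fun, H90F.ct_fun, H90F.ng_fun, H90F.ld_fun, H90F.al_fun, H90F.mp_fun, H90F.fl_fun, H90F.fm_fun]; decide +kernel)) one_ne_zero (sl_dvd hq (by norm_num) (by norm_num) (by norm_num)) (by decide)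
    intro R hR
    simp only [List.mem_cons, List.not_mem_nil, or_false] at hR
    rcases hR with rfl | rfl
    · exact ⟨[],
        { lt := by decide +kernel, neg := by decide +kernel, comm := by (delta Cfsg.Agent.H122.S5.rt; refine of_decide_eq_true ?_; rewrite [H90F.dn_fun, H90F.fq_fun, H90F.ct_fun, H90F.ng_fun, H90F.ld_fun, H90F.ff_fun]; decide +kernel), br := by (delta Cfsg.Agent.H122.S5.sg Cfsg.Agent.H122.S5.rt; refine of_decide_eq_true ?_; rewrite [H90F.dn_fun, H90F.dz_fun, H90F.fq_fun, H90F.ct_fun, H90F.ng_fun, H90F.ld_fun, H90F.ff_fun, H90F.le_fun]; decide +kernel) }⟩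
    · exact ⟨[[1,1,1,1,1],[1,1,1,-1,1],[1,1,1,1,1],[1,-1,1,1,1],[1,1,1,1,1]],
        { lt := by decide +kernel, neg := by decide +kernel, comm := by (delta Cfsg.Agent.H122.S5.rt; refine of_decide_eq_true ?_; rewrite [H90F.dn_fun, H90F.fq_fun, H90F.ct_fun, H90F.ng_fun, H90F.ld_fun, H90F.ff_fun]; decide +kernel), br := by (delta Cfsg.Agent.H122.S5.sg Cfsg.Agent.H122.S5.rt; refine of_decide_eq_true ?_; rewrite [H90F.dn_fun, H90F.dz_fun, H90F.fq_fun, H90F.ct_fun, H90F.ng_fun, H90F.ld_fun, H90F.ff_fun, H90F.le_fun]; decide +kernel) }⟩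

end

end Cfsg.Agent.H122.S5
end
end

-- part: H716/S5/Fam
section
set_option linter.all false

/-!
# S2274: the family `PSL_n(q)` (dispatcher)

`srowFam_psl_of` : the strong row of the family `IsPSL` from C1 (`PslCross`, cross characteristic, `n ≥ 3`).
-/

set_option autoImplicit false

universe u

namespace Cfsg.Agent.H716.S5

open Cfsg Matrix Cfsg.Agent.H533.T5 Cfsg.Agent.H132.S5

/-- C1: `PSL_n(F)`, `n ≥ 3`, cross characteristic. -/
def PslCross (p : ℕ) : Prop :=
  ∀ (F : Type) [Field F] [Fintype F] (n : ℕ), 3 ≤ n → ¬ p ∣ Fintype.card F →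
    ∀ (S : Type u) [Group S] [Finite S] [IsSimpleGroup S], ¬ IsMulCommutative S →
      SBelow.{u} p (Nat.card S) → (S ≃* ProjectiveSpecialLinearGroup (Fin n) F) → SRow p S

theorem srowFam_psl_of {p : ℕ} (hp : p.Prime) (h5 : 5 ≤ p) (B : SBox.{u} p)
    (hC1 : PslCross.{u} p) : SRowFam.{u} p (fun S _ => IsPSL S) := by
  intro S _ _ _ hna ⟨F, _, _, n, hn, h4, ⟨e⟩⟩ hlt
  have : Fact p.Prime := ⟨hp⟩
  by_cases hF : p ∣ Fintype.card F
  · have : CharP F p := charP_of_dvd hp hF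
    rcases hn.lt_or_eq with h3 | rfl
    · exact srow_psl_own h3 h5 hlt e
    · exact Cfsg.Agent.H140.S5.PSL2Own.srow_psl2_own hp h5 hF B e
  · rcases hn.lt_or_eq with h3 | rfl
    · exact hC1 F n h3 hF S hna hlt e
    · exact Cfsg.Agent.H212.S5.PslTwo.srow_psl2_cross hp h5 hF B hna e

end Cfsg.Agent.H716.S5
end

-- part: H513/SRowTools_mg
section
prune_inst 0x20000000000000000000000000000000
set_option linter.all false
open scoped Cfsg.Agent.FastGrp

-- part: H513/SRowTools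
section
/-!
# S2274: tools for the strong rows of the sporadic groups (helper513, tasks 3625, 3626)

* `srow_of_conj` : one class of elements of order `p`;
* `srow_of_sub` : a smaller simple group embedded with index prime to `p`;
* `srow_of_sec` : a subgroup of index prime to `p` with a smaller simple quotient, kernel of order prime to `p`;
* `srow_of_meet` : a subgroup with a smaller simple quotient such that every element of order `p` has a conjugate in it
  outside the kernel.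
-/

set_option autoImplicit false

universe u v

namespace Cfsg.Agent.H513.SR

open Cfsg Subgroup Cfsg.Agent.H533.T5 Cfsg.Agent.H957.T5M Cfsg.Agent.H106.MB Cfsg.Agent.H106.MT Cfsg.Agent.H132.S5

/-- automorphisms of prime order `≥ 5` of the sporadic groups and of the Tits group are inner -/
theorem inner_range {K : Type u} [Group K] [Finite K] [IsSimpleGroup K]
    (h : IsSporadicGroup K ∨ Lie.IsoTits K) {p : ℕ} (hp : p.Prime) (h5 : 5 ≤ p) (a : MulAut K)
    (ha : orderOf a = p) : a ∈ (MulAut.conj : K →* MulAut K).range := by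
  have h1 : ∃ g : K, a = MulAut.conj g := by
    rcases h with h | h
    · exact Cfsg.Agent.H505.OddInn.oddInn_sporadic h p hp (by omega) a ha
    · exact Cfsg.Agent.H505.OddInn.oddInn_tits h p hp (by omega) a ha
  obtain ⟨g, rfl⟩ := h1
  exact ⟨g, rfl⟩

variable {S : Type u} [Group S] [Finite S] [IsSimpleGroup S] {p : ℕ}

/-- one class of elements of order `p` -/
theorem srow_of_conj (B : SBox.{u} p) (hp : p.Prime) (h5 : 5 ≤ p) (hna : ¬ IsMulCommutative S)
    (h : IsSporadicGroup S ∨ Lie.IsoTits S)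
    (hc : ∀ x y : S, orderOf x = p → orderOf y = p → IsConj x y) : SRow p S := by
  refine SRow.of_inner hna (inner_range h hp h5) fun x y hx hy => ?_
  have h1 := hc x y hx hy
  obtain ⟨s, hs⟩ := isConj_iff.1 h1.symm
  exact SPair.mk' hp (apair_of_isConj_zpow B.rs hp hna hx (s := s) (j := 1) (by rw [zpow_one, hs]))
    (bpair_of_isConj B.aa hp hna hx h1)

/-- one class, along an isomorphism -/
theorem srow_of_conj' (B : SBox.{u} p) (hp : p.Prime) (h5 : 5 ≤ p) (hna : ¬ IsMulCommutative S)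
    (h : IsSporadicGroup S ∨ Lie.IsoTits S) {K : Type v} [Group K] (e : S ≃* K)
    (hc : ∀ x y : K, orderOf x = p → orderOf y = p → IsConj x y) : SRow p S := by
  refine srow_of_conj B hp h5 hna h fun x y hx hy => ?_
  obtain ⟨s, hs⟩ := isConj_iff.1 (hc (e x) (e y) (by rw [MulEquiv.orderOf_eq, hx]) (by rw [MulEquiv.orderOf_eq, hy]))
  refine isConj_iff.2 ⟨e.symm s, e.injective ?_⟩
  rw [map_mul, map_mul, map_inv, e.apply_symm_apply, hs]

/-- a simple quotient -/
theorem srow_quot (hlt : SBelow.{u} p (Nat.card S)) {T : Subgroup S} {K : Type v} [Group K] (hK : IsSimpleGroup K)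
    (hKna : ¬ IsMulCommutative K) (φ : T →* K) (hφ : Function.Surjective φ) (hc : Nat.card K < Nat.card S) :
    ∃ (L : Type u) (_ : Group L) (_ : IsSimpleGroup L) (ψ : T →* L), ¬ IsMulCommutative L ∧ SRow p L ∧
      Function.Surjective ψ ∧ ψ.ker = φ.ker := by
  let e : (T ⧸ φ.ker) ≃* K := QuotientGroup.quotientKerEquivOfSurjective φ hφ
  have hs : IsSimpleGroup (T ⧸ φ.ker) := (MulEquiv.isSimpleGroup_congr e).2 hK
  have hna : ¬ IsMulCommutative (T ⧸ φ.ker) := by
    intro h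
    exact hKna ⟨⟨fun a b => e.symm.injective (by rw [map_mul, map_mul, h.is_comm.comm])⟩⟩
  refine ⟨T ⧸ φ.ker, inferInstance, hs, QuotientGroup.mk' φ.ker, hna, hlt _ hs hna ?_, QuotientGroup.mk'_surjective _, ?_⟩
  · rwa [Nat.card_congr e.toEquiv]
  · exact QuotientGroup.ker_mk' _

/-- **Sections of index prime to `p`.** -/
theorem srow_of_sec (hp : p.Prime) (h5 : 5 ≤ p) (hna : ¬ IsMulCommutative S)
    (h : IsSporadicGroup S ∨ Lie.IsoTits S) (hlt : SBelow.{u} p (Nat.card S)) (T : Subgroup S) (hT : ¬ p ∣ T.index)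
    {K : Type v} [Group K] (hK : IsSimpleGroup K) (hKna : ¬ IsMulCommutative K) (φ : T →* K)
    (hφ : Function.Surjective φ) (hker : ¬ p ∣ Nat.card φ.ker) (hc : Nat.card K < Nat.card S) : SRow p S := by
  have := Fact.mk hp
  obtain ⟨L, _, _, ψ, h1, h2, h3, h4⟩ := srow_quot hlt hK hKna φ hφ hc
  exact SRow.of_inner hna (inner_range h hp h5) fun x y hx hy =>
    spair_of_section_index h1 h2 T hT ψ h3 (by rwa [h4]) hx hy

/-- **Subgroups of index prime to `p`.** -/
theorem srow_of_sub (hp : p.Prime) (h5 : 5 ≤ p) (hna : ¬ IsMulCommutative S)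
    (h : IsSporadicGroup S ∨ Lie.IsoTits S) (hlt : SBelow.{u} p (Nat.card S))
    {K : Type v} [Group K] (hK : IsSimpleGroup K) (hKna : ¬ IsMulCommutative K) (f : K →* S)
    (hf : Function.Injective f) (hi : ¬ p ∣ f.range.index) (hc : Nat.card K < Nat.card S) : SRow p S := by
  let e : K ≃* f.range := MonoidHom.ofInjective hf
  refine srow_of_sec hp h5 hna h hlt f.range hi hK hKna e.symm.toMonoidHom e.symm.surjective ?_ hc
  have h1 : e.symm.toMonoidHom.ker = ⊥ := (MonoidHom.ker_eq_bot_iff _).2 e.symm.injective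
  rw [h1, Nat.card_unique]
  exact fun h2 => hp.one_lt.ne' (Nat.dvd_one.1 h2)

/-- **Sections which meet all classes.** -/
theorem srow_of_meet (hp : p.Prime) (h5 : 5 ≤ p) (hna : ¬ IsMulCommutative S)
    (h : IsSporadicGroup S ∨ Lie.IsoTits S) (hlt : SBelow.{u} p (Nat.card S)) (T : Subgroup S)
    {K : Type v} [Group K] (hK : IsSimpleGroup K) (hKna : ¬ IsMulCommutative K) (φ : T →* K)
    (hφ : Function.Surjective φ) (hc : Nat.card K < Nat.card S)
    (hm : ∀ x : S, orderOf x = p → ∃ (g : S) (hg : g * x * g⁻¹ ∈ T), φ ⟨_, hg⟩ ≠ 1) : SRow p S := by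
  have := Fact.mk hp
  obtain ⟨L, _, _, ψ, h1, h2, h3, h4⟩ := srow_quot hlt hK hKna φ hφ hc
  refine SRow.of_inner hna (inner_range h hp h5) fun x y hx hy => ?_
  obtain ⟨s, hs, hs1⟩ := hm x hx
  obtain ⟨t, ht, ht1⟩ := hm y hy
  have hord : ∀ (w : T), orderOf w = p → φ w ≠ 1 → orderOf (ψ w) = p := by
    intro w hw hw1
    have h5 : orderOf (ψ w) ∣ p := by rw [← hw]; exact orderOf_map_dvd _ _
    rcases (Nat.dvd_prime hp).1 h5 with h6 | h6
    · rw [orderOf_eq_one_iff, ← MonoidHom.mem_ker, h4] at h6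
      exact absurd h6 hw1
    · exact h6
  refine SPair.conj_left (s := s) (Subgroup.mem_top _) (SPair.conj_right (s := t) (Subgroup.mem_top _) ?_)
  have h6 := h2.pair hp h1 (hord ⟨_, hs⟩ (by rw [Subgroup.orderOf_mk, orderOf_cj, hx]) hs1)
    (hord ⟨_, ht⟩ (by rw [Subgroup.orderOf_mk, orderOf_cj, hy]) ht1)
  refine SPair.of_section hp (M := T) (c := ⟨_, hs⟩) (d := ⟨_, ht⟩) ψ ?_ h6
  intro k _
  obtain ⟨t, rfl⟩ := h3 k
  exact ⟨t, Subgroup.mem_top _, rfl⟩

end Cfsg.Agent.H513.SR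
end

-- part: H461/T5S/Words
section
/-!
# Certificates given by words in letters (helper461)

The letters 0, 1, 2 are `a`, `b`, `c`; the data `CD` contain the words of the conjugating elements; `Eqs D` are the
equations and `Nes D` the words different from 1 to be checked.
-/

set_option autoImplicit false

namespace Cfsg.Agent.H461.T5S

open Subgroup Cfsg.Agent.H461.T5

/-- the data of a certificate -/
structure CD where
  /-- number of classes -/
  k : ℕ
  /-- the index of the representative of a class in the list `c`, `a`, `b`, `a b`, ..., `a ^ 4 b` -/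
  rp : ℕ → ℕ
  /-- the class of the elements of the list -/
  cl : ℕ → ℕ
  /-- the words of the conjugating elements -/
  hw : ℕ → List ℕ
  /-- the words of elements conjugating the representatives to their squares -/
  kw : ℕ → List ℕ
  /-- pairs of classes: the conjugating element -/
  gw : ℕ → ℕ → List ℕ
  /-- pairs of classes: the product -/
  zw : ℕ → ℕ → List ℕ
  /-- pairs of classes: the order of the product -/
  nn : ℕ → ℕ → ℕ
  /-- pairs of classes: the order of the second product -/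
  mm : ℕ → ℕ → ℕ

/-- the words of the elements of the list -/
def wl : ℕ → List ℕ
  | 0 => [2]
  | 1 => [0]
  | t + 2 => List.replicate t 0 ++ [1]

/-- the power of a word -/
def wpow (w : List ℕ) (n : ℕ) : List ℕ := (List.replicate n w).flatten

/-- the word of the representative of a class -/
def CD.rw (D : CD) (i : ℕ) : List ℕ := wl (D.rp i)

/-- the numerical conditions -/
def CD.num (D : CD) : Bool :=
  ((List.range 7).all fun i => Nat.blt (D.cl i) D.k) && ((List.range D.k).all fun j => Nat.blt (D.rp j) 7) &&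
  (List.range D.k).all fun i => (List.range D.k).all fun j =>
    Nat.beq (Nat.gcd 5 (D.nn i j)) 1 && Nat.beq (Nat.gcd 5 (D.mm i j)) 1 && Nat.beq (Nat.gcd (D.nn i j) (D.mm i j)) 1

/-- the pairs `i < j` -/
def prs (k : ℕ) : List (ℕ × ℕ) := (List.range k).flatMap fun j => (List.range j).map fun i => (i, j)

theorem mem_prs {k i j : ℕ} (hij : i < j) (hj : j < k) : (i, j) ∈ prs k := by
  simp only [prs, List.mem_flatMap, List.mem_range, List.mem_map]
  exact ⟨j, hj, i, hij, rfl⟩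

/-- the equations of the letters 0, 1, 2 -/
def eqs0 : List (List ℕ × List ℕ) :=
  [([0, 0, 0, 0, 0], []), ([1, 1, 1, 1, 1], []), ([2, 2, 2, 2, 2], []), ([0, 2], [2, 0]), ([1, 2], [2, 1]), ([0, 1], [1, 0, 2])]

/-- the equations -/
def CD.eqs (D : CD) : List (List ℕ × List ℕ) :=
  eqs0 ++ ((List.range 7).map fun i => (D.hw i ++ wl i, D.rw (D.cl i) ++ D.hw i)) ++
  ((List.range D.k).map fun j => (D.kw j ++ D.rw j, D.rw j ++ (D.rw j ++ D.kw j))) ++
  ((prs D.k).map fun q => (D.rw q.1 ++ (D.gw q.1 q.2 ++ D.rw q.2), D.zw q.1 q.2 ++ D.gw q.1 q.2)) ++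
  ((prs D.k).map fun q => (wpow (D.zw q.1 q.2) (D.nn q.1 q.2), [])) ++
  ((prs D.k).map fun q => (wpow (D.rw q.1 ++ D.zw q.1 q.2) (D.mm q.1 q.2), []))

/-- the words different from 1 -/
def CD.nes (D : CD) : List (List ℕ) := [2] :: (prs D.k).map fun q => D.zw q.1 q.2

section

variable {G : Type*} [Group G]

/-- the value of a word -/
def ev (e : ℕ → G) (w : List ℕ) : G := (w.map e).prod

theorem ev_append (e : ℕ → G) (w v : List ℕ) : ev e (w ++ v) = ev e w * ev e v := by
  simp [ev]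

theorem ev_nil (e : ℕ → G) : ev e [] = 1 := rfl

theorem ev_wpow (e : ℕ → G) (w : List ℕ) (n : ℕ) : ev e (wpow w n) = ev e w ^ n := by
  induction n with
  | zero => rw [pow_zero]; rfl
  | succ n ih => rw [wpow, List.replicate_succ, List.flatten_cons, ev_append, pow_succ', ← ih, wpow]

theorem ev_wl (e : ℕ → G) {r : G} (hr : Rp 5 (e 0) (e 1) (e 2) r) : ∃ i < 7, r = ev e (wl i) := by
  rcases hr with rfl | rfl | ⟨t, ht, rfl⟩
  · exact ⟨0, by norm_num, by simp [ev, wl]⟩
  · exact ⟨1, by norm_num, by simp [ev, wl]⟩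
  · exact ⟨t + 2, by omega, by simp [ev, wl]⟩

theorem rp_pow {a b c : G} (ha : a ^ 5 = 1) (hb : b ^ 5 = 1) (hc : c ^ 5 = 1) (hac : a * c = c * a)
    (hbc : b * c = c * b) (hab : a * b = b * a * c) {r : G} (hr : Rp 5 a b c r) : r ^ 5 = 1 := by
  rcases hr with rfl | rfl | ⟨t, ht, rfl⟩
  · exact hc
  · exact ha
  · have h := pow_mul_pow hbc hac hab t 1
    rw [pow_one] at h
    have h2 := nf_pow_p (p := 5) (by norm_num) (by norm_num) ha hb hc hbc hac hab 1 t (t * 1)
    rw [pow_one] at h2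
    rw [h, h2]

theorem rp_wl (e : ℕ → G) {i : ℕ} (hi : i < 7) : Rp 5 (e 0) (e 1) (e 2) (ev e (wl i)) := by
  rcases i with _ | _ | t
  · exact Or.inl (by simp [ev, wl])
  · exact Or.inr (Or.inl (by simp [ev, wl]))
  · exact Or.inr (Or.inr ⟨t, by omega, by simp [ev, wl]⟩)

/-- **the certificate from the equations of the words** -/
theorem cert_of (D : CD) (hnum : D.num = true) (e : ℕ → G) (he : ∀ q ∈ D.eqs, ev e q.1 = ev e q.2)
    (hn : ∀ w ∈ D.nes, ev e w ≠ 1) : Cert G := by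
  simp only [CD.num, Bool.and_eq_true, List.all_eq_true, List.mem_range, Nat.blt_eq, Nat.beq_eq] at hnum
  obtain ⟨⟨hcl, hrp⟩, hco⟩ := hnum
  simp only [CD.eqs, eqs0, List.mem_append, List.mem_cons, List.mem_map, List.mem_range, List.not_mem_nil, or_false] at he
  simp only [CD.nes, List.mem_cons, List.mem_map] at hn
  have e0 := he ([0, 0, 0, 0, 0], []) (by simp)
  have e1 := he ([1, 1, 1, 1, 1], []) (by simp)
  have e2 := he ([2, 2, 2, 2, 2], []) (by simp)
  have e3 := he ([0, 2], [2, 0]) (by simp)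
  have e4 := he ([1, 2], [2, 1]) (by simp)
  have e5 := he ([0, 1], [1, 0, 2]) (by simp)
  have e6 := hn [2] (Or.inl rfl)
  simp only [ev, List.map_cons, List.map_nil, List.prod_cons, List.prod_nil, mul_one] at e0 e1 e2 e3 e4 e5 e6
  have f0 : e 0 ^ 5 = 1 := by rw [← e0]; simp only [pow_succ, pow_zero, one_mul, mul_assoc]
  have f1 : e 1 ^ 5 = 1 := by rw [← e1]; simp only [pow_succ, pow_zero, one_mul, mul_assoc]
  have f2 : e 2 ^ 5 = 1 := by rw [← e2]; simp only [pow_succ, pow_zero, one_mul, mul_assoc]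
  have f3 : e 0 * e 1 = e 1 * e 0 * e 2 := by rw [e5, mul_assoc]
  refine ⟨e 0, e 1, e 2, fun i => ev e (D.rw i), D.k, f0, f1, f2, e6, e3, e4, f3, ?_, ?_, ?_, ?_⟩
  · intro r hr
    obtain ⟨i, hi, rfl⟩ := ev_wl e hr
    refine ⟨D.cl i, hcl i hi, ev e (D.hw i), 1, ?_⟩
    have h1 := he (D.hw i ++ wl i, D.rw (D.cl i) ++ D.hw i) (Or.inl (Or.inl (Or.inl (Or.inl (Or.inr ⟨i, hi, rfl⟩)))))
    rw [ev_append, ev_append] at h1
    rw [pow_one, h1]
    group
  · intro i hi
    exact rp_pow f0 f1 f2 e3 e4 f3 (rp_wl e (hrp i hi))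
  · intro i hi
    refine ⟨ev e (D.kw i), ?_⟩
    have h1 := he (D.kw i ++ D.rw i, D.rw i ++ (D.rw i ++ D.kw i)) (Or.inl (Or.inl (Or.inl (Or.inr ⟨i, hi, rfl⟩))))
    simp only [ev_append] at h1
    rw [h1, pow_two]
    group
  · intro i j hij hj
    have hm := mem_prs hij hj
    have h1 := he (D.rw i ++ (D.gw i j ++ D.rw j), D.zw i j ++ D.gw i j) (Or.inl (Or.inl (Or.inr ⟨(i, j), hm, rfl⟩)))
    have h2 := he (wpow (D.zw i j) (D.nn i j), []) (Or.inl (Or.inr ⟨(i, j), hm, rfl⟩))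
    have h3 := he (wpow (D.rw i ++ D.zw i j) (D.mm i j), []) (Or.inr ⟨(i, j), hm, rfl⟩)
    have h4 := hn (D.zw i j) (Or.inr ⟨(i, j), hm, rfl⟩)
    simp only [ev_append, ev_wpow, ev_nil] at h1 h2 h3
    obtain ⟨⟨c1, c2⟩, c3⟩ := hco i (hij.trans hj) j hj
    exact ⟨ev e (D.gw i j), ev e (D.zw i j), D.nn i j, D.mm i j, by rw [mul_assoc, h1], h4, h2, h3, c1, c2, c3⟩

end

end Cfsg.Agent.H461.T5S
end

-- part: H461/T5S/Conway
section
/-!
# Certificates for subgroups of `Co0`: the letters are matrices coded as natural numbers (helper461)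
-/

set_option autoImplicit false
set_option maxRecDepth 100000

namespace Cfsg.Agent.H461.T5S

open Subgroup Cfsg Cfsg.Agent.SporadicA Cfsg.Agent.SporadicStructure.Co0Matrix Cfsg.Agent.CoOneType.CoEval
open Cfsg.Agent.LThreeCo1.Ev Cfsg.Agent.H573.Spor.Co0

/-- the check of the equation `i` -/
def chkE (D : CD) (M : ℕ → List (List ℤ)) (i : ℕ) : Bool := eqB M (D.eqs.getD i ([], [])).1 (D.eqs.getD i ([], [])).2

/-- the check of the inequations -/
def chkN (D : CD) (M : ℕ → List (List ℤ)) : Bool := D.nes.all fun w => neB' M w []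

/-- **the certificate** for a subgroup of `Co0` containing the letters -/
theorem cert_of_le (D : CD) {e : ℕ → Co0} {M : ℕ → List (List ℤ)} (hM : ∀ i, Rep (e i) (M i)) (hnum : D.num = true)
    {n : ℕ} (hn : D.eqs.length = n) (hE : ∀ i < n, chkE D M i = true) (hN : chkN D M = true) (X : Subgroup (Equiv.Perm leechLattice)) (hX : X ≤ Co0)
    (hm : ∀ i, (e i).1 ∈ X) : Cert X := by
  have inj : Function.Injective (Subgroup.inclusion hX) := Subgroup.inclusion_injective hX
  have key : ∀ w : List ℕ, Subgroup.inclusion hX (ev (fun i => (⟨_, hm i⟩ : X)) w) = (w.map e).prod := by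
    intro w
    induction w with
    | nil => exact map_one _
    | cons i w ih =>
      have h1 : ev (fun i => (⟨_, hm i⟩ : X)) (i :: w) = ⟨_, hm i⟩ * ev (fun i => (⟨_, hm i⟩ : X)) w := by
        simp [ev]
      rw [h1, map_mul, ih, List.map_cons, List.prod_cons]
      rfl
  refine cert_of D hnum (fun i => (⟨_, hm i⟩ : X)) (fun q hq => inj ?_) (fun w hw h => ?_)
  · rw [key, key]
    obtain ⟨i, hi, rfl⟩ := List.mem_iff_getElem.1 hq
    have h1 := hE i (by rw [← hn]; exact hi)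
    rw [chkE, List.getD_eq_getElem?_getD, List.getElem?_eq_getElem hi, Option.getD_some] at h1
    exact eq_of_eqB hM h1
  · have h1 := ne_of_neB' hM (List.all_eq_true.1 hN w hw)
    apply h1
    rw [← key w, h, map_one]
    rfl

end Cfsg.Agent.H461.T5S
end

private theorem dce_73250362c258 : _root_.True := by
  try have : _root_.True := by simp only [_root_.Cfsg.Agent.H461.T5S.ev.eq_1]
  try have : _root_.True := by simp only [_root_.Cfsg.Agent.H461.T5S.wl.eq_3]
  try have : _root_.True := by simp only [_root_.Cfsg.Agent.H461.T5S.wl.eq_2]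
  try have : _root_.True := by simp only [_root_.Cfsg.Agent.H461.T5S.wl.eq_1]
  try have : _root_.True := by simp only [_root_.Cfsg.Agent.H461.T5S.chkE.eq_1]
  try have : _root_.True := by simp only [_root_.Cfsg.Agent.H461.T5S.wpow.eq_1]
  try have : _root_.True := by simp only [_root_.Cfsg.Agent.H461.T5S.CD.num.eq_1]
  try have : _root_.True := by simp only [_root_.Cfsg.Agent.H461.T5S.CD.nes.eq_1]
  try have : _root_.True := by simp only [_root_.Cfsg.Agent.H461.T5S.CD.eqs.eq_1]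
  try have : _root_.True := by simp only [_root_.Cfsg.Agent.H461.T5S.eqs0.eq_1]
  try have : _root_.True := by simp only [_root_.Cfsg.Agent.H461.T5S.prs.eq_1]
  exact _root_.True.intro
end

-- part: H461/T5S/Ru
section
set_option linter.all false
open scoped Cfsg.Agent.FastGrp

/-!
# The certificate of strong pairs of elements of order 5 for the Rudvalis group (helper461)

The letters 0, 1, 2 are the words `wa`, `wb`, `wc`; the words of the conjugating elements were found by computer.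
-/

set_option autoImplicit false
set_option maxRecDepth 100000

namespace Cfsg.Agent.H461.T5S.Ru

open Cfsg Cfsg.Agent.H461.T5 Cfsg.Agent.H461.T5S
open Cfsg.Agent.Lib Cfsg.Agent.SporadicB Cfsg.Agent.SporadicB.RuOrder Cfsg.Agent.RuD.Letters
open Cfsg.Agent.SporRec.TCUpperCert Cfsg.Agent.CpAutRuFive
open Cfsg.Agent.KFacts.Ru Cfsg.Agent.KFacts.Ru.CentEng

/-- the words of the letters -/
def lw : ℕ → List ℕ
  | 0 => H461.T5.Ru.wa
  | 1 => H461.T5.Ru.wb
  | 2 => H461.T5.Ru.wc
  | 3 => [3, 5, 3, 6, 8, 0, 7, 5, 7, 6, 7, 5]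
  | 4 => [2, 6, 3, 5, 1, 7, 5, 3, 2, 1, 3, 5, 7]
  | 5 => [6, 7, 5, 8, 0, 4, 3, 5, 3, 4, 0, 5, 7]
  | 6 => [0, 3, 5, 3, 5, 8, 1, 7, 5, 7, 6]
  | 7 => [2, 4, 3, 1, 2, 7, 5, 1, 7, 1, 3, 4, 1, 0]
  | 8 => [6, 3, 5, 3, 6, 5, 8, 7, 5, 7, 1]
  | 9 => [0, 1]
  | 10 => [1, 7, 7]
  | _ => [8, 5, 7, 1, 3, 1, 1, 7, 7, 0, 3, 1, 4, 0, 5, 7, 5, 7, 4, 5, 7, 6, 7, 5, 1, 3, 5, 0, 7, 8, 1, 3, 5, 7, 4, 5, 1, 7, 0, 5, 0, 3, 3, 6]

/-- the data -/
def D : CD where
  k := 2
  rp := fun
    | 0 => 0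
    | _ => 3
  cl := fun
    | 0 => 0
    | 1 => 0
    | 2 => 0
    | _ => 1
  hw := fun
    | 1 => [3]
    | 2 => [4]
    | 4 => [5]
    | 5 => [6]
    | 6 => [7]
    | _ => []
  kw := fun
    | 0 => [8]
    | 1 => [9]
    | _ => []
  gw := fun
    | 0, 1 => [10]
    | _, _ => []
  zw := fun
    | 0, 1 => [11]
    | _, _ => []
  nn := fun
    | 0, 1 => 7
    | _, _ => 1
  mm := fun
    | 0, 1 => 6
    | _, _ => 1

/-- the expanded word -/
def ex (w : List ℕ) : List ℕ := w.flatMap lw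

theorem ev_lw (w : List ℕ) : ev (fun i => (wprod ml (lw i) : RuOrder.H)) w = wprod ml (ex w) := by
  induction w with
  | nil => rfl
  | cons i w ih =>
    have h1 : ev (fun i => (wprod ml (lw i) : RuOrder.H)) (i :: w) =
        wprod ml (lw i) * ev (fun i => (wprod ml (lw i) : RuOrder.H)) w := by simp [ev]
    rw [h1, ih, ex, ex, List.flatMap_cons, wprod_append]

/-- the check of the equation `i` -/
noncomputable def chkE (i : ℕ) : Bool := chkEq (ex (D.eqs.getD i ([], [])).1) (ex (D.eqs.getD i ([], [])).2)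

theorem hnum : D.num = true := by decide +kernel
theorem hlen : D.eqs.length = 18 := by decide +kernel
set_option maxHeartbeats 2000000 in
theorem hE : ∀ i < 18, chkE i = true := by
  intro i hi
  interval_cases i
  · decide +kernel
  · decide +kernel
  · decide +kernel
  · decide +kernel
  · decide +kernel
  · decide +kernel
  · decide +kernel
  · decide +kernel
  · decide +kernel
  · decide +kernel
  · decide +kernel
  · decide +kernel
  · decide +kernel
  · decide +kernel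
  · decide +kernel
  · decide +kernel
  · decide +kernel
  · decide +kernel

/-- the check of the inequations -/
noncomputable def chkN : Bool := D.nes.all fun w => !Nat.beq (evalK (ex w) 1) 1

theorem hN : chkN = true := by decide +kernel

/-- **the certificate** -/
theorem cert : Cert RuOrder.H := by
  refine cert_of D hnum (fun i => (wprod ml (lw i) : RuOrder.H)) (fun q hq => ?_) (fun w hw h => ?_)
  · obtain ⟨i, hi, rfl⟩ := List.mem_iff_getElem.1 hq
    have h1 := hE i (by rw [← hlen]; exact hi)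
    rw [chkE, List.getD_eq_getElem?_getD, List.getElem?_eq_getElem hi, Option.getD_some] at h1
    rw [ev_lw, ev_lw]
    exact eq_of_chkEq h1
  · have h1 := List.all_eq_true.1 hN w hw
    rw [ev_lw] at h
    have h2 := evalK_eq (ex w) ⟨1, by norm_num⟩
    rw [h] at h2
    simp only [Bool.not_eq_true'] at h1
    exact Nat.ne_of_beq_eq_false h1 h2.symm

end Cfsg.Agent.H461.T5S.Ru

private theorem dce_e35ee972b0dd : _root_.True := by
  try have : _root_.True := by simp only [_root_.Cfsg.Agent.H461.T5S.Ru.ex.eq_1]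
  try have : _root_.True := by simp only [_root_.Cfsg.Agent.H461.T5S.Ru.chkE.eq_1]
  exact _root_.True.intro
end

-- part: H199/S5/MonSeven
section
prune_inst 0x20000000000000000000000000000000
set_option linter.all false
open scoped Cfsg.Agent.FastGrp

-- part: H199/S5/Opp
section
/-!
# Opposite transvections (for S2274)

`w`, `w₁` commuting elements of prime order `p ≥ 5`; `X` centralises `w` and maps `w₁` to `w₁ w ^ m`, `V` centralises `w₁` and
maps `w` to `w w₁ ^ n`, `p ∤ m, n`.  Then `⟨X, V⟩` is not solvable and `X V` is not a `p`-element.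
-/

set_option autoImplicit false

namespace Cfsg.Agent.H199.S5

open Matrix (SpecialLinearGroup)
open Subgroup Cfsg.Agent.PLocal.SL2Natural Cfsg.Agent.H533.T5 Cfsg.Agent.H132.S5

variable {K : Type*} [Group K] {p : ℕ} [hp : Fact p.Prime] {w w1 X V : K}

/-- the powers with exponents modulo `p` -/
def pw (w : K) (a : ZMod p) : K := w ^ a.val

theorem pw_add (hw : w ^ p = 1) (a b : ZMod p) : pw w (a + b) = pw w a * pw w b := by
  have h1 : w ^ (a.val + b.val) = w ^ ((a.val + b.val) % p) := by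
    conv_lhs => rw [← Nat.mod_add_div (a.val + b.val) p, pow_add, pow_mul, hw, one_pow, mul_one]
  rw [pw, pw, pw, ← pow_add, ZMod.val_add, ← h1]

theorem pw_natCast (hw : w ^ p = 1) (n : ℕ) : pw w (n : ZMod p) = w ^ n := by
  rw [pw, ZMod.val_natCast]
  conv_rhs => rw [← Nat.mod_add_div n p, pow_add, pow_mul, hw, one_pow, mul_one]

theorem pw_zero : pw w (0 : ZMod p) = 1 := by rw [pw, ZMod.val_zero, pow_zero]

theorem pw_intCast (hw : w ^ p = 1) (n : ℤ) : pw w (n : ZMod p) = w ^ n := by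
  have h1 : (n : ZMod p) = ((n % p).toNat : ZMod p) := by
    have h2 : ((n % p).toNat : ℤ) = n % p := Int.toNat_of_nonneg (Int.emod_nonneg _ (by exact_mod_cast hp.out.ne_zero))
    have h3 : (((n % p).toNat : ℤ) : ZMod p) = ((n % p : ℤ) : ZMod p) := by rw [h2]
    rw [Int.cast_natCast] at h3
    rw [h3]
    exact (ZMod.intCast_mod n p).symm
  rw [h1, pw_natCast hw, ← zpow_natCast, Int.toNat_of_nonneg (Int.emod_nonneg _ (by exact_mod_cast hp.out.ne_zero))]
  conv_rhs => rw [← Int.emod_add_mul_ediv n p, zpow_add, zpow_mul, zpow_natCast w p, hw, one_zpow, mul_one]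

theorem pw_mul (hw : w ^ p = 1) (a b : ZMod p) : pw w (a * b) = (pw w a) ^ b.val := by
  rw [pw, pw, ← pow_mul, ZMod.val_mul]
  conv_rhs => rw [← Nat.mod_add_div (a.val * b.val) p, pow_add, pow_mul, hw, one_pow, mul_one]

/-- the element of `⟨w, w₁⟩` with coordinates `a`, `b` -/
def el (w w1 : K) (a b : ZMod p) : K := pw w a * pw w1 b

/-- the pairs `(g, M)` such that `g` acts on `⟨w, w₁⟩` as `M` -/
def S (w w1 : K) (p : ℕ) [Fact p.Prime] : Subgroup (K × _root_.Matrix.SpecialLinearGroup (Fin 2) (ZMod p)) where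
  carrier := {x | ∀ a b : ZMod p, x.1 * el w w1 a b * x.1⁻¹ =
    el w w1 (mat x.2 0 0 * a + mat x.2 0 1 * b) (mat x.2 1 0 * a + mat x.2 1 1 * b)}
  one_mem' := by
    intro a b
    have h : mat (1 : _root_.Matrix.SpecialLinearGroup (Fin 2) (ZMod p)) = 1 := rfl
    simp [h]
  mul_mem' := by
    intro x y hx hy a b
    have h1 : (x * y).1 * el w w1 a b * (x * y).1⁻¹ = x.1 * (y.1 * el w w1 a b * y.1⁻¹) * x.1⁻¹ := by
      rw [Prod.fst_mul]; group
    rw [h1, hy a b, hx, Prod.snd_mul, mat_mul]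
    congr 1
    · simp only [Matrix.mul_apply, Fin.sum_univ_two]; ring
    · simp only [Matrix.mul_apply, Fin.sum_univ_two]; ring
  inv_mem' := by
    intro x hx a b
    have hdet : mat x.2 0 0 * mat x.2 1 1 - mat x.2 0 1 * mat x.2 1 0 = 1 := by
      have := det_mat x.2
      rwa [Matrix.det_fin_two] at this
    have hinv : mat x.2⁻¹ = !![mat x.2 1 1, -mat x.2 0 1; -mat x.2 1 0, mat x.2 0 0] := by
      have h1 : mat x.2⁻¹ = (mat x.2).adjugate := rfl
      rw [h1, Matrix.adjugate_fin_two]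
    have h1 := hx (mat x.2 1 1 * a - mat x.2 0 1 * b) (-(mat x.2 1 0 * a) + mat x.2 0 0 * b)
    have e1 : mat x.2 0 0 * (mat x.2 1 1 * a - mat x.2 0 1 * b) + mat x.2 0 1 * (-(mat x.2 1 0 * a) + mat x.2 0 0 * b) = a := by
      linear_combination a * hdet
    have e2 : mat x.2 1 0 * (mat x.2 1 1 * a - mat x.2 0 1 * b) + mat x.2 1 1 * (-(mat x.2 1 0 * a) + mat x.2 0 0 * b) = b := by
      linear_combination b * hdet
    rw [e1, e2] at h1
    rw [← h1, Prod.fst_inv, Prod.snd_inv, hinv]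
    have e3 : x.1⁻¹ * (x.1 * el w w1 (mat x.2 1 1 * a - mat x.2 0 1 * b) (-(mat x.2 1 0 * a) + mat x.2 0 0 * b) * x.1⁻¹) *
      x.1⁻¹⁻¹ = el w w1 (mat x.2 1 1 * a - mat x.2 0 1 * b) (-(mat x.2 1 0 * a) + mat x.2 0 0 * b) := by group
    rw [e3]
    congr 1
    · simp; ring
    · simp

/-- the hypotheses -/
structure Opp (p : ℕ) (w w1 X V : K) (m n : ZMod p) : Prop where
  wo : orderOf w = p
  w1o : w1 ^ p = 1
  comm : w * w1 = w1 * w
  m0 : m ≠ 0
  n0 : n ≠ 0
  xw : X * w = w * X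
  xw1 : X * w1 * X⁻¹ = w1 * pw w m
  vw1 : V * w1 = w1 * V
  vw : V * w * V⁻¹ = w * pw w1 n

namespace Opp

variable {m n : ZMod p}

omit hp in
theorem wp (h : Opp p w w1 X V m n) : w ^ p = 1 := by rw [← h.wo, pow_orderOf_eq_one]

theorem x_mem (h : Opp p w w1 X V m n) : ((X, up m) : K × _root_.Matrix.SpecialLinearGroup (Fin 2) (ZMod p)) ∈ S w w1 p := by
  intro a b
  have hc : Commute w w1 := h.comm
  have e1 : X * el w w1 a b * X⁻¹ = (X * w * X⁻¹) ^ a.val * (X * w1 * X⁻¹) ^ b.val := by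
    rw [el, pw, pw, conj_pow, conj_pow]; group
  have e2 : X * w * X⁻¹ = w := by rw [h.xw, mul_inv_cancel_right]
  have hc2 : Commute w1 (pw w m) := (hc.symm).pow_right _
  have e3 : (w1 * pw w m) ^ b.val = pw w (m * b) * pw w1 b := by
    rw [hc2.mul_pow, pw_mul h.wp]
    exact ((hc2.pow_left _).pow_right _).eq
  change X * el w w1 a b * X⁻¹ = el w w1 (1 * a + m * b) (0 * a + 1 * b)
  rw [e1, e2, h.xw1, e3, one_mul, zero_mul, zero_add, one_mul, el, pw_add h.wp, pw, mul_assoc]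
  rfl

theorem v_mem (h : Opp p w w1 X V m n) : ((V, lo n) : K × _root_.Matrix.SpecialLinearGroup (Fin 2) (ZMod p)) ∈ S w w1 p := by
  intro a b
  have hc : Commute w w1 := h.comm
  have e1 : V * el w w1 a b * V⁻¹ = (V * w * V⁻¹) ^ a.val * (V * w1 * V⁻¹) ^ b.val := by
    rw [el, pw, pw, conj_pow, conj_pow]; group
  have e2 : V * w1 * V⁻¹ = w1 := by rw [h.vw1, mul_inv_cancel_right]
  have hc2 : Commute w (pw w1 n) := hc.pow_right _
  have e3 : (w * pw w1 n) ^ a.val = pw w a * pw w1 (n * a) := by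
    rw [hc2.mul_pow, pw_mul h.w1o]
    rfl
  change V * el w w1 a b * V⁻¹ = el w w1 (1 * a + 0 * b) (n * a + 1 * b)
  rw [e1, e2, h.vw, e3, one_mul, zero_mul, add_zero, one_mul, el, pw_add h.w1o, mul_assoc]
  rfl

theorem el_inj (h : Opp p w w1 X V m n) {a b : ZMod p} (hab : el w w1 a b = 1) : a = 0 ∧ b = 0 := by
  have h1 := h.x_mem a b
  change X * el w w1 a b * X⁻¹ = el w w1 (1 * a + m * b) (0 * a + 1 * b) at h1
  rw [hab, mul_one, mul_inv_cancel, one_mul, zero_mul, zero_add, one_mul] at h1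
  have key : ∀ c : ZMod p, pw w c = 1 → c = 0 := by
    intro c hc
    have h2 := orderOf_dvd_of_pow_eq_one (show w ^ c.val = 1 from hc)
    rw [h.wo] at h2
    exact (ZMod.val_eq_zero c).1 (Nat.eq_zero_of_dvd_of_lt h2 (ZMod.val_lt c))
  have hb : b = 0 := by
    have h3 : pw w (a + m * b) * pw w1 b = pw w a * pw w1 b := by
      rw [el] at hab h1
      rw [hab, ← h1]
    have h4 := mul_right_cancel h3
    have h5 := pw_add h.wp a (m * b)
    rw [h4] at h5
    have h6 : pw w (m * b) = 1 := by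
      have := mul_eq_left.1 h5.symm
      exact this
    rcases mul_eq_zero.1 (key _ h6) with h7 | h7
    · exact absurd h7 h.m0
    · exact h7
  refine ⟨?_, hb⟩
  rw [hb, el, pw_zero, mul_one] at hab
  exact key a hab

theorem el_eq (h : Opp p w w1 X V m n) {a b c d : ZMod p} (hab : el w w1 a b = el w w1 c d) : a = c ∧ b = d := by
  have hc : Commute w w1 := h.comm
  have h1 : el w w1 (a - c) (b - d) = 1 := by
    have e1 : pw w a = pw w (a - c) * pw w c := by rw [← pw_add h.wp, sub_add_cancel]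
    have e2 : pw w1 b = pw w1 d * pw w1 (b - d) := by rw [← pw_add h.w1o, add_sub_cancel]
    rw [el, el, e1, e2] at hab
    have hc1 : Commute (pw w c) (pw w1 d) := (hc.pow_left _).pow_right _
    have h2 : pw w (a - c) * pw w c * (pw w1 d * pw w1 (b - d)) = (pw w (a - c) * (pw w c * pw w1 d)) * pw w1 (b - d) := by group
    have hc2 : Commute (pw w (a - c)) (pw w c * pw w1 d) :=
      (((Commute.refl w).pow_left _).pow_right _).mul_right ((hc.pow_left _).pow_right _)
    rw [h2, hc2.eq, mul_assoc] at hab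
    exact mul_eq_left.1 hab
  obtain ⟨h2, h3⟩ := h.el_inj h1
  exact ⟨sub_eq_zero.1 h2, sub_eq_zero.1 h3⟩

/-- the matrix is determined -/
theorem unique (h : Opp p w w1 X V m n) {M : _root_.Matrix.SpecialLinearGroup (Fin 2) (ZMod p)}
    (hM : ((1 : K), M) ∈ S w w1 p) : M = 1 := by
  have h1 := hM 1 0
  have h2 := hM 0 1
  simp only [one_mul, inv_one, mul_one, mul_zero, add_zero, zero_add] at h1 h2
  obtain ⟨a1, a2⟩ := h.el_eq h1
  obtain ⟨b1, b2⟩ := h.el_eq h2
  apply mat_injective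
  rw [mat_one]
  ext i j
  fin_cases i <;> fin_cases j
  · exact a1.symm
  · exact b1.symm
  · exact a2.symm
  · exact b2.symm

omit hp in
theorem up_nsmul {R : Type*} [CommRing R] (x : R) (k : ℕ) : up x ^ k = up (k * x) := by
  induction k with
  | zero => rw [pow_zero, Nat.cast_zero, zero_mul, up_zero]
  | succ k ih => rw [pow_succ, ih, up_mul, Nat.cast_succ, add_mul, one_mul]

omit hp in
theorem lo_nsmul {R : Type*} [CommRing R] (x : R) (k : ℕ) : lo x ^ k = lo (k * x) := by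
  induction k with
  | zero => rw [pow_zero, Nat.cast_zero, zero_mul, lo_zero]
  | succ k ih => rw [pow_succ, ih, lo_mul, Nat.cast_succ, add_mul, one_mul]

theorem closure_top {m n : ZMod p} (hm : m ≠ 0) (hn : n ≠ 0) :
    Subgroup.closure ({up m, lo n} : Set (_root_.Matrix.SpecialLinearGroup (Fin 2) (ZMod p))) = ⊤ := by
  rw [eq_top_iff, ← closure_eq_top p, closure_le]
  have h1 : (up 1 : _root_.Matrix.SpecialLinearGroup (Fin 2) (ZMod p)) = up m ^ (m⁻¹).val := by
    rw [up_nsmul, ZMod.natCast_zmod_val, inv_mul_cancel₀ hm]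
  have h2 : (lo 1 : _root_.Matrix.SpecialLinearGroup (Fin 2) (ZMod p)) = lo n ^ (n⁻¹).val := by
    rw [lo_nsmul, ZMod.natCast_zmod_val, inv_mul_cancel₀ hn]
  rintro x (rfl | rfl)
  · rw [h1]; exact pow_mem (_root_.Subgroup.subset_closure (by simp)) _
  · rw [h2]; exact pow_mem (_root_.Subgroup.subset_closure (by simp)) _

/-- **Part (a).** -/
theorem not_solvable (h : Opp p w w1 X V m n) (h5 : 5 ≤ p) : ¬ Group.IsSolvable ↥(_root_.Subgroup.closure ({X, V} : Set K)) := by
  intro hs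
  let T : Subgroup (K × _root_.Matrix.SpecialLinearGroup (Fin 2) (ZMod p)) := _root_.Subgroup.closure {(X, up m), (V, lo n)}
  have hT : T ≤ S w w1 p := by
    rw [closure_le]
    rintro x (rfl | rfl)
    · exact h.x_mem
    · exact h.v_mem
  have h1 : T.map (MonoidHom.fst K _) = _root_.Subgroup.closure ({X, V} : Set K) := by
    rw [MonoidHom.map_closure]
    congr 1
    simp [Set.image_pair]
  have h2 : T.map (MonoidHom.snd K _) = ⊤ := by
    rw [MonoidHom.map_closure, ← closure_top h.m0 h.n0]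
    congr 1
    simp [Set.image_pair]
  -- `T` embeds in `⟨X, V⟩`
  let f : ↥T →* ↥(_root_.Subgroup.closure ({X, V} : Set K)) := ((MonoidHom.fst K _).comp T.subtype).codRestrict _ (fun x => by
    rw [← h1]
    exact ⟨x, x.2, rfl⟩)
  have hf : Function.Injective f := by
    rw [injective_iff_map_eq_one]
    intro x hx
    have h3 : (x : K × _root_.Matrix.SpecialLinearGroup (Fin 2) (ZMod p)).1 = 1 := congrArg Subtype.val hx
    have h4 : ((1 : K), (x : K × _root_.Matrix.SpecialLinearGroup (Fin 2) (ZMod p)).2) ∈ S w w1 p := by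
      rw [← h3]; exact hT x.2
    have h5 := h.unique h4
    exact Subtype.ext (Prod.ext h3 h5)
  have hTs : Group.IsSolvable ↥T := Group.isSolvable_of_isSolvable_injective hf
  let g : ↥T →* _root_.Matrix.SpecialLinearGroup (Fin 2) (ZMod p) := (MonoidHom.snd K _).comp T.subtype
  have hg : Function.Surjective g := by
    intro y
    have : y ∈ T.map (MonoidHom.snd K _) := by rw [h2]; exact mem_top _
    obtain ⟨x, hx, rfl⟩ := this
    exact ⟨⟨x, hx⟩, rfl⟩
  have h3 : Group.IsSolvable (_root_.Matrix.SpecialLinearGroup (Fin 2) (ZMod p)) := Group.isSolvable_of_surjective hg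
  exact Cfsg.Agent.Classification.NGroupExclude.not_isSolvable_sl (ZMod p) (by rw [ZMod.card]; omega) h3

/-- a matrix of `SL₂(p)` with a trivial `p`-power has trace `2` -/
theorem trace_two {M : _root_.Matrix.SpecialLinearGroup (Fin 2) (ZMod p)} {k : ℕ} (hM : M ^ p ^ k = 1) : mat M 0 0 + mat M 1 1 = 2 := by
  have h1 : (mat M) ^ p ^ k = 1 := by rw [← mat_pow, hM, mat_one]
  have h2 : (mat M - 1) ^ p ^ k = 0 := by
    have h3 : (mat M - 1) ^ p ^ k = (mat M) ^ p ^ k - 1 ^ p ^ k :=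
      sub_pow_char_pow_of_commute _ _ (Commute.one_right _)
    rw [h3, h1, one_pow, sub_self]
  have h3 : IsNilpotent (mat M - 1) := ⟨_, h2⟩
  have h4 : IsNilpotent (mat M - 1).trace := Matrix.isNilpotent_trace_of_isNilpotent h3
  have h5 := h4.eq_zero
  rw [Matrix.trace_fin_two] at h5
  simp only [_root_.Fin.isValue, _root_.Matrix.sub_apply, _root_.Matrix.one_apply_eq] at h5
  linear_combination h5

/-- **Part (b).** -/
theorem not_pel (h : Opp p w w1 X V m n) (k : ℕ) : (X * V) ^ p ^ k ≠ 1 := by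
  intro hk
  have h1 : ((X, up m) * (V, lo n) : K × _root_.Matrix.SpecialLinearGroup (Fin 2) (ZMod p)) ^ p ^ k ∈ S w w1 p :=
    pow_mem (mul_mem h.x_mem h.v_mem) _
  have h2 : ((X, up m) * (V, lo n) : K × _root_.Matrix.SpecialLinearGroup (Fin 2) (ZMod p)) ^ p ^ k = (1, (up m * lo n) ^ p ^ k) := by
    rw [Prod.mk_mul_mk, Prod.pow_mk, hk]
  rw [h2] at h1
  have h3 := trace_two (h.unique h1)
  rw [mat_mul, mat_up, mat_lo] at h3
  simp only [Matrix.mul_apply, Fin.sum_univ_two, _root_.Fin.isValue, _root_.Matrix.of_apply, _root_.Matrix.cons_val', _root_.Matrix.cons_val_fin_one, _root_.Matrix.cons_val_zero, _root_.mul_one, _root_.Matrix.cons_val_one, _root_.MulZeroClass.mul_zero, _root_.zero_add] at h3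
  have h4 : m * n = 0 := by linear_combination h3
  rcases mul_eq_zero.1 h4 with h5 | h5
  · exact h.m0 h5
  · exact h.n0 h5

/-- **A strong pair.** -/
theorem spair (h : Opp p w w1 X V m n) (h5 : 5 ≤ p) : SPair p (⊤ : Subgroup K) X V := by
  refine SPair.mk' hp.out ⟨1, mem_top _, ?_⟩ ⟨1, mem_top _, fun k => ?_⟩
  · rw [one_mul, inv_one, mul_one]; exact h.not_solvable h5
  · rw [one_mul, inv_one, mul_one]; exact h.not_pel k

end Opp

end Cfsg.Agent.H199.S5
end

-- part: H199/S5/MonSeven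
section
/-!
# The strong row of the Monster, `p = 7` (for S2274)
-/

set_option autoImplicit false
set_option maxRecDepth 100000

namespace Cfsg.Agent.H199.S5

open Subgroup Cfsg Cfsg.Agent.H533.T5 Cfsg.Agent.H132.S5 Cfsg.Agent.H609.T5
open Cfsg.Agent.MonsterX Cfsg.Agent.MonsterX.InstData

/-- **Two good elements form a strong pair.** -/
theorem good_spair {K : Type*} [Group K] {w w1 a x y : K} (hwo : orderOf w = 7) (hww1 : w * w1 = w1 * w)
    (haw : a * w * a⁻¹ = w1) (haw1 : a * w1 * a⁻¹ = w⁻¹) (hx : Seven.Good w w1 x)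
    (hy : Seven.Good w w1 y) : SPair 7 (⊤ : Subgroup K) x y := by
  have h7 : Fact (Nat.Prime 7) := ⟨by norm_num⟩
  obtain ⟨k, m, hm, h1, h2⟩ := hx
  obtain ⟨l, n, hn, h3, h4⟩ := hy
  refine SPair.conj_left (mem_top k) (SPair.conj_right (mem_top (a * l)) ?_)
  have e : (a * l * y * (a * l)⁻¹) = a * (l * y * l⁻¹) * a⁻¹ := by group
  rw [e]
  generalize k * x * k⁻¹ = X at h1 h2
  generalize l * y * l⁻¹ = Y at h3 h4
  have hw7 : w ^ 7 = 1 := by rw [← hwo, pow_orderOf_eq_one]
  have hw17 : w1 ^ 7 = 1 := by rw [← haw, conj_pow, hw7]; group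
  refine (⟨hwo, hw17, hww1, ?_, ?_, h1, ?_, ?_, ?_⟩ : Opp 7 w w1 X (a * Y * a⁻¹) (m : ZMod 7) ((-n : ℤ) : ZMod 7)).spair (by norm_num)
  · intro h
    exact hm ((ZMod.intCast_zmod_eq_zero_iff_dvd m 7).1 h)
  · intro h
    rw [ZMod.intCast_zmod_eq_zero_iff_dvd] at h
    exact hn ((dvd_neg).1 h)
  · rw [pw_intCast hw7]; exact h2
  · rw [← haw]
    calc a * Y * a⁻¹ * (a * w * a⁻¹) = a * (Y * w) * a⁻¹ := by group
      _ = a * w * a⁻¹ * (a * Y * a⁻¹) := by rw [h3]; group
  · rw [pw_intCast hw17]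
    have e1 : w = a * w1⁻¹ * a⁻¹ := by
      have : a * w1⁻¹ * a⁻¹ = (a * w1 * a⁻¹)⁻¹ := by rw [conj_inv]
      rw [this, haw1, inv_inv]
    have e2 : a * w ^ (-n) * a⁻¹ = w1 ^ (-n) := by rw [← haw, conj_zpow]
    have e3 : Y * w1⁻¹ * Y⁻¹ = w1⁻¹ * w ^ (-n) := by
      have : Y * w1⁻¹ * Y⁻¹ = (Y * w1 * Y⁻¹)⁻¹ := by rw [conj_inv]
      rw [this, h4, mul_inv_rev, ← zpow_neg]
      exact (((show Commute w w1 from hww1).zpow_left (-n)).inv_right).eq
    calc a * Y * a⁻¹ * w * (a * Y * a⁻¹)⁻¹ = a * Y * a⁻¹ * (a * w1⁻¹ * a⁻¹) * (a * Y * a⁻¹)⁻¹ := by rw [← e1]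
      _ = a * (Y * w1⁻¹ * Y⁻¹) * a⁻¹ := by group
      _ = (a * w1⁻¹ * a⁻¹) * (a * w ^ (-n) * a⁻¹) := by rw [e3]; group
      _ = w * w1 ^ (-n) := by rw [← e1, e2]

/-- the pairs of elements of order 7 of the model -/
theorem spair_seven_model {r s : ↥InstData.M.G} (hr : orderOf r = 7) (hs : orderOf s = 7) :
    SPair 7 (⊤ : Subgroup ↥InstData.M.G) r s := by
  have hfin := MFive.Row.finite_model
  have h7 : ¬ 7 ^ 7 ∣ Nat.card ↥InstData.M.G := by
    rw [H961.SevM.card_model]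
    norm_num
  obtain ⟨y, v, s', a, c, w, hL, h5⟩ := H961.SevM.exists_data'
  obtain ⟨Q, hQ, -⟩ := H961.SevM.exists_qq hL h5
  obtain ⟨s1, hS⟩ := Seven.exists_sit hL hQ h5 h7
  exact good_spair hS.wo hS.ww1 hS.aw hS.aw1 (hS.good_all h7 hr) (hS.good_all h7 hs)

/-- **Strong rows of the Monster from the model.** -/
theorem srow_of_model_m {p : ℕ} (hp : p.Prime) (hp2 : p ≠ 2)
    (hm : ∀ r s : ↥InstData.M.G, orderOf r = p → orderOf s = p → SPair p (⊤ : Subgroup ↥InstData.M.G) r s)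
    {K : Type*} [Group K] [Finite K] [IsSimpleGroup K] (h : Spor.IsoM K) : SRow p K := by
  have hinn := BpSpor.Inn.m h
  obtain ⟨e⟩ := h
  obtain ⟨f⟩ := MonsterP.Equiv.equiv
  have hna : ¬ IsMulCommutative K := na_of_card (by
    rw [Nat.card_congr (e.trans f).toEquiv, MonsterP.EquivOf.isM_model.2]
    norm_num)
  refine SRow.of_inner hna (fun a ha => ?_) (fun x y hx hy => ?_)
  · obtain ⟨g, rfl⟩ := hinn p hp hp2 a ha
    exact ⟨g, rfl⟩
  · have h1 : orderOf (e.trans f x) = p := by rw [MulEquiv.orderOf_eq, hx]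
    have h2 : orderOf (e.trans f y) = p := by rw [MulEquiv.orderOf_eq, hy]
    refine SPair.of_hom hp (e.trans f).toMonoidHom ?_ (hm _ _ h1 h2)
    intro w _
    exact ⟨(e.trans f).symm w, mem_top _, (e.trans f).apply_symm_apply w⟩

/-- **The strong row of the Monster, `p = 7`.** -/
theorem srow_m_seven {K : Type*} [Group K] [Finite K] [IsSimpleGroup K] (h : Spor.IsoM K) : SRow 7 K :=
  srow_of_model_m (by norm_num) (by norm_num) (fun _ _ hr hs => spair_seven_model hr hs) h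

end Cfsg.Agent.H199.S5
end

private theorem dce_907e49710864 : _root_.True := by
  try have : _root_.True := by simp only [_root_.Cfsg.Agent.H199.S5.el.eq_1]
  try have : _root_.True := by simp only [_root_.Cfsg.Agent.H199.S5.pw.eq_1]
  exact _root_.True.intro
end

-- part: H752/S5/CoFive
section
set_option linter.all false
open scoped Cfsg.Agent.FastGrp

/-!
# The strong pairs of order 5 of `Co1` (helper752; S2274)

The three classes of elements of order five are rational; for two different classes the pairs come from explicit words.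
`srow_co1 : SRow 5 K` for `K ≅ Co1`.
-/

set_option autoImplicit false

namespace Cfsg.Agent.H752.S5.CoFive

open Cfsg Subgroup Cfsg.Agent.SporadicStructure.Co0Base Cfsg.Agent.CoOneType.CoEval
open Cfsg.Agent.CpAutCoOneFive Cfsg.Agent.CpAutCoOneFive.Mat
open Cfsg.Agent.CpAutCoOneFive.Elem (a b c d)
open Cfsg.Agent.H533.T5 Cfsg.Agent.H106.MT Cfsg.Agent.H132.S5
open Cfsg.Agent.SporadicA Cfsg.Agent.SporadicStructure.Co0Matrix
open Cfsg.Agent.H752.CoOnePairs (pr_mul pr_inv pr_pow pr_zpow pr_one vl vl_append vl_flatten exists_rep rv0 rv1 rv2 rv)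
open Cfsg.Agent.CpAutCoOneFive.Cls (five)

universe u

/-- the element `z` -/
def z : Spor.Co1 := pr (mk ok_z)

/-- the value of a word with the letter `z` -/
def vl' (w : List ℕ) : Spor.Co1 := (w.map fun i => pr (e' i)).prod

theorem rl {u v : List ℕ} (h : sameB M' u v = true) : vl' u = vl' v := eq_of_sameB rep' h

theorem z_a : z * pr a * z⁻¹ = pr a ^ 2 := by
  have h := rl rel_za
  simp only [vl', List.map_cons, List.map_nil, List.prod_cons, List.prod_nil, mul_one] at h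
  have h1 : z * pr a = pr a * (pr a * z) := h
  rw [h1, pow_two]
  group

theorem z_d : z * pr d * z⁻¹ = pr d ^ 2 := by
  have h := rl rel_zd
  simp only [vl', List.map_cons, List.map_nil, List.prod_cons, List.prod_nil, mul_one] at h
  have h1 : z * pr d = pr d * (pr d * z) := h
  rw [h1, pow_two]
  group

theorem t_c : pr Elem.t * pr c * (pr Elem.t)⁻¹ = pr c ^ 2 := by
  rw [← pr_mul, Elem.tc, pr_mul, pr_pow]
  group

/-- the representatives are conjugate to their squares -/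
theorem sq_rv {i : ℕ} (hi : i < 3) : ∃ w : Spor.Co1, w * rv i * w⁻¹ = rv i ^ 2 := by
  interval_cases i
  · exact ⟨z, by rw [rv0]; exact z_a⟩
  · exact ⟨pr Elem.t, by rw [rv1]; exact t_c⟩
  · exact ⟨z, by rw [rv2]; exact z_d⟩

/-- an element conjugate to its square is conjugate to all its powers -/
theorem isConj_pow_of_sq {G : Type*} [Group G] {r : G} (h : ∃ w : G, w * r * w⁻¹ = r ^ 2) (n : ℕ) :
    IsConj r (r ^ 2 ^ n) := by
  obtain ⟨w, hw⟩ := h
  induction n with
  | zero => rw [pow_zero, pow_one]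
  | succ n ih =>
    refine ih.trans ?_
    rw [pow_succ' 2 n, pow_mul, ← hw, conj_pow]
    exact isConj_iff.2 ⟨w, rfl⟩

/-- in a rational class of elements of order five, every power equal to the representative up to conjugacy comes from a
conjugate -/
theorem isConj_of_zpow {G : Type*} [Group G] {r x w : G} (h : ∃ w : G, w * r * w⁻¹ = r ^ 2) (hr : orderOf r = 5)
    (hx : orderOf x = 5) {n : ℤ} (hw : w * x ^ n * w⁻¹ = r) : IsConj r x := by
  have h1 : r ∈ zpowers (w * x * w⁻¹) := ⟨n, by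
    show (w * x * w⁻¹) ^ n = r
    rw [← hw, conj_zpow]⟩
  have h2 : orderOf (w * x * w⁻¹) = 5 := by rw [← MulAut.conj_apply, MulEquiv.orderOf_eq, hx]
  have h3 : zpowers r = zpowers (w * x * w⁻¹) := by
    have hfin : Finite ↥(zpowers (w * x * w⁻¹)) :=
      Nat.finite_of_card_ne_zero (by rw [Nat.card_zpowers, h2]; norm_num)
    exact Subgroup.eq_of_le_of_card_ge (zpowers_le.2 h1) (by rw [Nat.card_zpowers, Nat.card_zpowers, h2, hr])
  have h4 : w * x * w⁻¹ ∈ zpowers r := by rw [h3]; exact mem_zpowers _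
  have hfo : IsOfFinOrder r := orderOf_pos_iff.1 (by rw [hr]; norm_num)
  obtain ⟨m, hm⟩ := (hfo.mem_powers_iff_mem_zpowers).2 h4
  have h5 : r ^ (m % 5) = w * x * w⁻¹ := by
    have := pow_mod_orderOf r m
    rw [hr] at this
    rw [this]
    exact hm
  have h6 : ∃ k : ℕ, 2 ^ k % 5 = m % 5 := by
    have h7 : m % 5 < 5 := Nat.mod_lt _ (by norm_num)
    have h8 : m % 5 ≠ 0 := by
      intro h0
      rw [h0, pow_zero] at h5
      rw [← h5, orderOf_one] at h2
      norm_num at h2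
    interval_cases hmm : m % 5
    · exact absurd rfl h8
    · exact ⟨0, by norm_num⟩
    · exact ⟨1, by norm_num⟩
    · exact ⟨3, by norm_num⟩
    · exact ⟨2, by norm_num⟩
  obtain ⟨k, hk⟩ := h6
  have h9 : r ^ 2 ^ k = w * x * w⁻¹ := by
    rw [← h5, ← hk]
    have := pow_mod_orderOf r (2 ^ k)
    rw [hr] at this
    exact this.symm
  have h10 : IsConj (w * x * w⁻¹) x := (isConj_iff.2 ⟨w, rfl⟩ : IsConj x (w * x * w⁻¹)).symm
  exact ((isConj_pow_of_sq h k).trans (by rw [h9])).trans h10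

theorem orderOf_rv {i : ℕ} (hi : i < 3) : orderOf (rv i) = 5 := by
  have hne : ∀ {w : List ℕ}, neB M w = true → (w.map fun i => pr (e i)).prod ≠ 1 := fun h => ne_one_of_neB rep h
  have key : ∀ {x : Co0}, x ^ 5 = 1 → pr x ≠ 1 → orderOf (pr x) = 5 := by
    intro x h1 h2
    refine orderOf_eq_prime ?_ h2
    rw [← pr_pow, h1, pr_one]
  interval_cases i
  · rw [rv0]
    refine key Elem.a_pow ?_
    have := hne (w := [0]) (by (delta Cfsg.Agent.CoOneType.CoEval.neB; rewrite [Cfsg.Agent.CoOneType.CoW.fold_eq]; decide +kernel))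
    simp only [List.map_cons, List.map_nil, List.prod_cons, List.prod_nil, mul_one] at this
    exact this
  · rw [rv1]
    refine key Elem.c_pow ?_
    have := hne Mat.ne_c
    rw [← rv1]
    exact this
  · rw [rv2]
    refine key Elem.d_pow ?_
    have := hne (w := [2]) (by (delta Cfsg.Agent.CoOneType.CoEval.neB; rewrite [Cfsg.Agent.CoOneType.CoW.fold_eq]; decide +kernel))
    simp only [List.map_cons, List.map_nil, List.prod_cons, List.prod_nil, mul_one] at this
    exact this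

/-! ### Different classes -/

theorem apair_bpair {G : Type*} [Group G] {x y : G} {n m : ℕ} (hx : x ≠ 1) (h5 : x ^ 5 = 1) (hxy : x * y ≠ 1)
    (hn : (x * y) ^ n = 1) (hxxy : x * (x * y) ≠ 1) (hm : (x * (x * y)) ^ m = 1) (h5n : Nat.Coprime 5 n)
    (h5m : Nat.Coprime 5 m) (hnm : Nat.Coprime n m) :
    ¬ Group.IsSolvable ↥(closure ({x, y} : Set G)) ∧ ∀ k : ℕ, (x * y) ^ 5 ^ k ≠ 1 := by
  refine ⟨fun hs => ?_, fun k hk => hxy ?_⟩
  · refine H983.PairTriple.not_solvable_pair hx hxy hxxy h5 hn hm h5n hnm h5m (isSolvable_of_le ?_ hs)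
    rw [closure_le]
    have h1 : x ∈ closure ({x, y} : Set G) := subset_closure (by simp)
    have h2 : y ∈ closure ({x, y} : Set G) := subset_closure (by simp)
    rintro z (rfl | rfl)
    · exact h1
    · exact mul_mem h1 h2
  · have h4 := pow_gcd_eq_one.mpr ⟨hn, hk⟩
    rwa [(Nat.Coprime.pow_right k h5n.symm : Nat.gcd n (5 ^ k) = 1), pow_one] at h4

theorem vl_iw : ∀ {w : List ℕ}, (∀ i ∈ w, i < 18) → vl (iw w) = (vl w)⁻¹ :=
  fun h => H752.CoOnePairs.vl_iw h

theorem vl_rp (i : ℕ) : vl (rp i) = rv i := rfl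

theorem pair_lt {i j : ℕ} (h : good i j = true) (hlt : ∀ t ∈ (gt i j).1, t < 18)
    (hc : Nat.Coprime 5 (gt i j).2.1) (hc' : Nat.Coprime 5 (gt i j).2.2) (hc'' : Nat.Coprime (gt i j).2.1 (gt i j).2.2)
    (hr : orderOf (rv i) = 5) : SPair 5 (⊤ : Subgroup Spor.Co1) (rv i) (rv j) := by
  unfold good at h
  rw [Bool.and_eq_true, Bool.and_eq_true, Bool.and_eq_true] at h
  obtain ⟨⟨⟨h1, h2⟩, h3⟩, h4⟩ := h
  have hw : vl (wd i j) = rv i * (vl (gt i j).1 * rv j * (vl (gt i j).1)⁻¹) := by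
    unfold wd
    rw [vl_append, vl_append, vl_append, vl_iw hlt, vl_rp, vl_rp]
    simp only [mul_assoc]
  have hw2 : vl (rp i ++ wd i j) = rv i * (rv i * (vl (gt i j).1 * rv j * (vl (gt i j).1)⁻¹)) := by
    rw [vl_append, vl_rp, hw]
  obtain ⟨ha, hb⟩ := apair_bpair (x := rv i) (y := vl (gt i j).1 * rv j * (vl (gt i j).1)⁻¹) (n := (gt i j).2.1)
    (m := (gt i j).2.2) (fun h0 => by rw [h0, orderOf_one] at hr; norm_num at hr) (by rw [← hr, pow_orderOf_eq_one])
    (by rw [← hw]; exact ne_one_of_neB rep h2) (by rw [← hw, ← vl_flatten]; exact eq_one_of_relB rep h1)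
    (by rw [← hw2]; exact ne_one_of_neB rep h4) (by rw [← hw2, ← vl_flatten]; exact eq_one_of_relB rep h3) hc hc' hc''
  exact SPair.mk' five ⟨_, mem_top _, ha⟩ ⟨_, mem_top _, hb⟩

theorem pair01 : SPair 5 (⊤ : Subgroup Spor.Co1) (rv 0) (rv 1) :=
  pair_lt good01 (by decide) (by decide) (by decide) (by decide) (orderOf_rv (by norm_num))

theorem pair02 : SPair 5 (⊤ : Subgroup Spor.Co1) (rv 0) (rv 2) :=
  pair_lt good02 (by decide) (by decide) (by decide) (by decide) (orderOf_rv (by norm_num))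

theorem pair12 : SPair 5 (⊤ : Subgroup Spor.Co1) (rv 1) (rv 2) :=
  pair_lt good12 (by decide) (by decide) (by decide) (by decide) (orderOf_rv (by norm_num))

theorem pair_rv {i j : ℕ} (hi : i < 3) (hj : j < 3) (hij : i ≠ j) : SPair 5 (⊤ : Subgroup Spor.Co1) (rv i) (rv j) := by
  interval_cases i <;> interval_cases j
  · exact absurd rfl hij
  · exact pair01
  · exact pair02
  · exact pair01.symm
  · exact absurd rfl hij
  · exact pair12
  · exact pair02.symm
  · exact pair12.symm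
  · exact absurd rfl hij

/-- **Two elements of order five of `Co1` are conjugate or a strong pair.** -/
theorem conj_or_pair {x y : Spor.Co1} (hx : orderOf x = 5) (hy : orderOf y = 5) :
    IsConj x y ∨ SPair 5 (⊤ : Subgroup Spor.Co1) x y := by
  obtain ⟨i, hi, n, w, h1⟩ := exists_rep hx
  obtain ⟨j, hj, m, v, h2⟩ := exists_rep hy
  have h3 := isConj_of_zpow (sq_rv hi) (orderOf_rv hi) hx h1
  have h4 := isConj_of_zpow (sq_rv hj) (orderOf_rv hj) hy h2
  rcases eq_or_ne i j with rfl | hij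
  · exact Or.inl (h3.symm.trans h4)
  · right
    have h5 := pair_rv hi hj hij
    obtain ⟨s, hs⟩ := isConj_iff.1 h3.symm
    obtain ⟨t, ht⟩ := isConj_iff.1 h4.symm
    rw [← hs, ← ht] at h5
    exact (h5.conj_left (mem_top s)).conj_right (mem_top t)

/-- **All pairs of elements of order five of a group isomorphic to `Co1`.** -/
theorem spair {K : Type u} [Group K] [Finite K] [IsSimpleGroup K] (hAA : AAHyp.{u} 5) (hRS : RSHyp.{u} 5)
    (e : K ≃* Spor.Co1) (hna : ¬ IsMulCommutative K) {x y : K} (hx : orderOf x = 5) (hy : orderOf y = 5) :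
    SPair 5 (⊤ : Subgroup K) x y := by
  have hx' : orderOf (e x) = 5 := by rw [MulEquiv.orderOf_eq, hx]
  have hy' : orderOf (e y) = 5 := by rw [MulEquiv.orderOf_eq, hy]
  rcases conj_or_pair hx' hy' with h | h
  · obtain ⟨g, hg⟩ := isConj_iff.1 h.symm
    have h1 : e.symm g * y * (e.symm g)⁻¹ = x := by
      apply e.injective
      rw [map_mul, map_mul, map_inv, e.apply_symm_apply, hg]
    exact SPair.mk' five (apair_of_isConj_zpow hRS five hna hx (s := e.symm g) (j := 1) (by rw [zpow_one, h1]))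
      (bpair_of_isConj hAA five hna hx (isConj_iff.2 ⟨e.symm g, h1⟩).symm)
  · refine SPair.of_hom five e.toMonoidHom (T := ⊤) ?_ h
    intro w _
    exact ⟨e.symm w, mem_top _, e.apply_symm_apply w⟩

/-- **The strong row of `Co1`, `p = 5`.** -/
theorem srow_co1 (B : SBox.{u} 5) (K : Type u) [Group K] [Finite K] [IsSimpleGroup K] (h : Spor.IsoCo1 K) :
    SRow 5 K := by
  obtain ⟨e⟩ := h
  have hcard : Nat.card K = 4157776806543360000 := by
    rw [Nat.card_congr e.toEquiv, S0399.result.2]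
  have hna := H752.TFiveCo.not_comm_of_card (G := K) (by rw [hcard]; norm_num)
  refine SRow.of_inner hna ?_ fun x y hx hy => spair B.aa B.rs e hna hx hy
  intro α _
  obtain ⟨s, hs⟩ := ConwayFacts.AutCo1.inner_of_equiv e α
  exact ⟨s, MulEquiv.ext fun g => by rw [hs, MulAut.conj_apply]⟩

end Cfsg.Agent.H752.S5.CoFive

private theorem dce_4c7ff7db7b6b : _root_.True := by
  try have : _root_.True := by simp only [_root_.Cfsg.Agent.H752.S5.CoFive.vl'.eq_1]
  exact _root_.True.intro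
end

-- part: H347/S2274/Glue
section
prune_inst 0x153051401de0020000008592112002246c0005b000008400cce10842080142220d8228000d8011054a20a18100010008110000c0420000000a0004000001012080820204b1480008c6001f000080000000000000020000000000000000000000000000000
set_option linter.all false
open scoped Cfsg.Agent.FastGrp

-- part: H347/S2274/ExcRed
section
/-!
# S2274: strong rows of `E₆`, `²E₆`, `E₇`, `E₈` in cross characteristic (task 3619, X1)

* `srow_e6_of`, `srow_e7_of`, `srow_e8_of`, `srow_twE6_of` : the strong row from the pairs of elements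
  (all `p ≥ 5` prime to `q`);
* `srow_e6_sq`, `srow_twE6_sq`, `srow_e7_sq`, `srow_e8_sq` : `p ∣ q ^ 2 - 1`, from the rows `PSL₂(K)`;
* `srow_e8_five` : `p = 5 ∣ q ^ 2 + 1`, from the row `PSL₂(K)`.
-/

set_option autoImplicit false

universe u

namespace Cfsg.Agent.H347.S2274.ExcRed

open Cfsg Cfsg.Lie Cfsg.Agent.H533.T5 Cfsg.Agent.H957.T5M Cfsg.Agent.H106.MT Cfsg.Agent.H132.S5
open Cfsg.Agent.H897.T5Sub Cfsg.Agent.H897.T5Hfix Cfsg.Agent.H897.T5UntwRow

/-- The strong rows `PSL₂(K)` in cross characteristic. -/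
def PslTwoCross (p : ℕ) : Prop :=
  ∀ (K : Type) [Field K] [Fintype K], 4 ≤ Fintype.card K → ¬ p ∣ Fintype.card K →
    SRow p (Matrix.ProjectiveSpecialLinearGroup (Fin 2) K)

theorem not_comm_of {S : Type*} [Group S] {T : Type*} [Group T] (e : S ≃* T)
    (h : ¬ IsMulCommutative T) : ¬ IsMulCommutative S := fun hc =>
  h ⟨⟨fun a b => e.symm.injective (by
    rw [map_mul, map_mul]
    exact hc.is_comm.comm _ _)⟩⟩

/-! ### the strong rows from the pairs of elements -/

section Rows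

variable {S : Type u} [Group S] [Finite S] {F : Type} [Field F] [Fintype F] {p : ℕ} (hpp : p.Prime)
  (B : SBox.{u} p) (h5 : 5 ≤ p)
  (hin : ∀ x y : S, orderOf x = p → orderOf y = p → SPair p (⊤ : Subgroup S) x y)

include hpp B h5 hin

theorem srow_e6_of (hpF : ¬ p ∣ Fintype.card F) (e : S ≃* ↥(chevE6.group F)) : SRow p S := by
  have hs : IsSimpleGroup ↥(chevE6.group F) ∧ ¬ IsMulCommutative ↥(chevE6.group F) :=
    S1054.result chevE6 (by simp)
  have := hs.1
  have := e.isSimpleGroup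
  have hok := Cfsg.Agent.H28.T5RowsUntw.outerOk_e6 hpp h5 e
  exact srow_of B.aa B.rs hpp (not_comm_of e hs.2) hin (hfix_e6 hpp h5 hpF e) hok.sb hok.conj

theorem srow_e7_of (hpF : ¬ p ∣ Fintype.card F) (e : S ≃* ↥(chevE7.group F)) : SRow p S := by
  have hs : IsSimpleGroup ↥(chevE7.group F) ∧ ¬ IsMulCommutative ↥(chevE7.group F) :=
    S1054.result chevE7 (by simp)
  have := hs.1
  have := e.isSimpleGroup
  have hok := Cfsg.Agent.H28.T5RowsUntw.outerOk_e7 hpp h5 e
  exact srow_of B.aa B.rs hpp (not_comm_of e hs.2) hin (hfix_e7 hpp h5 hpF e) hok.sb hok.conj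

theorem srow_e8_of (hpF : ¬ p ∣ Fintype.card F) (e : S ≃* ↥(chevE8.group F)) : SRow p S := by
  have hs : IsSimpleGroup ↥(chevE8.group F) ∧ ¬ IsMulCommutative ↥(chevE8.group F) :=
    S1054.result chevE8 (by simp)
  have := hs.1
  have := e.isSimpleGroup
  have hok := Cfsg.Agent.H28.T5RowsUntw.outerOk_e8 hpp h5 e
  exact srow_of B.aa B.rs hpp (not_comm_of e hs.2) hin (hfix_e8 hpp h5 hpF e) hok.sb hok.conj

theorem srow_twE6_of {K : Type} [Field K] [Fintype K] {q : ℕ} (hq : IsPrimePow q)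
    (hK : Fintype.card K = q ^ 2) (hpq : ¬ p ∣ q) (e : S ≃* ↥(twistedE6 K q)) : SRow p S := by
  obtain ⟨hs, hna⟩ := Cfsg.Agent.S1070.result hq hK
  have := e.isSimpleGroup
  have hok := Cfsg.Agent.H28.T5TwSix.outerOk_twE6 hq hK hpp hpq e h5
  exact srow_of B.aa B.rs hpp (not_comm_of e hna) hin (hfix_twE6 hpp hq hK h5 hpq e) hok.sb hok.conj

end Rows

/-! ### the reductions to `PSL₂` -/

section Red

variable {p : ℕ} (hp : p.Prime) (h5 : 5 ≤ p) (R : PslTwoCross p) {S : Type u} [Group S]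
  {F : Type} [Field F] [Fintype F]

include hp h5 R

theorem of_redn {T : Type*} [Group T] (h : Redn p F T) (hF : ¬ p ∣ Fintype.card F) (e : S ≃* T) :
    SRow p S :=
  SRow.congr e.symm (h.srow hp (R F h.1 hF))

/-- **`E₆(q)`, `p ∣ q ^ 2 - 1`.** -/
theorem srow_e6_sq (hF : ¬ p ∣ Fintype.card F) (hq : p ∣ Fintype.card F ^ 2 - 1)
    (e : S ≃* ↥(chevE6.group F)) : SRow p S := by
  rcases split hp hq with hq | hq
  · exact of_redn hp h5 R (H897.T5UntwRow.e6 hp h5 hq) hF e
  · exact of_redn hp h5 R (H897.T5TwE6.e6' hp h5 hq) hF e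

/-- **`E₇(q)`, `p ∣ q ^ 2 - 1`.** -/
theorem srow_e7_sq (hF : ¬ p ∣ Fintype.card F) (hq : p ∣ Fintype.card F ^ 2 - 1)
    (e : S ≃* ↥(chevE7.group F)) : SRow p S :=
  of_redn hp h5 R (H897.T5UntwRow.e7 hp h5 hq) hF e

/-- **`E₈(q)`, `p ∣ q ^ 2 - 1`.** -/
theorem srow_e8_sq (hF : ¬ p ∣ Fintype.card F) (hq : p ∣ Fintype.card F ^ 2 - 1)
    (e : S ≃* ↥(chevE8.group F)) : SRow p S :=
  of_redn hp h5 R (H897.T5UntwRow.e8 hp h5 hq) hF e

/-- **`²E₆(q)`, `p ∣ q ^ 2 - 1`.** -/
theorem srow_twE6_sq {K : Type} [Field K] [Fintype K] {q : ℕ} (hq : IsPrimePow q)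
    (hK : Fintype.card K = q ^ 2) (hpq : ¬ p ∣ q) (h : p ∣ q ^ 2 - 1)
    (e : S ≃* ↥(twistedE6 K q)) : SRow p S := by
  have h' : p ∣ q - 1 ∨ p ∣ q + 1 := by
    have e1 : q ^ 2 - 1 = (q + 1) * (q - 1) := by
      rw [← Nat.sq_sub_sq, one_pow]
    rw [e1] at h
    exact (hp.dvd_mul.1 h).symm
  obtain ⟨F0, _, _, hF0, h1⟩ := H897.T5TwE6.twE6 hq hK hp h5 h'
  exact of_redn hp h5 R h1 (by rwa [hF0]) e

end Red

/-- **`E₈(q)`, `p = 5 ∣ q ^ 2 + 1`.** -/
theorem srow_e8_five (R : PslTwoCross 5) (B : SBox.{u} 5) {S : Type u} [Group S] [Finite S]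
    {F : Type} [Field F] [Fintype F] (hq : 5 ∣ Fintype.card F ^ 2 + 1)
    (e : S ≃* ↥(chevE8.group F)) : SRow 5 S := by
  have h0 := H897.T5E8Row.not_dvd hq
  refine srow_e8_of Nat.prime_five B le_rfl (H897.T5E8Row.spairs_e8 hq (fun K _ _ hK => ?_) e) h0 e
  have h1 : 2 ≤ Fintype.card F := Fintype.one_lt_card
  refine R K ?_ ?_
  · rw [hK]; nlinarith only [h1]
  · rw [hK]; exact fun h => h0 (Nat.prime_five.dvd_of_dvd_pow h)

end Cfsg.Agent.H347.S2274.ExcRed
end

-- part: H406/SRow/Line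
section
/-!
S2274, own characteristic (helper406): the rank one row for the strong pairs.

* `psl2Equiv` : `PSL (2, F)` is the group generated by the root groups of the projective line;
* `sp2_line` : two permutations `f₁`, `f₂` of order `p` of the projective line over a field of characteristic `p`,
  permuting the root groups, are a strong pair for the group generated by the root groups (from the row of `PSL (2, F)`).
-/

set_option autoImplicit false
set_option maxHeartbeats 400000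

namespace Cfsg.Agent.H406.SRow.Line

open Cfsg.Agent.FixBN Cfsg.Agent.FixBN.RankOneL2 Cfsg.Agent.H14.CycLine Cfsg.Agent.H798.T5Line
open Cfsg.Agent.H533.T5
open scoped MatrixGroups

variable {F : Type*} [Field F]

/-- A permutation is determined by its lift. -/
theorem eq_of_lift {c d : Equiv.Perm (Option F)} {φ ψ : F ≃+* F} {T S : (F × F) ≃+ (F × F)} (h1 : Lift c φ T)
    (h2 : Lift d ψ S) (h : ∀ v, T v = S v) : c = d := by
  apply Equiv.ext
  intro y
  obtain ⟨v, hv, rfl⟩ := pt_surj y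
  rw [h1.act v hv, h2.act v hv, h]

theorem det_eq (g : SL(2, F)) : g 0 0 * g 1 1 - g 0 1 * g 1 0 = 1 := by
  have h := g.2
  rw [Matrix.det_fin_two] at h
  exact h

/-- the linear map of a matrix -/
def tg (g : SL(2, F)) : (F × F) ≃ₗ[F] (F × F) where
  toFun v := (g 0 0 * v.1 + g 0 1 * v.2, g 1 0 * v.1 + g 1 1 * v.2)
  invFun v := (g 1 1 * v.1 - g 0 1 * v.2, -(g 1 0 * v.1) + g 0 0 * v.2)
  left_inv v := by
    have h := det_eq g
    refine Prod.ext ?_ ?_
    · show g 1 1 * (g 0 0 * v.1 + g 0 1 * v.2) - g 0 1 * (g 1 0 * v.1 + g 1 1 * v.2) = v.1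
      linear_combination v.1 * h
    · show -(g 1 0 * (g 0 0 * v.1 + g 0 1 * v.2)) + g 0 0 * (g 1 0 * v.1 + g 1 1 * v.2) = v.2
      linear_combination v.2 * h
  right_inv v := by
    have h := det_eq g
    refine Prod.ext ?_ ?_
    · show g 0 0 * (g 1 1 * v.1 - g 0 1 * v.2) + g 0 1 * (-(g 1 0 * v.1) + g 0 0 * v.2) = v.1
      linear_combination v.1 * h
    · show g 1 0 * (g 1 1 * v.1 - g 0 1 * v.2) + g 1 1 * (-(g 1 0 * v.1) + g 0 0 * v.2) = v.2
      linear_combination v.2 * h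
  map_add' v w := by
    refine Prod.ext ?_ ?_
    · show g 0 0 * (v.1 + w.1) + g 0 1 * (v.2 + w.2) = g 0 0 * v.1 + g 0 1 * v.2 + (g 0 0 * w.1 + g 0 1 * w.2)
      ring
    · show g 1 0 * (v.1 + w.1) + g 1 1 * (v.2 + w.2) = g 1 0 * v.1 + g 1 1 * v.2 + (g 1 0 * w.1 + g 1 1 * w.2)
      ring
  map_smul' a v := by
    refine Prod.ext ?_ ?_
    · show g 0 0 * (a * v.1) + g 0 1 * (a * v.2) = a * (g 0 0 * v.1 + g 0 1 * v.2)
      ring
    · show g 1 0 * (a * v.1) + g 1 1 * (a * v.2) = a * (g 1 0 * v.1 + g 1 1 * v.2)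
      ring

theorem tg_apply (g : SL(2, F)) (v : F × F) :
    tg g v = (g 0 0 * v.1 + g 0 1 * v.2, g 1 0 * v.1 + g 1 1 * v.2) := rfl

theorem tg_mul (g h : SL(2, F)) (v : F × F) : tg (g * h) v = tg g (tg h v) := by
  have e : ∀ i j, (g * h) i j = g i 0 * h 0 j + g i 1 * h 1 j := by
    intro i j
    rw [Matrix.SpecialLinearGroup.coe_mul, Matrix.mul_apply, Fin.sum_univ_two]
  rw [tg_apply, tg_apply, tg_apply, e, e, e, e]
  refine Prod.ext ?_ ?_
  · show (g 0 0 * h 0 0 + g 0 1 * h 1 0) * v.1 + (g 0 0 * h 0 1 + g 0 1 * h 1 1) * v.2 =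
      g 0 0 * (h 0 0 * v.1 + h 0 1 * v.2) + g 0 1 * (h 1 0 * v.1 + h 1 1 * v.2)
    ring
  · show (g 1 0 * h 0 0 + g 1 1 * h 1 0) * v.1 + (g 1 0 * h 0 1 + g 1 1 * h 1 1) * v.2 =
      g 1 0 * (h 0 0 * v.1 + h 0 1 * v.2) + g 1 1 * (h 1 0 * v.1 + h 1 1 * v.2)
    ring

theorem om_tg (g : SL(2, F)) : om (tg g (1, 0)) (tg g (0, 1)) = 1 := by
  have h := det_eq g
  show (g 0 0 * 1 + g 0 1 * 0) * (g 1 0 * 0 + g 1 1 * 1) - (g 1 0 * 1 + g 1 1 * 0) * (g 0 0 * 0 + g 0 1 * 1) = 1
  linear_combination h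

/-- the permutation of the projective line -/
noncomputable def rhoFun (g : SL(2, F)) : ↥(psl2 F) :=
  ⟨(exists_of_sl (om_tg g)).choose, (exists_of_sl (om_tg g)).choose_spec.1⟩

theorem rhoFun_lift (g : SL(2, F)) :
    Lift (rhoFun g : Equiv.Perm (Option F)) (RingEquiv.refl F) (tg g).toAddEquiv :=
  (exists_of_sl (om_tg g)).choose_spec.2

/-- The homomorphism. -/
noncomputable def rho : SL(2, F) →* ↥(psl2 F) :=
  MonoidHom.mk' rhoFun fun g h => by
    apply Subtype.ext
    exact eq_of_lift (rhoFun_lift (g * h)) ((rhoFun_lift g).mul (rhoFun_lift h)) fun v => tg_mul g h v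

theorem rho_lift (g : SL(2, F)) :
    Lift (rho g : Equiv.Perm (Option F)) (RingEquiv.refl F) (tg g).toAddEquiv := rhoFun_lift g

theorem rho_surjective : Function.Surjective (rho (F := F)) := by
  rintro ⟨m, hm⟩
  obtain ⟨T, hT, hL⟩ := lift_psl2 hm
  have hdet : (T (1, 0)).1 * (T (0, 1)).2 - (T (1, 0)).2 * (T (0, 1)).1 = 1 := by
    have := hT (1, 0) (0, 1)
    simp only [om] at this
    rw [this]
    ring
  let g : SL(2, F) := ⟨!![(T (1, 0)).1, (T (0, 1)).1; (T (1, 0)).2, (T (0, 1)).2], by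
    rw [Matrix.det_fin_two_of]
    linear_combination hdet⟩
  refine ⟨g, Subtype.ext (eq_of_lift (rho_lift g) hL fun v => ?_)⟩
  have h1 : v = v.1 • ((1, 0) : F × F) + v.2 • ((0, 1) : F × F) := by
    ext <;> simp
  have h2 : T v = v.1 • T (1, 0) + v.2 • T (0, 1) := by
    conv_lhs => rw [h1]
    rw [map_add, hL.semi, hL.semi]
    rfl
  rw [h2]
  refine Prod.ext ?_ ?_
  · show (T (1, 0)).1 * v.1 + (T (0, 1)).1 * v.2 = v.1 * (T (1, 0)).1 + v.2 * (T (0, 1)).1
    ring
  · show (T (1, 0)).2 * v.1 + (T (0, 1)).2 * v.2 = v.1 * (T (1, 0)).2 + v.2 * (T (0, 1)).2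
    ring

theorem rho_ker : (rho (F := F)).ker = Subgroup.center SL(2, F) := by
  ext g
  rw [MonoidHom.mem_ker, Matrix.SpecialLinearGroup.mem_center_iff]
  constructor
  · intro h
    have h1 := rho_lift g
    rw [h] at h1
    obtain ⟨⟨a, -, ha⟩, -⟩ := h1.scalar
    have h10 : tg g (1, 0) = a • ((1, 0) : F × F) := ha (1, 0)
    have h01 : tg g (0, 1) = a • ((0, 1) : F × F) := ha (0, 1)
    rw [tg_apply] at h10 h01
    simp only [mul_one, mul_zero, add_zero, zero_add, Prod.smul_mk, smul_eq_mul, Prod.mk.injEq] at h10 h01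
    have hd := det_eq g
    rw [h10.1, h10.2, h01.1, h01.2] at hd
    refine ⟨a, ?_, ?_⟩
    · rw [Fintype.card_fin]
      linear_combination hd
    · ext i j
      (revert i j; simp only [h10, h01, _root_.Fin.forall_fin_succ, _root_.Matrix.scalar_apply, Fin.isValue, _root_.Fin.succ_zero_eq_one, _root_.IsEmpty.forall_iff, _root_.and_true, _root_.Matrix.diagonal_apply_eq, _root_.ne_eq, _root_.zero_ne_one, _root_.not_false_eq_true, _root_.Matrix.diagonal_apply_ne, _root_.and_self, _root_.Fin.succ_ne_zero])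
  · rintro ⟨r, hr, hg⟩
    have hr0 : r ≠ 0 := by
      rintro rfl
      rw [Fintype.card_fin] at hr
      simp at hr
    have h00 : g 0 0 = r := by rw [← hg]; simp
    have h01 : g 0 1 = 0 := by rw [← hg]; simp
    have h10 : g 1 0 = 0 := by rw [← hg]; simp
    have h11 : g 1 1 = r := by rw [← hg]; simp
    apply Subtype.ext
    apply Equiv.ext
    intro y
    obtain ⟨v, hv, rfl⟩ := pt_surj y
    rw [(rho_lift g).act v hv]
    have h2 : (tg g).toAddEquiv v = r • v := by
      show tg g v = r • v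
      rw [tg_apply, h00, h01, h10, h11]
      refine Prod.ext ?_ ?_
      · show r * v.1 + 0 * v.2 = r * v.1
        ring
      · show 0 * v.1 + r * v.2 = r * v.2
        ring
    rw [h2, pt_smul hr0]
    rfl

/-- **`PSL (2, F)` is the group generated by the root groups of the projective line.** -/
noncomputable def psl2Equiv : Matrix.ProjectiveSpecialLinearGroup (Fin 2) F ≃* ↥(psl2 F) :=
  (QuotientGroup.quotientMulEquivOfEq rho_ker.symm).trans
    (QuotientGroup.quotientKerEquivOfSurjective rho rho_surjective)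

/-- A non-trivial permutation does not centralise the root groups. -/
theorem exists_not_comm {f : Equiv.Perm (Option F)} (n : f ≠ 1) : ∃ r ∈ ⨆ y, lineFam F y, ¬ Commute r f := by
  obtain ⟨y, hy⟩ : ∃ y, f y ≠ y := by
    by_contra hcon
    push Not at hcon
    exact n (Equiv.ext hcon)
  refine ⟨toPt y * tr 1 * (toPt y)⁻¹, Subgroup.mem_iSup_of_mem y (mem_lineFam.2 ⟨1, rfl⟩), fun h => hy ?_⟩
  have h1 : (toPt y * tr 1 * (toPt y)⁻¹ : Equiv.Perm (Option F)) y = y := lineFam_fix (mem_lineFam.2 ⟨1, rfl⟩)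
  have h2 : (toPt y * tr 1 * (toPt y)⁻¹ : Equiv.Perm (Option F)) (f y) = f y := by
    have h3 := congrArg (fun e : Equiv.Perm (Option F) => e y) h.eq
    change (toPt y * tr 1 * (toPt y)⁻¹ : Equiv.Perm (Option F)) (f y) =
      f ((toPt y * tr 1 * (toPt y)⁻¹ : Equiv.Perm (Option F)) y) at h3
    rw [h3, h1]
  have h3 : (tr 1 : Equiv.Perm (Option F)) ((toPt y)⁻¹ (f y)) = (toPt y)⁻¹ (f y) := by
    apply (toPt y).injective
    have h4 : toPt y ((toPt y)⁻¹ (f y)) = f y := (toPt y).apply_symm_apply _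
    rw [h4]
    exact h2
  have h4 : (toPt y)⁻¹ (f y) = none := by
    rcases h5 : (toPt y)⁻¹ (f y) with _ | t
    · rfl
    · exfalso
      rw [h5, tr_some] at h3
      have h6 := Option.some_injective _ h3
      simp at h6
  have h5 : toPt y ((toPt y)⁻¹ (f y)) = f y := (toPt y).apply_symm_apply _
  rw [← h5, h4, toPt_apply]

/-- **The rank one row**, own characteristic. -/
theorem sp2_line {p : ℕ} (hp : p.Prime) (hrow : SRow p (Matrix.ProjectiveSpecialLinearGroup (Fin 2) F))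
    {f₁ f₂ : Equiv.Perm (Option F)}
    (h₁ : f₁ ∈ famStab (lineFam F)) (h₂ : f₂ ∈ famStab (lineFam F)) (o₁ : f₁ ^ p = 1) (o₂ : f₂ ^ p = 1)
    (n₁ : f₁ ≠ 1) (n₂ : f₂ ≠ 1) : SPair p (⨆ y, lineFam F y) f₁ f₂ := by
  have := Fact.mk hp
  have h3 : SRow p ↥(⨆ y, lineFam F y : Subgroup (Equiv.Perm (Option F))) := by
    rw [iSup_lineFam]
    exact Cfsg.Agent.H897.T5Sub.SRow.congr psl2Equiv hrow
  exact Cfsg.Agent.H132.S5.spair_of_simple hp le_rfl h3 (orderOf_eq_prime o₁ n₁) (orderOf_eq_prime o₂ n₂)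
    (famStab_le_normalizer _ h₁) (famStab_le_normalizer _ h₂) (exists_not_comm n₁) (exists_not_comm n₂)

end Cfsg.Agent.H406.SRow.Line
end

-- part: H406/SRow/Pan
section
/-!
S2274, own characteristic (helper406): panels and strong pairs.

* `SP2 p fam` : two permutations of order `p` permuting the family are a strong pair; `SP2.map`, `sp2_pan`;
* `spair_pan`, `spair_of_tp` : a common type.
-/

set_option autoImplicit false
set_option linter.unusedSectionVars false
set_option maxHeartbeats 400000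

namespace Cfsg.Agent.H406.SRow.Pan

open Cfsg Subgroup Cfsg.Agent.LieExceptional.BNPairCore Cfsg.Agent.Tits.Core Cfsg.Agent.Tits.Core.Bldg
  Cfsg.Agent.Tits.OfBN Cfsg.Agent.Schreier.BNSch Cfsg.Agent.Tits.OppRes Cfsg.Agent.FixBN.OfBN
open Cfsg.Agent.FixBN (Sys Split famStab mem_famStab lineFam FieldNode)
open Cfsg.Agent.FixOdd (Tw)
open Cfsg.Agent.H460.Typed Cfsg.Agent.H460.Pan Cfsg.Agent.H460.EllC Cfsg.Agent.H460.PanL
  Cfsg.Agent.H185.TypedTw Cfsg.Agent.H460.EllPan Cfsg.Agent.H460.Engine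
open Cfsg.Agent.H533.T5 Cfsg.Agent.H798.T5Pan

/-- the strong rows of the groups `PSL (2, F)` in characteristic `p` -/
def R2 (p : ℕ) : Prop :=
  ∀ (F : Type) [Field F] [Finite F] [CharP F p], SRow p (Matrix.ProjectiveSpecialLinearGroup (Fin 2) F)

section Row

variable {Om Om' : Type*}

/-- two permutations of order `p` permuting the family are a strong pair -/
def SP2 (p : ℕ) (fam : Om → Subgroup (Equiv.Perm Om)) : Prop :=
  ∀ f₁ ∈ famStab fam, ∀ f₂ ∈ famStab fam, f₁ ^ p = 1 → f₂ ^ p = 1 → f₁ ≠ 1 → f₂ ≠ 1 → SPair p (⨆ y, fam y) f₁ f₂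

theorem SP2.map {p : ℕ} (e : Om ≃ Om') {U : Om → Subgroup (Equiv.Perm Om)}
    {U' : Om' → Subgroup (Equiv.Perm Om')} (hU : ∀ y g, g ∈ U y ↔ e.permCongr g ∈ U' (e y)) (h : SP2 p U) :
    SP2 p U' := by
  set F : Equiv.Perm Om ≃* Equiv.Perm Om' := e.permCongrHom with hF
  have hfa : ∀ g, F g = e.permCongr g := fun g => rfl
  have hcy : ∀ (c : Equiv.Perm Om) y, (F c) (e y) = e (c y) := fun c y => by
    show e (c (e.symm (e y))) = e (c y)
    rw [e.symm_apply_apply]
  have hst : ∀ f, F f ∈ famStab U' → f ∈ famStab U := by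
    intro f hf y g
    have := hf (e y) (F g)
    rwa [hcy, ← map_mul, ← map_inv, ← map_mul, hfa, hfa, ← hU, ← hU] at this
  have hsup : (⨆ y, U y).map F.toMonoidHom ≤ ⨆ y, U' y := by
    rw [Subgroup.map_le_iff_le_comap]
    refine iSup_le fun y g hg => ?_
    rw [Subgroup.mem_comap]
    exact Subgroup.mem_iSup_of_mem (e y) ((hU y g).1 hg)
  intro f₁' h1 f₂' h2 o1 o2 n1 n2
  obtain ⟨f₁, rfl⟩ := F.surjective f₁'
  obtain ⟨f₂, rfl⟩ := F.surjective f₂'
  have hone : ∀ f : Equiv.Perm Om, F f = 1 ↔ f = 1 := fun f => by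
    rw [← map_one F, F.injective.eq_iff]
  have := h f₁ (hst _ h1) f₂ (hst _ h2) (by rwa [← map_pow, hone] at o1) (by rwa [← map_pow, hone] at o2)
    (fun h3 => n1 ((hone _).2 h3)) (fun h3 => n2 ((hone _).2 h3))
  exact (this.of_injective F.toMonoidHom F.injective).mono hsup

end Row

variable {K : Type*} [Group K] [Finite K] {ℓ : ℕ} [Fact ℓ.Prime] {l : ℕ} {M : CoxeterMatrix (Fin l)} {Q : Fin l → ℕ}

/-- the panels over fields, in the defining characteristic -/
theorem sp2_pan (hR : R2 ℓ) (E : Eng ℓ K M Q) {i : Fin l} (h : FNode E.P E.U (E.e i : K) (Q i)) (x : K ⧸ E.P.B) :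
    SP2 ℓ (E.sys.fam i x) := by
  induction x using QuotientGroup.induction_on with
  | _ g =>
  obtain ⟨V, Nd, F, _, _, hQ, ⟨N⟩⟩ := h
  have hch : CharP F ℓ := by
    -- `F` embeds in a group of exponent a power of `ℓ`
    obtain ⟨r, hr⟩ := CharP.exists F
    have hrp : r.Prime := CharP.char_is_prime F r
    have h1 : ∀ (n : ℕ) (a : F), N.x (n • a) = (N.x a) ^ n := by
      intro n a
      induction n with
      | zero => rw [zero_smul, pow_zero]; exact N.x_zero
      | succ n ih => rw [succ_nsmul, N.add, ih, pow_succ]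
    obtain ⟨n, hn⟩ := E.S.isP ⟨N.x 1, N.mem 1⟩
    have h2 : (N.x 1) ^ ℓ ^ n = 1 := by simpa only [_root_.SubmonoidClass.mk_pow, _root_.OneMemClass.coe_one] using congrArg Subtype.val hn
    rw [← h1] at h2
    have h3 : ((ℓ ^ n : ℕ) : F) = 0 := by
      rw [← nsmul_one]
      exact N.ne _ (by rw [h2]; exact one_mem _)
    rw [CharP.cast_eq_zero_iff F r] at h3
    have h4 := (Nat.prime_dvd_prime_iff_eq hrp Fact.out).1 (hrp.dvd_of_dvd_pow h3)
    rwa [← h4]
  exact SP2.map _ (H14.CycNode.iso_mk E.S E.e E.cs E.hcs i Nd N g fun y f => Iff.rfl)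
    (fun f₁ h1 f₂ h2 => Line.sp2_line Fact.out (hR F) h1 h2)

variable {E : Eng ℓ K M Q}

/-- The pairs of an automorphism and its action on the chambers, preserving the set `V` of chambers. -/
def AV (E : Eng ℓ K M Q) (V : Set (K ⧸ E.P.B)) : Subgroup (MulAut K × Equiv.Perm (K ⧸ E.P.B)) where
  carrier := {a | Act E a.1 a.2 ∧ ∀ z, z ∈ V ↔ a.2 z ∈ V}
  one_mem' := ⟨Act.one, fun _ => Iff.rfl⟩
  mul_mem' := fun {a b} ha hb => ⟨ha.1.mul hb.1, fun z => (hb.2 z).trans (ha.2 _)⟩
  inv_mem' := fun {a} ha => ⟨ha.1.inv, fun z => by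
    have h1 := ha.2 (a.2⁻¹ z)
    have h2 : a.2 (a.2⁻¹ z) = z := a.2.apply_symm_apply z
    rw [h2] at h1
    exact h1.symm⟩

/-- the automorphism -/
def piA (E : Eng ℓ K M Q) (V : Set (K ⧸ E.P.B)) : ↥(AV E V) →* MulAut K :=
  (MonoidHom.fst (MulAut K) (Equiv.Perm (K ⧸ E.P.B))).comp (AV E V).subtype

theorem piA_injective (E : Eng ℓ K M Q) (V : Set (K ⧸ E.P.B)) : Function.Injective (piA E V) := by
  rw [injective_iff_map_eq_one]
  rintro ⟨⟨x, θ⟩, h1, h2⟩ hx
  have hx' : x = 1 := hx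
  subst hx'
  have h3 : θ = 1 := h1.eq_one
  subst h3
  rfl

/-- the restriction to `V` -/
def rhoV (E : Eng ℓ K M Q) (V : Set (K ⧸ E.P.B)) : ↥(AV E V) →* Equiv.Perm V where
  toFun a := a.1.2.subtypePerm fun z => (a.2.2 z).symm
  map_one' := by
    ext z
    rfl
  map_mul' a b := by
    ext z
    rfl

/-- **Two automorphisms acting non-trivially on a panel of a common fixed chamber.** -/
theorem spair_pan {x y : MulAut K} {θ η : Equiv.Perm (K ⧸ E.P.B)} (hx : Act E x θ) (hy : Act E y η)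
    (ox : x ^ ℓ = 1) (oy : y ^ ℓ = 1) {c : K ⧸ E.P.B} (hxc : θ c = c) (hyc : η c = c) {i : Fin l}
    (hnx : ∃ z ∈ E.Δ.Pan i c, θ z ≠ z) (hny : ∃ z ∈ E.Δ.Pan i c, η z ≠ z) (hP : SP2 ℓ (E.sys.fam i c)) :
    SPair ℓ (MulAut.conj : K →* MulAut K).range x y := by
  let f₁ : Equiv.Perm (E.Δ.Pan i c) := θ.subtypePerm fun z => (hx.mem_pan hxc i z).symm
  let f₂ : Equiv.Perm (E.Δ.Pan i c) := η.subtypePerm fun z => (hy.mem_pan hyc i z).symm
  have hf₁ : ∀ z, (f₁ z : K ⧸ E.P.B) = θ z := fun z => rfl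
  have hf₂ : ∀ z, (f₂ z : K ⧸ E.P.B) = η z := fun z => rfl
  have o1 : f₁ ^ ℓ = 1 := by
    ext z
    rw [restr_pow hf₁, hx.pow_eq_one ox]
    rfl
  have o2 : f₂ ^ ℓ = 1 := by
    ext z
    rw [restr_pow hf₂, hy.pow_eq_one oy]
    rfl
  have n1 : f₁ ≠ 1 := by
    obtain ⟨z, hz, h⟩ := hnx
    intro h1
    apply h
    have := hf₁ ⟨z, hz⟩
    rw [h1] at this
    exact this.symm
  have n2 : f₂ ≠ 1 := by
    obtain ⟨z, hz, h⟩ := hny
    intro h1
    apply h
    have := hf₂ ⟨z, hz⟩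
    rw [h1] at this
    exact this.symm
  have hpair := hP f₁ (hx.famStab hf₁) f₂ (hy.famStab hf₂) o1 o2 n1 n2
  let V : Set (K ⧸ E.P.B) := E.Δ.Pan i c
  let a : ↥(AV E V) := ⟨(x, θ), hx, fun z => hx.mem_pan hxc i z⟩
  let b : ↥(AV E V) := ⟨(y, η), hy, fun z => hy.mem_pan hyc i z⟩
  let S : Subgroup ↥(AV E V) := (MulAut.conj : K →* MulAut K).range.comap (piA E V)
  have hT : (⨆ z, E.sys.fam i c z) ≤ S.map (rhoV E V) := by
    intro m hm
    obtain ⟨k, hk⟩ := (iSup_le fun z => fam_le_ActG E.sys z) hm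
    have hV : ∀ z, z ∈ V ↔ (MulAction.toPerm k : Equiv.Perm (K ⧸ E.P.B)) z ∈ V := by
      intro z
      constructor
      · intro hz
        have h1 := (m ⟨z, hz⟩).2
        rw [hk] at h1
        exact h1
      · intro hz
        have h1 : m (m⁻¹ ⟨_, hz⟩) = ⟨_, hz⟩ := m.apply_symm_apply _
        have h2 := congrArg Subtype.val h1
        rw [hk] at h2
        have h3 : ((m⁻¹ ⟨_, hz⟩ : E.Δ.Pan i c) : K ⧸ E.P.B) = z := MulAction.injective k h2
        rw [← h3]
        exact (m⁻¹ ⟨_, hz⟩ : E.Δ.Pan i c).2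
    refine ⟨⟨(MulAut.conj k, MulAction.toPerm k), Act.inner k, hV⟩, ⟨k, rfl⟩, ?_⟩
    ext z
    exact (hk z).symm
  have h1 : SPair ℓ S a b := SPair.of_hom Fact.out (rhoV E V) hT hpair
  have h2 := h1.of_injective (piA E V) (piA_injective E V)
  refine h2.mono ?_
  rintro _ ⟨s, hs, rfl⟩
  exact hs

/-- **A common type.** -/
theorem spair_of_tp (hR : R2 ℓ) {i : Fin l} (hF : FNode E.P E.U (E.e i : K) (Q i)) {x y : MulAut K} (hx : TP E x i)
    (hy : TP E y i) (ox : x ^ ℓ = 1) (oy : y ^ ℓ = 1) : SPair ℓ (MulAut.conj : K →* MulAut K).range x y := by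
  obtain ⟨θ, hθ, c, hc, z, hz, hz'⟩ := hx
  obtain ⟨η, hη, d, hd, w, hw, hw'⟩ := hy
  obtain ⟨g, rfl⟩ : ∃ g : K, g • d = c := by
    obtain ⟨a, rfl⟩ := QuotientGroup.mk_surjective c
    obtain ⟨b, rfl⟩ := QuotientGroup.mk_surjective d
    exact ⟨a * b⁻¹, by rw [smul_mk, inv_mul_cancel_right]⟩
  refine SPair.conj_right (s := MulAut.conj g) ⟨g, rfl⟩ ?_
  have h1 : Act E (MulAut.conj g * y * (MulAut.conj g)⁻¹) (MulAction.toPerm g * η * (MulAction.toPerm g)⁻¹) :=
    ((Act.inner g).mul hη).mul (Act.inner g).inv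
  have h2 : ∀ a, (MulAction.toPerm g * η * (MulAction.toPerm g)⁻¹ : Equiv.Perm (K ⧸ E.P.B)) (g • a) = g • η a := by
    intro a
    rw [Equiv.Perm.mul_apply, Equiv.Perm.mul_apply]
    have : (MulAction.toPerm g)⁻¹ (g • a) = a := (MulAction.toPerm g).symm_apply_apply a
    rw [this]
    rfl
  refine spair_pan hθ h1 ox ?_ hc (by rw [h2, hd]) ⟨z, hz, hz'⟩ ⟨g • w, ?_, ?_⟩ (sp2_pan hR E hF _)
  · rw [conj_pow, oy, mul_one, mul_inv_cancel]
  · have h3 := (Act.inner (E := E) g).iso d w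
    rw [E.Δ.Pan_eq_Res, mem_Res] at hw ⊢
    rw [← h3] at hw
    exact hw
  · rw [h2]
    intro h3
    exact hw' (MulAction.injective g h3)

end Cfsg.Agent.H406.SRow.Pan
end

-- part: H406/SRow/Asm
section
/-!
S2274, own characteristic (helper406): assembly.

* `srow_of` : `SRow` from common types for pairs of inner elements, and outer elements of all types.
-/

set_option autoImplicit false
set_option linter.unusedSectionVars false
set_option maxHeartbeats 400000

namespace Cfsg.Agent.H406.SRow.Asm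

open Cfsg CoxeterSystem Cfsg.Agent.ChevalleyStructure.CoxeterGeom Cfsg.Agent.Tits.Roots Cfsg.Agent.Tits.Core
  Cfsg.Agent.Tits.Core.Bldg
  Cfsg.Agent.Tits.OfBN Cfsg.Agent.Schreier.BNSch Cfsg.Agent.Tits.OppRes Cfsg.Agent.FixBN.OfBN
  Cfsg.Agent.Tits.RootComb Cfsg.Agent.Nodes.Comb Cfsg.Agent.Nodes.Reps Cfsg.Agent.Nodes.BNOf
  Cfsg.Agent.Nodes.StabComb Cfsg.Agent.Nodes.Bruhat Cfsg.Agent.Nodes.OppDec Cfsg.Agent.Nodes.LeviDec
  Cfsg.Agent.LieExceptional.BNPairCore
open Cfsg.Agent.H460.Typed Cfsg.Agent.H460.EllC Cfsg.Agent.H460.PanL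
  Cfsg.Agent.H185.TypedTw Cfsg.Agent.H460.EllPan Cfsg.Agent.H460.Engine
open Cfsg.Agent.H533.T5
open Cfsg.Agent.H798.T5Geo Cfsg.Agent.H798.T5Pan Cfsg.Agent.H798.T5Tp Cfsg.Agent.H798.T5Asm
open Cfsg.Agent.H406.SRow.Pan

variable {K : Type*} [Group K] [Finite K] {ℓ : ℕ} [Fact ℓ.Prime] {l : ℕ} {M : CoxeterMatrix (Fin l)} {Q : Fin l → ℕ}
  {A : Fin l → Fin l → ℤ} {h : IsCartan M A} {T : Subgroup K} {n : Fin l → K}
  {X : (Fin l → ℤ) → Subgroup K} [Finite M.Group]

variable (R : RGD M.toCoxeterSystem h ℓ T n X) {E : Eng ℓ K M Q} (hB : E.P.B = RGD.B M.toCoxeterSystem h T X)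
  (he : ∀ i, (E.e i : K) = n i)

include R hB he

/-- a common type -/
theorem spair_of_TP (hR : R2 ℓ) (hF : ∀ i, FNode E.P E.U (E.e i : K) (Q i)) {c d : MulAut K} (hc : c ^ ℓ = 1)
    (hd : d ^ ℓ = 1) {i : Fin l} (hci : TP E c i) (hdi : TP E d i) : SPair ℓ (MulAut.conj : K →* MulAut K).range c d :=
  spair_of_tp hR (hF i) hci hdi hc hd

/-- **The strong row.** -/
theorem srow_of [IsSimpleGroup K] [Nonempty (Fin l)] (hcc : ∃ a b : K, a * b ≠ b * a)
    (hG : GG M.toCoxeterSystem h T X = ⊤) (hR : R2 ℓ)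
    (hF : ∀ i, FNode E.P E.U (E.e i : K) (Q i))
    (hin : ∀ x y : K, x ^ ℓ = 1 → y ^ ℓ = 1 → x ≠ 1 → y ≠ 1 →
      (∃ i, NT M.toCoxeterSystem h X x i ∧ NT M.toCoxeterSystem h X y i) ∨
        SPair ℓ (MulAut.conj : K →* MulAut K).range (MulAut.conj x) (MulAut.conj y))
    (hout : ∀ c : MulAut K, orderOf c = ℓ → (∃ g : K, c = MulAut.conj g) ∨ ∀ i, TP E c i) : SRow ℓ K := by
  obtain ⟨i0⟩ := (inferInstance : Nonempty (Fin l))
  have pw : ∀ {c : MulAut K}, orderOf c = ℓ → c ^ ℓ = 1 := fun {c} hc => by rw [← hc, pow_orderOf_eq_one]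
  have hNT : ∀ x : K, x ^ ℓ = 1 → x ≠ 1 → ∃ i, NT M.toCoxeterSystem h X x i := by
    intro x hx hx1
    refine exists_NT R hG ?_ hx1
    rw [IsPGroup.iff_card]
    refine ⟨1, ?_⟩
    rw [Nat.card_zpowers, pow_one, orderOf_eq_prime hx hx1]
  intro c d hc hd
  rcases hout c hc with hc1 | hc1
  · obtain ⟨x, rfl, hx, hx1⟩ := exists_of_inner hcc hc1 hc
    rcases hout d hd with hd1 | hd1
    · obtain ⟨y, rfl, hy, hy1⟩ := exists_of_inner hcc hd1 hd
      rcases hin x y hx hy hx1 hy1 with ⟨i, h1, h2⟩ | h1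
      · exact spair_of_TP R hB he hR hF (pw hc) (pw hd) (tp_of_NT R hB he h1) (tp_of_NT R hB he h2)
      · exact h1
    · obtain ⟨i, hi⟩ := hNT x hx hx1
      exact spair_of_TP R hB he hR hF (pw hc) (pw hd) (tp_of_NT R hB he hi) (hd1 i)
  · rcases hout d hd with hd1 | hd1
    · obtain ⟨y, rfl, hy, hy1⟩ := exists_of_inner hcc hd1 hd
      obtain ⟨i, hi⟩ := hNT y hy hy1
      exact spair_of_TP R hB he hR hF (pw hc) (pw hd) (hc1 i) (tp_of_NT R hB he hi)
    · exact spair_of_TP R hB he hR hF (pw hc) (pw hd) (hc1 i0) (hd1 i0)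

end Cfsg.Agent.H406.SRow.Asm
end

-- part: H406/SRow/Untw
section
/-!
S2274, own characteristic (helper406): `SRow p S` for `S = G₂(q), F₄(q), E₆(q), E₇(q), E₈(q)`, `p ∣ q`, `p ≥ 5`.
-/

set_option autoImplicit false
set_option linter.unusedSectionVars false
set_option maxHeartbeats 400000

namespace Cfsg.Agent.H406.SRow.Untw

open Matrix CoxeterSystem Cfsg.Agent.ChevalleyStructure.CoxeterGeom Cfsg.Agent.Tits.Roots Cfsg.Agent.Tits.Core
  Cfsg.Agent.Tits.RootComb Cfsg.Agent.Nodes.Comb Cfsg.Agent.Nodes.Reps Cfsg.Agent.Nodes.BNOf Cfsg.Agent.Nodes.BNOf.RGD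
open Cfsg.Agent.Nodes.RGDLib Cfsg.Agent.FixBN Cfsg.Agent.FixBN.FieldRGD Cfsg.Agent.H460.Typed
open Cfsg.Agent.H185.TypedTw (FNode)
open Cfsg.Lie Cfsg.Agent.ChevalleyStructure Cfsg.Agent.ChevalleyStructure.Elts
  Cfsg.Agent.ChevalleyStructure.NPerm Cfsg.Agent.ChevalleyStructure.CoxeterGeomTypes Cfsg.Agent.Nodes.RGDChev
open Cfsg.Agent.KFacts.RgdAut Cfsg.Agent.KFacts.RgdDiag Cfsg.Agent.KFacts.RgdRigid
  Cfsg.Agent.KFacts.RgdField Cfsg.Agent.KFacts.RgdTau Cfsg.Agent.KFacts.RgdChevCoord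
open Cfsg.Agent.KFacts.RgdFilt Cfsg.Agent.KFacts.RgdBorelTits
open Cfsg.Agent.FixBN.ChevGood (isSolvable_T)
open Cfsg.Agent.H533.T5
open Cfsg.Agent.H798.T5Geo Cfsg.Agent.H798.T5Pan Cfsg.Agent.H798.T5Tp Cfsg.Agent.H798.T5Asm Cfsg.Agent.H798.T5Untw
open Cfsg.Agent.H406.SRow.Pan Cfsg.Agent.H406.SRow.Asm
open scoped MatrixGroups

variable {D : ChevalleyDatum} {l : ℕ} {M : CoxeterMatrix (Fin l)}

/-- **The strong row**, one type contained in all `T(x)`. -/
theorem srow_chev (hp : IsType D l M) (K : Type) [Field K] [Finite K] (p : ℕ) [Fact p.Prime] [CharP K p]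
    [IsSimpleGroup ↥(D.group K)] (hc : ∃ a b : ↥(D.group K), a * b ≠ b * a) (hR : R2 p) (hl : 1 ≤ l)
    (hσ : ∀ σ : Equiv.Perm (Fin l), (∀ i j, M (σ i) (σ j) = M i j) → σ ^ p = 1 → σ = 1)
    (hT : ∃ i0, ∀ (x : ↥(D.group K)) (i : Fin l), NT M.toCoxeterSystem hp.isCartan (XX D l K) x i →
      NT M.toCoxeterSystem hp.isCartan (XX D l K) x i0) : SRow p ↥(D.group K) := by
  have hpp : p.Prime := Fact.out
  have hW : Finite M.Group := finite_W hp (M.toCoxeterSystem)
  have R := rgd (K := K) hp M.toCoxeterSystem p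
  have hG1 : RGD.Sup (XX D l K) {x | IsRoot M.toCoxeterSystem hp.isCartan x} = ⊤ := G1_eq_top hp M.toCoxeterSystem
  have hne : Nonempty (Fin l) := ⟨⟨0, hl⟩⟩
  have hconn := KFacts.RgdLieCharP.conn_of_simple R hG1 (KFacts.RgdLieCharP.center_eq_bot hc)
  have C := coords (K := K) hp M.toCoxeterSystem p
  have H := coroots (K := K) hp M.toCoxeterSystem p
  obtain ⟨E, hB, he, hF⟩ := exists_eng_of (Q := fun _ => Nat.card K) R (gen hp M.toCoxeterSystem p) (isSolvable_T K hp)
    (fun i => fnode_chev hp K p i) hl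
  obtain ⟨i0, hi0⟩ := hT
  have hG := KFacts.RgdFilt.GG_eq_top (T := TT D K) hG1
  refine srow_of R hB he hc hG hR hF ?_ ?_
  · intro x y hx hy hx1 hy1
    left
    have hNT : ∀ x : ↥(D.group K), x ^ p = 1 → x ≠ 1 → NT M.toCoxeterSystem hp.isCartan (XX D l K) x i0 := by
      intro x hx hx1
      obtain ⟨i, hi⟩ := exists_NT R hG (c := x) (by
        rw [IsPGroup.iff_card]
        refine ⟨1, ?_⟩
        rw [Nat.card_zpowers, pow_one, orderOf_eq_prime hx hx1]) hx1
      exact hi0 x i hi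
    exact ⟨i0, hNT x hx hx1, hNT y hy hy1⟩
  · intro c hc'
    have hcp : c ^ p = 1 := by rw [← hc', pow_orderOf_eq_one]
    rcases CpAut.RgdConj.inner_or_conj R hG1 C H hconn hσ hcp with h1 | ⟨τ, hτ, hτ1, h1⟩
    · exact Or.inl h1
    · right
      have hstd : ∀ r, IsRoot M.toCoxeterSystem hp.isCartan r → ∀ a,
          CpAut.RgdUntw.fld D τ (xc hp r a) = xc hp r (τ a) := by
        intro r hr a
        obtain ⟨s, hs, rfl⟩ := (isRoot_iff hp M.toCoxeterSystem r).1 hr
        exact CpAut.RgdUntw.fld_xc hp τ hs a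
      have S := CpAut.RgdConj.tau_of_std R hG1 C H hconn hstd
      have hφ : CpAut.RgdUntw.fld D τ ^ p = 1 := by rw [← CpAut.RgdUntw.fld_pow, hτ, CpAut.RgdUntw.fld_one]
      obtain ⟨e, he'⟩ := h1 _ hφ S
      rw [he']
      refine TP.conj_all ?_ e
      exact tp_of_ntau R hB he (F := fun _ => K) (χ := fun i => ch hp (sr i))
        (fun i => C.coord _ (isRoot_sr M.toCoxeterSystem hp.isCartan i)) hσ hφ (τ := fun _ => τ)
        ⟨S.diag, S.char⟩ (fun _ => hτ1)

/-- simply laced types -/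
theorem srow_simply (hp : IsType D l M) (K : Type) [Field K] [Finite K] (p : ℕ) [Fact p.Prime] [CharP K p]
    [IsSimpleGroup ↥(D.group K)] (hc : ∃ a b : ↥(D.group K), a * b ≠ b * a) (hR : R2 p) (hl : 1 ≤ l)
    (hσ : ∀ σ : Equiv.Perm (Fin l), (∀ i j, M (σ i) (σ j) = M i j) → σ ^ p = 1 → σ = 1)
    (hM : ∀ i j, i ≠ j → M i j = 2 ∨ M i j = 3) : SRow p ↥(D.group K) := by
  have hW : Finite M.Group := finite_W hp (M.toCoxeterSystem)
  have R := rgd (K := K) hp M.toCoxeterSystem p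
  have hG1 : RGD.Sup (XX D l K) {x | IsRoot M.toCoxeterSystem hp.isCartan x} = ⊤ := G1_eq_top hp M.toCoxeterSystem
  have hconn := KFacts.RgdLieCharP.conn_of_simple R hG1 (KFacts.RgdLieCharP.center_eq_bot hc)
  exact srow_chev hp K p hc hR hl hσ ⟨⟨0, hl⟩, fun x i hx => nt_all_of_conn R hconn hM hx _⟩

section Rows

variable (p : ℕ) [Fact p.Prime] (h5 : 5 ≤ p) (hR : R2 p) (K : Type) [Field K] [Fintype K] [CharP K p]

include h5 hR

theorem srow_E6 : SRow p ↥(chevE6.group K) := by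
  obtain ⟨hs, hna⟩ := Cfsg.Agent.S1054.result (F := K) chevE6 (by simp)
  exact srow_simply (D := chevE6) (l := 6) (M := CoxeterMatrix.E₆) (by simp [IsType, typeList]) K p (comm_of_not hna)
    hR (by norm_num) (CpAut.RgdUntw.symTwo_E6.eq_one Fact.out (by omega)) lab_E6

theorem srow_E7 : SRow p ↥(chevE7.group K) := by
  obtain ⟨hs, hna⟩ := Cfsg.Agent.S1054.result (F := K) chevE7 (by simp)
  exact srow_simply (D := chevE7) (l := 7) (M := CoxeterMatrix.E₇) (by simp [IsType, typeList]) K p (comm_of_not hna)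
    hR (by norm_num) (CpAut.RgdUntw.symTwo_E7.eq_one Fact.out (by omega)) lab_E7

theorem srow_E8 : SRow p ↥(chevE8.group K) := by
  obtain ⟨hs, hna⟩ := Cfsg.Agent.S1054.result (F := K) chevE8 (by simp)
  exact srow_simply (D := chevE8) (l := 8) (M := CoxeterMatrix.E₈) (by simp [IsType, typeList]) K p (comm_of_not hna)
    hR (by norm_num) (CpAut.RgdUntw.symTwo_E8.eq_one Fact.out (by omega)) lab_E8

theorem srow_F4 : SRow p ↥(chevF4.group K) := by
  obtain ⟨hs, hna⟩ := Cfsg.Agent.S1054.result (F := K) chevF4 (by simp)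
  have hp : IsType chevF4 4 CoxeterMatrix.F₄ := by simp [IsType, typeList]
  have hW : Finite (CoxeterMatrix.F₄).Group := finite_W hp (CoxeterMatrix.F₄).toCoxeterSystem
  have R := rgd (K := K) hp (CoxeterMatrix.F₄).toCoxeterSystem p
  refine srow_chev hp K p (comm_of_not hna) hR (by norm_num)
    (CpAut.RgdUntw.symTwo_F4.eq_one Fact.out (by omega)) ⟨2, fun x i hx => ?_⟩
  have h12 : NT (CoxeterMatrix.F₄).toCoxeterSystem hp.isCartan (XX chevF4 4 K) x 1 →
      NT (CoxeterMatrix.F₄).toCoxeterSystem hp.isCartan (XX chevF4 4 K) x 2 :=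
    Cfsg.Agent.H798.T5Long.nt_long_four (i := 2) (j := 1) (by omega) R (intComm_chev hp K) (by decide) (by decide) (by decide)
      (by decide) (card_chev hp K p 2 1)
  have h01 : NT (CoxeterMatrix.F₄).toCoxeterSystem hp.isCartan (XX chevF4 4 K) x 0 →
      NT (CoxeterMatrix.F₄).toCoxeterSystem hp.isCartan (XX chevF4 4 K) x 1 := Cfsg.Agent.H798.T5Root.NT.of_three R (by decide)
  have h32 : NT (CoxeterMatrix.F₄).toCoxeterSystem hp.isCartan (XX chevF4 4 K) x 3 →
      NT (CoxeterMatrix.F₄).toCoxeterSystem hp.isCartan (XX chevF4 4 K) x 2 := Cfsg.Agent.H798.T5Root.NT.of_three R (by decide)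
  fin_cases i
  · exact h12 (h01 hx)
  · exact h12 hx
  · exact hx
  · exact h32 hx

theorem srow_G2 : SRow p ↥(chevG2.group K) := by
  obtain ⟨hs, hna⟩ := Cfsg.Agent.S1055.result (F := K) (CpAut.RgdUntw.exists_ne p Fact.out (by omega) K)
  have hp : IsType chevG2 2 CoxeterMatrix.G₂ := by simp [IsType, typeList]
  have hW : Finite (CoxeterMatrix.G₂).Group := finite_W hp (CoxeterMatrix.G₂).toCoxeterSystem
  have R := rgd (K := K) hp (CoxeterMatrix.G₂).toCoxeterSystem p
  refine srow_chev hp K p (comm_of_not hna) hR (by norm_num)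
    (CpAut.RgdUntw.symTwo_G2.eq_one Fact.out (by omega)) ⟨1, fun x i hx => ?_⟩
  fin_cases i
  · exact Cfsg.Agent.H798.T5Long.nt_long_six (i := 1) (j := 0) h5 R ⟨by decide, by decide, by decide, intComm_chev hp K⟩ (by decide)
      (card_chev hp K p 1 0) hx
  · exact hx

end Rows

section Final

variable {p : ℕ} (hp : p.Prime) (h5 : 5 ≤ p) (hR : R2 p) {F : Type} [Field F] [Fintype F]
  (hd : p ∣ Fintype.card F) {S : Type*} [Group S]

include hp h5 hR hd

theorem srow_own_E6 (e : S ≃* ↥(chevE6.group F)) : SRow p S := by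
  have := Fact.mk hp
  have := H132.S5.charP_of_dvd hp hd
  exact H897.T5Sub.SRow.congr e.symm (srow_E6 p h5 hR F)

theorem srow_own_E7 (e : S ≃* ↥(chevE7.group F)) : SRow p S := by
  have := Fact.mk hp
  have := H132.S5.charP_of_dvd hp hd
  exact H897.T5Sub.SRow.congr e.symm (srow_E7 p h5 hR F)

theorem srow_own_E8 (e : S ≃* ↥(chevE8.group F)) : SRow p S := by
  have := Fact.mk hp
  have := H132.S5.charP_of_dvd hp hd
  exact H897.T5Sub.SRow.congr e.symm (srow_E8 p h5 hR F)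

theorem srow_own_F4 (e : S ≃* ↥(chevF4.group F)) : SRow p S := by
  have := Fact.mk hp
  have := H132.S5.charP_of_dvd hp hd
  exact H897.T5Sub.SRow.congr e.symm (srow_F4 p h5 hR F)

theorem srow_own_G2 (e : S ≃* ↥(chevG2.group F)) : SRow p S := by
  have := Fact.mk hp
  have := H132.S5.charP_of_dvd hp hd
  exact H897.T5Sub.SRow.congr e.symm (srow_G2 p h5 hR F)

end Final

end Cfsg.Agent.H406.SRow.Untw
end

-- part: H823/S5/TwF
section
/-!
# S2274, task 3622: the strong rows of `²F₄(q)`, `q ≥ 8`, and of the Tits group (helper823)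

* `spair_of_twin` : two commuting isomorphic simple subgroups `L`, `M` which meet trivially, `L ^ g ≤ M`, `L M` of index
  prime to `p`;
* `inner_twF4`, `srow_twF4`, `srow_tits`.
-/

set_option autoImplicit false

universe u

namespace Cfsg.Agent.H823.S5

open Subgroup Cfsg Cfsg.Agent.H533.T5 Cfsg.Agent.H957.T5M Cfsg.Agent.H106.MB Cfsg.Agent.H106.MT Cfsg.Agent.H132.S5

section twin

variable {S : Type*} [Group S] {p : ℕ}

/-- the product of two commuting subgroups -/
def mulHom {L M : Subgroup S} (h : ∀ l ∈ L, ∀ m ∈ M, l * m = m * l) : L × M →* S where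
  toFun a := (a.1 : S) * (a.2 : S)
  map_one' := by simp only [_root_.Prod.fst_one, _root_.OneMemClass.coe_one, _root_.Prod.snd_one, _root_.mul_one]
  map_mul' := by
    rintro ⟨⟨a, ha⟩, ⟨b, hb⟩⟩ ⟨⟨c, hc⟩, ⟨d, hd⟩⟩
    show (a * c) * (b * d) = (a * b) * (c * d)
    have h1 := h c hc b hb
    calc (a * c) * (b * d) = a * (c * b) * d := by group
      _ = a * (b * c) * d := by rw [h1]
      _ = (a * b) * (c * d) := by group

theorem mulHom_injective {L M : Subgroup S} (h : ∀ l ∈ L, ∀ m ∈ M, l * m = m * l)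
    (hinf : ∀ x ∈ L, x ∈ M → x = 1) : Function.Injective (mulHom h) := by
  rw [injective_iff_map_eq_one]
  rintro ⟨⟨a, ha⟩, ⟨b, hb⟩⟩ hab
  have h1 : a * b = 1 := hab
  have h2 : a = b⁻¹ := eq_inv_of_mul_eq_one_left h1
  have h3 : a = 1 := hinf a ha (by rw [h2]; exact M.inv_mem hb)
  have h4 : b = 1 := by rw [h3, one_mul] at h1; exact h1
  subst h3
  subst h4
  rfl

/-- **Twins.** -/
theorem spair_of_twin [Finite S] [hp : Fact p.Prime] {L M : Subgroup S} (g : S)
    (hg : ∀ l ∈ L, g * l * g⁻¹ ∈ M) (hLM : ∀ l ∈ L, ∀ m ∈ M, l * m = m * l)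
    (hinf : ∀ x ∈ L, x ∈ M → x = 1) [IsSimpleGroup ↥M] (hna : ¬ IsMulCommutative ↥M)
    (hrow : SRow p ↥M) (hcard : Nat.card L = Nat.card M)
    (hfac : (Nat.card S).factorization p ≤ 2 * (Nat.card L).factorization p)
    {x y : S} (hx : orderOf x = p) (hy : orderOf y = p) : SPair p (⊤ : Subgroup S) x y := by
  have hinj := mulHom_injective hLM hinf
  have hM0 : Nat.card M ≠ 0 := Nat.card_pos.ne'
  have hrc : Nat.card (mulHom hLM).range = Nat.card M * Nat.card M := by
    rw [← Nat.card_congr (MonoidHom.ofInjective hinj).toEquiv, Nat.card_prod, hcard]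
  have hidx : ¬ p ∣ (mulHom hLM).range.index := by
    intro hd
    have h1 := (mulHom hLM).range.card_mul_index
    have hi0 : (mulHom hLM).range.index ≠ 0 := Subgroup.index_ne_zero_of_finite
    have h2 : (Nat.card S).factorization p =
        (Nat.card M).factorization p + (Nat.card M).factorization p + ((mulHom hLM).range.index).factorization p := by
      rw [← h1, hrc, Nat.factorization_mul (mul_ne_zero hM0 hM0) hi0, Nat.factorization_mul hM0 hM0]
      rfl
    have h3 : 0 < ((mulHom hLM).range.index).factorization p := hp.out.factorization_pos_of_dvd hi0 hd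
    rw [hcard] at hfac
    omega
  -- conjugates with non-trivial second component
  have key : ∀ z : S, orderOf z = p → ∃ (a : L × M) (s : S), mulHom hLM a = s * z * s⁻¹ ∧ orderOf a.2 = p := by
    intro z hz
    obtain ⟨s, hs⟩ := H132.S5.exists_conj_mem_of_index hidx hz
    obtain ⟨⟨a, b⟩, hab⟩ := hs
    have hord : ∀ (w : L × M), orderOf (mulHom hLM w) = p → w.2 ≠ 1 → orderOf w.2 = p := by
      intro w hw hw1
      have h1 : orderOf w = p := by rw [← orderOf_injective _ hinj, hw]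
      have h2 : orderOf w.2 ∣ p := by
        rw [← h1]
        exact orderOf_map_dvd (MonoidHom.snd L M) w
      rcases (Nat.dvd_prime hp.out).1 h2 with h3 | h3
      · exact absurd (orderOf_eq_one_iff.1 h3) hw1
      · exact h3
    have hsz : orderOf (s * z * s⁻¹) = p := by rw [orderOf_cj, hz]
    by_cases hb : b = 1
    · -- `z` is conjugate into `L`
      subst hb
      have h1 : (a : S) = s * z * s⁻¹ := by
        rw [← hab]
        show (a : S) = (a : S) * ((1 : M) : S)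
        rw [Subgroup.coe_one, mul_one]
      have h2 : mulHom hLM (1, ⟨g * (a : S) * g⁻¹, hg a a.2⟩) = (g * s) * z * (g * s)⁻¹ := by
        show ((1 : L) : S) * (g * (a : S) * g⁻¹) = _
        rw [Subgroup.coe_one, one_mul, h1]
        group
      refine ⟨(1, ⟨g * (a : S) * g⁻¹, hg a a.2⟩), g * s, h2, ?_⟩
      refine hord _ (by rw [h2, orderOf_cj, hz]) ?_
      intro h3
      have h4 : g * (a : S) * g⁻¹ = 1 := congrArg Subtype.val h3
      have h5 : (a : S) = 1 := by
        have h6 : (a : S) = g⁻¹ * (g * (a : S) * g⁻¹) * g := by group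
        rw [h6, h4]
        group
      rw [h1] at h5
      rw [h5, orderOf_one] at hsz
      exact hp.out.one_lt.ne hsz
    · exact ⟨(a, b), s, hab, hord _ (by rw [hab, hsz]) hb⟩
  obtain ⟨a, s, ha, ha2⟩ := key x hx
  obtain ⟨b, t, hb, hb2⟩ := key y hy
  have h1 : SPair p (⊤ : Subgroup (L × M)) a b := by
    refine SPair.of_hom hp.out (MonoidHom.snd L M) ?_ (hrow.pair hp.out hna (a := a.2) (b := b.2) ha2 hb2)
    intro m _
    exact ⟨(1, m), Subgroup.mem_top _, rfl⟩
  exact spair_of_embedding' (mulHom hLM) hinj h1 ha hb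

end twin

section rows

open Cfsg.Agent.KFacts.TwF4 Cfsg.Agent.ChevalleyStructure.TwF4.TwistedFix Cfsg.Agent.H240.BalTwF
open Cfsg.Agent.KFacts.TwF4.Irr Cfsg.Agent.CpAutTwF.Cent Cfsg.Agent.CpAutTwF.Pair Cfsg.Agent.H772.TF
open Cfsg.Agent.H496.TwFRad.Levi Cfsg.Agent.H496.TwEight.PLFacts

theorem na_of_simple_card {M : Type*} [Group M] [Finite M] [IsSimpleGroup M] {a b : ℕ} (ha : 1 < a) (hb : 1 < b)
    (h : Nat.card M = a * b) : ¬ IsMulCommutative M := by
  intro hc
  have h1 : (Nat.card M).Prime := by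
    let _ : CommGroup M := { (inferInstance : Group M) with mul_comm := fun x y => hc.is_comm.comm x y }
    exact IsSimpleGroup.prime_card
  rw [h] at h1
  exact Nat.not_prime_mul ha.ne' hb.ne' h1

theorem row_of_below {p n : ℕ} (hlt : SBelow.{u} p n) {M : Type} [Group M] [Finite M] (hs : IsSimpleGroup M)
    (hna : ¬ IsMulCommutative M) (hc : Nat.card M < n) : SRow p M := by
  have e : ULift.{u} M ≃* M := MulEquiv.ulift
  have h1 : IsSimpleGroup (ULift.{u} M) := e.isSimpleGroup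
  have h2 : Nat.card (ULift.{u} M) = Nat.card M := Nat.card_congr e.toEquiv
  refine H897.T5Sub.SRow.congr e (hlt (ULift.{u} M) h1 ?_ (by rw [h2]; exact hc))
  intro h3
  refine hna ⟨⟨fun a b => e.symm.injective ?_⟩⟩
  rw [map_mul, map_mul]
  exact h3.is_comm.comm _ _

/-- **The pairs of elements of order `p` of `²F₄(q)`.** -/
theorem inner_twF4 {p : ℕ} (hp : p.Prime) (h5 : 5 ≤ p) (B : SBox.{u} p) {S : Type u} [Group S] [Finite S]
    [IsSimpleGroup S] (hna : ¬ IsMulCommutative S) (hlt : SBelow.{u} p (Nat.card S)) {K : Type} [Field K] [Fintype K]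
    {m : ℕ} (hm : 1 ≤ m) (hK : Fintype.card K = 2 ^ (2 * m + 1)) (e : S ≃* ↥(Lie.twistedF4 K (2 ^ m))) {x y : S}
    (hx : orderOf x = p) (hy : orderOf y = p) : SPair p (⊤ : Subgroup S) x y := by
  have hpf : Fact p.Prime := ⟨hp⟩
  have hch := Cfsg.Agent.ChevalleyStructure.TwF4.Twisted.charP_two hK
  have hfin := H42.Tw.finite_tw (K := K) (2 ^ m)
  have hF := H42.Tw.exists_unit hm hK
  obtain ⟨φ, hφ⟩ := exists_rln hK
  have hcK : Nat.card K = 2 ^ (2 * m + 1) := by rw [Nat.card_eq_fintype_card, hK]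
  have h8 : 8 ≤ 2 ^ (2 * m + 1) := by
    calc 8 = 2 ^ 3 := by norm_num
      _ ≤ 2 ^ (2 * m + 1) := Nat.pow_le_pow_right (by norm_num) (by omega)
  have hp2 : p ≠ 2 := by omega
  have hcard : Nat.card ↥(Lie.twistedF4 K (2 ^ m)) = H42.Tw.ord (Nat.card K) := by
    rw [hcK]; exact Cfsg.Agent.S1068.result hK
  have hcS : Nat.card S = H42.Tw.ord (Nat.card K) := by rw [Nat.card_congr e.toEquiv, hcard]
  have hd : p ∣ H42.Tw.ord (2 ^ (2 * m + 1)) := by
    rw [← hcK, ← hcS, ← hx]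
    exact _root_.orderOf_dvd_natCard x
  have hpq : ¬ p ∣ 2 ^ (2 * m + 1) := by
    intro h
    exact hp2 ((Nat.prime_dvd_prime_iff_eq hp Nat.prime_two).1 (hp.dvd_of_dvd_pow h))
  -- transport
  have trans : (∀ a b : ↥(Lie.twistedF4 K (2 ^ m)), orderOf a = p → orderOf b = p →
      SPair p (⊤ : Subgroup ↥(Lie.twistedF4 K (2 ^ m))) a b) → SPair p (⊤ : Subgroup S) x y := by
    intro h
    refine SPair.of_hom hp e.toMonoidHom ?_ (h (e x) (e y) (by rw [MulEquiv.orderOf_eq, hx])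
      (by rw [MulEquiv.orderOf_eq, hy]))
    intro a _
    exact ⟨e.symm a, Subgroup.mem_top _, e.apply_symm_apply a⟩
  -- the cyclic case
  have cyc : (∀ {P : Subgroup ↥(Lie.twistedF4 K (2 ^ m))}, IsPGroup p P → IsCyclic P) →
      SPair p (⊤ : Subgroup S) x y := by
    intro h
    obtain ⟨P⟩ : Nonempty (Sylow p S) := inferInstance
    have h1 : IsCyclic ↥((P : Subgroup S).map e.toMonoidHom) := h (P.2.map e.toMonoidHom)
    have h2 : IsCyclic ↥(P : Subgroup S) :=
      isCyclic_of_injective ((P : Subgroup S).equivMapOfInjective e.toMonoidHom e.injective).toMonoidHom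
        ((P : Subgroup S).equivMapOfInjective e.toMonoidHom e.injective).injective
    exact spair_of_cyclic B.aa B.rs hna P h2 hx hy
  -- the case of `L4`
  have sz : (p ∣ Nat.card K - 1 ∨ p ∣ Nat.card K ^ 2 + 1) → SPair p (⊤ : Subgroup S) x y := by
    intro h
    apply trans
    intro a b ha hb
    have hs := simple_M4 (Inst.full hK hφ) hm hcK
    have hc4 : Nat.card (M4 (Inst.full hK hφ)) =
        (Nat.card K * Nat.card K * (Nat.card K - 1)) * (Nat.card K * Nat.card K + 1) := by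
      rw [card_M4, card_L4 _ hF]
    have hna4 : ¬ IsMulCommutative (M4 (Inst.full hK hφ)) := by
      refine na_of_simple_card ?_ ?_ hc4
      · rw [hcK]
        obtain ⟨r, hr⟩ : ∃ r, 2 ^ (2 * m + 1) = r + 8 := ⟨2 ^ (2 * m + 1) - 8, by omega⟩
        rw [hr, show r + 8 - 1 = r + 7 by omega]
        linarith only [Nat.zero_le (r * r * r), _root_.mul_self_nonneg (↑r : ℤ), _root_.Nat.cast_nonneg (α := ℤ) (r)]
      · rw [hcK]
        nlinarith only [h8]
    have hlt4 : Nat.card (M4 (Inst.full hK hφ)) < Nat.card S := by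
      rw [hc4, hcS, hcK]
      unfold H42.Tw.ord
      obtain ⟨r, hr⟩ : ∃ r, 2 ^ (2 * m + 1) = r + 8 := ⟨2 ^ (2 * m + 1) - 8, by omega⟩
      obtain ⟨q, hq⟩ : ∃ q, q = 2 ^ (2 * m + 1) := ⟨_, rfl⟩
      rw [← hq] at h8 ⊢
      have e1 : q * q * (q - 1) ≤ q ^ 12 * (q - 1) := by
        refine Nat.mul_le_mul_right _ ?_
        rw [← pow_two]
        exact Nat.pow_le_pow_right (by omega) (by norm_num)
      have e2 : 1 < q ^ 3 + 1 := by
        have := Nat.pos_of_ne_zero (pow_ne_zero 3 (by omega : q ≠ 0))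
        omega
      have e3 : 0 < q ^ 4 - 1 := by
        have : 1 < q ^ 4 := Nat.one_lt_pow (by norm_num) (by omega)
        omega
      have e4 : q * q + 1 ≤ q ^ 6 + 1 := by
        have : q ^ 2 ≤ q ^ 6 := Nat.pow_le_pow_right (by omega) (by norm_num)
        linarith only [this]
      have e5 : 0 < q * q * (q - 1) := by
        refine Nat.mul_pos (Nat.mul_pos (by omega) (by omega)) (by omega)
      calc q * q * (q - 1) * (q * q + 1) ≤ q ^ 12 * (q - 1) * (q ^ 6 + 1) := Nat.mul_le_mul e1 e4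
        _ < q ^ 12 * (q - 1) * (q ^ 6 + 1) * ((q ^ 3 + 1) * (q ^ 4 - 1)) := by
            refine (Nat.lt_mul_iff_one_lt_right ?_).2 ?_
            · exact Nat.mul_pos (lt_of_lt_of_le e5 e1) (by omega)
            · calc 1 < q ^ 3 + 1 := e2
                _ ≤ (q ^ 3 + 1) * (q ^ 4 - 1) := Nat.le_mul_of_pos_right _ e3
        _ = _ := by ring
    have hfac := fact_L4 (Inst.full hK hφ) hm hcK hcard hp2 h
    refine spair_of_twin ((Inst.full hK hφ).rot ^ (2 : ℤ)) (L := L4 (Inst.full hK hφ)) (M := M4 (Inst.full hK hφ))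
      (fun l hl => ?_) (fun l hl m hm => L4_comm_M4 _ hl hm) (fun z h1 h2 => inf_one _ hF h1 h2) hna4
      (row_of_below hlt hs hna4 hlt4) (card_M4 _).symm hfac.le ha hb
    rw [← map_L4]
    exact ⟨l, hl, rfl⟩
  -- the case of `LO`
  have sl : p ∣ Nat.card K + 1 → SPair p (⊤ : Subgroup S) x y := by
    intro h
    apply trans
    intro a b ha hb
    have hs := simple_M5 (Inst.full hK hφ) (by omega)
    have hc5 : Nat.card (M5 (Inst.full hK hφ)) = (Nat.card K * (Nat.card K - 1)) * (Nat.card K + 1) := by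
      rw [card_M5, H42.Deg.F4.card_LO, Nat.card_units]
    have hna5 : ¬ IsMulCommutative (M5 (Inst.full hK hφ)) := by
      refine na_of_simple_card ?_ ?_ hc5
      · rw [hcK]
        obtain ⟨r, hr⟩ : ∃ r, 2 ^ (2 * m + 1) = r + 8 := ⟨2 ^ (2 * m + 1) - 8, by omega⟩
        rw [hr, show r + 8 - 1 = r + 7 by omega]
        linarith only [_root_.mul_self_nonneg (↑r : ℤ), _root_.Nat.cast_nonneg (α := ℤ) (r)]
      · rw [hcK]
        omega
    have hlt5 : Nat.card (M5 (Inst.full hK hφ)) < Nat.card S := by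
      rw [hc5, hcS, hcK]
      unfold H42.Tw.ord
      obtain ⟨q, hq⟩ : ∃ q, q = 2 ^ (2 * m + 1) := ⟨_, rfl⟩
      rw [← hq] at h8 ⊢
      have e1 : q * (q - 1) ≤ q ^ 12 * (q - 1) := by
        refine Nat.mul_le_mul_right _ ?_
        calc q = q ^ 1 := (pow_one q).symm
          _ ≤ q ^ 12 := Nat.pow_le_pow_right (by omega) (by norm_num)
      have e2 : 1 < q ^ 3 + 1 := by
        have := Nat.pos_of_ne_zero (pow_ne_zero 3 (by omega : q ≠ 0))
        omega
      have e3 : 0 < q ^ 4 - 1 := by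
        have : 1 < q ^ 4 := Nat.one_lt_pow (by norm_num) (by omega)
        omega
      have e4 : q + 1 ≤ q ^ 6 + 1 := by
        have : q ^ 1 ≤ q ^ 6 := Nat.pow_le_pow_right (by omega) (by norm_num)
        rw [pow_one] at this
        omega
      have e5 : 0 < q * (q - 1) := by
        refine Nat.mul_pos (by omega) (by omega)
      calc q * (q - 1) * (q + 1) ≤ q ^ 12 * (q - 1) * (q ^ 6 + 1) := Nat.mul_le_mul e1 e4
        _ < q ^ 12 * (q - 1) * (q ^ 6 + 1) * ((q ^ 3 + 1) * (q ^ 4 - 1)) := by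
            refine (Nat.lt_mul_iff_one_lt_right ?_).2 ?_
            · exact Nat.mul_pos (lt_of_lt_of_le e5 e1) (by omega)
            · calc 1 < q ^ 3 + 1 := e2
                _ ≤ (q ^ 3 + 1) * (q ^ 4 - 1) := Nat.le_mul_of_pos_right _ e3
        _ = _ := by ring
    have hfac : (Nat.card ↥(Lie.twistedF4 K (2 ^ m))).factorization p ≤
        2 * (Nat.card (Inst.full hK hφ).LO).factorization p := by
      rw [hcard, H42.Tw.fact_plus h5 (by omega) h]
      refine Nat.mul_le_mul_left 2 ?_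
      have hd : Nat.card K + 1 ∣ Nat.card (Inst.full hK hφ).LO := by
        rw [Cfsg.Agent.H42.Deg.F4.card_LO]
        exact dvd_mul_left _ _
      exact (Nat.factorization_le_iff_dvd (by omega) Nat.card_pos.ne').2 hd p
    exact spair_of_twin ((Inst.full hK hφ).rot ^ (2 : ℤ)) (L := (Inst.full hK hφ).LO) (M := M5 (Inst.full hK hφ))
      (fun l hl => ck_LO _ hl) (fun l hl m hm => comm_M5 _ hl hm) (fun z h1 h2 => LO_inf_M5 _ (by omega) h1 h2) hna5
      (row_of_below hlt hs hna5 hlt5) (card_M5 _).symm hfac ha hb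
  rcases H42.Tw.cases_ord (by omega) hpq hd with h | h | h | h | h
  · exact sz (Or.inl (by rw [hcK]; exact h))
  · exact sl (by rw [hcK]; exact h)
  · exact sz (Or.inr (by rw [hcK]; exact h))
  · exact cyc fun hP => H42.Tw.cyclic_twF4' hK h5 (Or.inl h) hP
  · exact cyc fun hP => H42.Tw.cyclic_twF4' hK h5 (Or.inr h) hP

/-- **The strong row of `²F₄(q)`, `q ≥ 8`.** -/
theorem srow_twF4 {p : ℕ} (hp : p.Prime) (h5 : 5 ≤ p) (B : SBox.{u} p) {S : Type u} [Group S] [Finite S]
    [IsSimpleGroup S] (hna : ¬ IsMulCommutative S) (hlt : SBelow.{u} p (Nat.card S)) {K : Type} [Field K] [Fintype K]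
    {m : ℕ} (hm : 1 ≤ m) (hK : Fintype.card K = 2 ^ (2 * m + 1)) (e : S ≃* ↥(Lie.twistedF4 K (2 ^ m))) :
    SRow p S :=
  srow_of_ok B.aa B.rs hp hna (H28.T5TwF.outerOk_twF4 hm hK hp h5 e) (H28.T5TwF.homOk_twF4 hm hK hp h5 e)
    fun _ _ hx hy => inner_twF4 hp h5 B hna hlt hm hK e hx hy

theorem nd_of_seven {p : ℕ} (hp : p.Prime) (h7 : 7 ≤ p) : ¬ p ∣ 2 ^ 11 * 3 ^ 3 * 5 ^ 2 := by
  intro h
  have h2 : (p ∣ 2 ∨ p ∣ 3) ∨ p ∣ 5 := by
    rcases hp.dvd_mul.1 h with h | h
    · rcases hp.dvd_mul.1 h with h | h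
      · exact Or.inl (Or.inl (hp.dvd_of_dvd_pow h))
      · exact Or.inl (Or.inr (hp.dvd_of_dvd_pow h))
    · exact Or.inr (hp.dvd_of_dvd_pow h)
  rcases h2 with (h | h) | h
  · have := Nat.le_of_dvd (by norm_num) h
    omega
  · have := Nat.le_of_dvd (by norm_num) h
    omega
  · have := Nat.le_of_dvd (by norm_num) h
    omega

/-- **The strong row of the Tits group.** -/
theorem srow_tits {p : ℕ} (hp : p.Prime) (h5 : 5 ≤ p) (B : SBox.{u} p) {S : Type u} [Group S] [Finite S]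
    [IsSimpleGroup S] (hna : ¬ IsMulCommutative S) (h : Lie.IsoTits S) : SRow p S := by
  have hpf : Fact p.Prime := ⟨hp⟩
  refine SRow.of_inner hna (fun a ha => H143.T5FiTits.inner_range (Or.inr h) hp h5 a ha) ?_
  intro x y hx hy
  by_cases hp5 : p = 5
  · subst hp5
    have hxy := (H235.TitsRow.facts h).one x y hx hy
    obtain ⟨c, hc⟩ := isConj_iff.1 hxy.symm
    exact SPair.mk' hp (apair_of_isConj_zpow B.rs hp hna hx (s := c) (j := 1) (by rw [zpow_one, hc]))
      (bpair_of_isConj B.aa hp hna hx hxy)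
  · refine spair_of_not_sq_dvd B.aa B.rs hna ?_ hx hy
    obtain ⟨e⟩ := h
    rw [Nat.card_congr e.toEquiv, Agent.Omega.TitsIso.TitsSide.facts.2.2,
      show 17971200 = 2 ^ 11 * 3 ^ 3 * 5 ^ 2 * 13 by norm_num]
    intro h1
    have h7 : 7 ≤ p := by
      by_contra h7
      have h8 : p = 6 := by omega
      subst h8
      revert hp; norm_num
    have h3 : (p ^ 2).Coprime (2 ^ 11 * 3 ^ 3 * 5 ^ 2) :=
      Nat.Coprime.pow_left 2 ((Nat.Prime.coprime_iff_not_dvd hp).2 (nd_of_seven hp h7))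
    have h4 := h3.dvd_of_dvd_mul_left h1
    have h5 := Nat.le_of_dvd (by norm_num) h4
    nlinarith only [h7, h5]

end rows

end Cfsg.Agent.H823.S5
end

-- part: H951/S5/TwE
section
/-!
# `²E₆(q)` in its own characteristic: the strong row (S2274, O6)

* `spair_of_NT` : elements of order `p` acting non-trivially on panels of the types `1`, `2` (either of them) form a
  strong pair, given the strong rows of the smaller simple groups (section of the Levi subgroup of the nodes `1`, `2`);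
* `srow_E6`, `srow_twE6_own` : the strong row.
-/

set_option autoImplicit false
set_option linter.unusedSectionVars false
set_option maxHeartbeats 400000

universe u

namespace Cfsg.Agent.H951.S5.TwE

open CoxeterSystem Cfsg.Agent.ChevalleyStructure.CoxeterGeom Cfsg.Agent.Tits.Roots Cfsg.Agent.Tits.Core
  Cfsg.Agent.Tits.RootComb Cfsg.Agent.Nodes.Comb Cfsg.Agent.Nodes.Reps Cfsg.Agent.Nodes.BNOf
  Cfsg.Agent.Nodes.RGDTwE6 Cfsg.Agent.Nodes.RGDLib Cfsg.Agent.Nodes.SubComb Cfsg.Agent.Nodes.Sub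
  Cfsg.Agent.Nodes.Bruhat Cfsg.Agent.Nodes.StabComb
open Cfsg.Lie Cfsg.Agent.ChevalleyStructure Cfsg.Agent.GenExc Cfsg.Agent.GenExc.TwE
open Cfsg.Agent.UGT.U2.FOne.TwESix
open Cfsg.Agent.H798.T5Geo Cfsg.Agent.H533.T5 Cfsg.Agent.H862.T5.LevPair Cfsg.Agent.H862.T5.E6Pair
open Cfsg.Agent.H132.S5

section Levi

variable {K : Type} [Field K] [Fintype K] {q : ℕ} {φ : K →+* K} (hφ : ∀ x, φ x = x ^ q)
  (hK : Fintype.card K = q ^ 2) {W : Type*} [Group W] (cs : CoxeterSystem CoxeterMatrix.F₄ W)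

include hφ hK in
/-- **Pairs of elements acting on panels of the middle types**, `p ≥ 5`. -/
theorem spair_of_NT {p : ℕ} [Fact p.Prime] [CharP K p] (hp5 : 5 ≤ p)
    (hlt : SBelow.{u} p (Nat.card ↥(twistedE6 K q)))
    {c d : ↥(twistedE6 K q)} (hcp : orderOf c = p) (hdp : orderOf d = p) {i j : Fin 2}
    (hc : NT cs isCartan (X φ q) c (f2 i)) (hd : NT cs isCartan (X φ q) d (f2 j)) :
    SPair p (⊤ : Subgroup ↥(twistedE6 K q)) c d := by
  have hqq := frob_two hK
  have hW : Finite W := Cfsg.Agent.KFacts.TwESix.Comb.finiteW cs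
  have hq3 : 3 ≤ q := by
    have := le_q hK hp5
    omega
  have R := rgd cs hφ hqq p
  refine spair_of_levi f2 R (nn_mem_HL hφ hqq cs f2) sub2.conn' (fun a ha b hb => comm_T ha hb)
    (perf hφ hqq sub2 cs hq3 hK perf2) ?_ hcp hdp hc hd
  have hqs := sub2.isQuasisimple hφ hqq cs p hq3 hK perf2
  have hcard := card_lt f2 R (k := 0) (by decide)
  set S := ↥(HL cs isCartan (X φ q) f2) ⧸ Subgroup.center ↥(HL cs isCartan (X φ q) f2) with hS
  have hs : IsSimpleGroup S := hqs.2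
  have hna : ¬ IsMulCommutative S := by
    intro hcomm
    have h2 : commutator S = ⊥ := by
      rw [commutator_def, Subgroup.commutator_eq_bot_iff_le_centralizer]
      intro x _
      rw [Subgroup.mem_centralizer_iff]
      intro y _
      exact hcomm.is_comm.comm y x
    have h3 : commutator S = ⊤ := by
      have h4 : commutator ↥(HL cs isCartan (X φ q) f2) = ⊤ := hqs.1.commutator_eq_top
      have h5 := congrArg (Subgroup.map (QuotientGroup.mk' (Subgroup.center ↥(HL cs isCartan (X φ q) f2)))) h4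
      rw [map_commutator_eq, MonoidHom.range_eq_top.2 (QuotientGroup.mk'_surjective _),
        Subgroup.map_top_of_surjective _ (QuotientGroup.mk'_surjective _)] at h5
      exact h5
    rw [h2] at h3
    exact bot_ne_top h3
  have e : ULift.{u} S ≃* S := MulEquiv.ulift
  have hsu : IsSimpleGroup (ULift.{u} S) := e.isSimpleGroup
  refine Cfsg.Agent.H897.T5Sub.SRow.congr e (hlt (ULift.{u} S) hsu ?_ ?_)
  · intro h1
    apply hna
    exact ⟨⟨fun a b => by
      have := h1.is_comm.comm (e.symm a) (e.symm b)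
      rw [← map_mul, ← map_mul] at this
      exact e.symm.injective this⟩⟩
  · rw [Nat.card_congr e.toEquiv]
    exact hcard

end Levi

open Cfsg.Agent.H460.Typed
open Cfsg.Agent.H798.T5Pan Cfsg.Agent.H798.T5Tp Cfsg.Agent.H798.T5Asm Cfsg.Agent.H798.T5Tw
open Cfsg.Agent.H798.T5Untw (comm_of_not)
open Cfsg.Agent.H951.S5.TPan Cfsg.Agent.H951.S5.Asm
open Cfsg.Agent.KFacts.TwESix.Out (KF)

variable {K : Type} [Field K] [Fintype K] (p : ℕ) [Fact p.Prime] [CharP K p] {q : ℕ} {φ : K →+* K}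
  (hφ : ∀ x, φ x = x ^ q) (hqq : ∀ t : K, (t ^ q) ^ q = t)

include hφ hqq in
/-- **`SRow` of `²E₆(q)`.** -/
theorem srow_E6 (h5 : 5 ≤ p) (hq : IsPrimePow q) (hK : Fintype.card K = q ^ 2) [IsSimpleGroup ↥(twistedE6 K q)]
    (hna : ¬ IsMulCommutative ↥(twistedE6 K q)) (hrow : ∀ Q, RowTwo p Q)
    (hlt : SBelow.{u} p (Nat.card ↥(twistedE6 K q))) : SRow p ↥(twistedE6 K q) := by
  have hp : p.Prime := Fact.out
  have hW := finW_E6
  have R := Cfsg.Agent.Nodes.RGDTwE6.rgd (CoxeterMatrix.toCoxeterSystem CoxeterMatrix.F₄) hφ hqq p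
  have hG1 := G1_eq_top (CoxeterMatrix.toCoxeterSystem CoxeterMatrix.F₄) hφ hqq
  obtain ⟨E, hB, he, hF⟩ := exists_eng_of (Q := fun i => Nat.card (KF φ i)) R (gen_E6 p hφ hqq)
    (Cfsg.Agent.FixBN.TwGood.isSolvable_T Nodes.RGDTwE6.hp) (fun i => fnode_E6 p hφ hqq i) (by norm_num)
  refine _root_.Cfsg.Agent.H951.S5.Asm.srow_of R hB he (comm_of_not hna) (KFacts.RgdFilt.GG_eq_top (T := T K q) hG1) (fun i => hrow _) hF ?_
    (fun c hc => hout_E6 p hφ hqq hB he (by omega) hq hK hc)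
  intro x y hx hy
  have px : ∀ {x : ↥(twistedE6 K q)}, orderOf x = p → x ^ p = 1 := fun h => by rw [← h, pow_orderOf_eq_one]
  have nx : ∀ {x : ↥(twistedE6 K q)}, orderOf x = p → x ≠ 1 := by
    rintro x h rfl
    rw [orderOf_one] at h
    exact hp.one_lt.ne h
  rcases cases_E6 p hφ hqq (px hx) (px hy) (nx hx) (nx hy) with h1 | ⟨h1, h2, h3, h4⟩ | ⟨h1, h2, h3, h4⟩
  · exact Or.inl h1
  · exact Or.inr (spair_of_NT hφ hK (CoxeterMatrix.toCoxeterSystem CoxeterMatrix.F₄) h5 hlt hx hy (i := 0) (j := 1) h1 h3)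
  · exact Or.inr (spair_of_NT hφ hK (CoxeterMatrix.toCoxeterSystem CoxeterMatrix.F₄) h5 hlt hx hy (i := 1) (j := 0) h3 h1)

/-- **The strong row of `²E₆(q)`, `p ≥ 5` dividing `q`.** -/
theorem srow_twE6_own (hp : p.Prime) (h5 : 5 ≤ p) (B : SBox.{u} p) (hq : IsPrimePow q)
    (hK : Fintype.card K = q ^ 2) {S : Type u} [Group S] (e : S ≃* ↥(twistedE6 K q))
    (hlt : SBelow.{u} p (Nat.card S)) : SRow p S := by
  obtain ⟨hs, hna⟩ := Cfsg.Agent.S1070.result hq hK
  obtain ⟨φ, hφ, hqq⟩ := TwE6Basic.exists_frob hq hK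
  rw [Nat.card_congr e.toEquiv] at hlt
  exact Cfsg.Agent.H897.T5Sub.SRow.congr e.symm
    (srow_E6 p hφ hqq h5 hq hK hna (fun Q => rowTwo_of hp h5 B Q) hlt)

end Cfsg.Agent.H951.S5.TwE
end

-- part: H347/S2274/ExcRow
section
/-!
# S2274: the strong rows of the exceptional groups (D2)

* `ExcPairs p` : the pairs of inner elements in cross characteristic (tasks 3619 - 3621);
* `OwnTw p`, `ownTw_of` : the rows `²E₆(q)`, `³D₄(q)` in the own characteristic (task 3612, helper951);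
* `srowFam_exc` : all exceptional groups.
-/

set_option autoImplicit false

universe u

namespace Cfsg.Agent.H347.S2274.ExcRow

open Cfsg Cfsg.Lie Cfsg.Agent.H533.T5 Cfsg.Agent.H957.T5M Cfsg.Agent.H106.MT Cfsg.Agent.H132.S5
open Cfsg.Agent.H347.S2274.ExcRed

/-- All pairs of elements of order `p` of `S` satisfy `SPair`. -/
def InPairs (p : ℕ) (S : Type u) [Group S] : Prop :=
  ∀ x y : S, orderOf x = p → orderOf y = p → SPair p (⊤ : Subgroup S) x y

/-- **The pairs of inner elements in cross characteristic** (what the tasks 3619 - 3621 give). -/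
structure ExcPairs (p : ℕ) : Prop where
  g2 : ∀ {S : Type u} [Group S] [Finite S] [IsSimpleGroup S] {F : Type} [Field F] [Fintype F],
    ¬ IsMulCommutative S → SBelow.{u} p (Nat.card S) → 3 ≤ Fintype.card F →
    ¬ p ∣ Fintype.card F → (S ≃* ↥(chevG2.group F)) → InPairs p S
  f4 : ∀ {S : Type u} [Group S] [Finite S] [IsSimpleGroup S] {F : Type} [Field F] [Fintype F],
    ¬ IsMulCommutative S → SBelow.{u} p (Nat.card S) →
    ¬ p ∣ Fintype.card F → (S ≃* ↥(chevF4.group F)) → InPairs p S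
  e6 : ∀ {S : Type u} [Group S] [Finite S] [IsSimpleGroup S] {F : Type} [Field F] [Fintype F],
    ¬ IsMulCommutative S → SBelow.{u} p (Nat.card S) →
    ¬ p ∣ Fintype.card F → ¬ p ∣ Fintype.card F ^ 2 - 1 → (S ≃* ↥(chevE6.group F)) → InPairs p S
  e7 : ∀ {S : Type u} [Group S] [Finite S] [IsSimpleGroup S] {F : Type} [Field F] [Fintype F],
    ¬ IsMulCommutative S → SBelow.{u} p (Nat.card S) →
    ¬ p ∣ Fintype.card F → ¬ p ∣ Fintype.card F ^ 2 - 1 → (S ≃* ↥(chevE7.group F)) → InPairs p S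
  e8 : ∀ {S : Type u} [Group S] [Finite S] [IsSimpleGroup S] {F : Type} [Field F] [Fintype F],
    ¬ IsMulCommutative S → SBelow.{u} p (Nat.card S) → 7 ≤ p →
    ¬ p ∣ Fintype.card F → ¬ p ∣ Fintype.card F ^ 2 - 1 → (S ≃* ↥(chevE8.group F)) → InPairs p S
  tw6 : ∀ {S : Type u} [Group S] [Finite S] [IsSimpleGroup S] {K : Type} [Field K] [Fintype K]
    {q : ℕ}, ¬ IsMulCommutative S → SBelow.{u} p (Nat.card S) → IsPrimePow q →
    Fintype.card K = q ^ 2 → ¬ p ∣ q → ¬ p ∣ q ^ 2 - 1 → (S ≃* ↥(twistedE6 K q)) → InPairs p S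
  td4 : ∀ {S : Type u} [Group S] [Finite S] [IsSimpleGroup S] {K : Type} [Field K] [Fintype K]
    {q : ℕ}, ¬ IsMulCommutative S → SBelow.{u} p (Nat.card S) → IsPrimePow q →
    Fintype.card K = q ^ 3 → ¬ p ∣ q → (S ≃* ↥(twistedD4 K q)) → InPairs p S

/-- The rows `²E₆(q)`, `³D₄(q)` in the own characteristic (task 3612). -/
def OwnTw (p : ℕ) : Prop := SRowFam.{u} p (fun S _ => IsTwistedE6D4Char p S)

theorem r2_of {p : ℕ} (hp : p.Prime) (h5 : 5 ≤ p) (B : SBox.{u} p) : H406.SRow.Pan.R2 p := by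
  intro F _ _ _
  have := Fintype.ofFinite F
  have e : ULift.{u} (Matrix.ProjectiveSpecialLinearGroup (Fin 2) F) ≃*
      Matrix.ProjectiveSpecialLinearGroup (Fin 2) F := MulEquiv.ulift
  exact Cfsg.Agent.H897.T5Sub.SRow.congr e
    (Cfsg.Agent.H140.S5.PSL2Own.srow_psl2_own' hp h5 B.aa B.rs e)

theorem pslTwoCross_of {p : ℕ} (hp : p.Prime) (h5 : 5 ≤ p) (B : SBox.{u} p) : PslTwoCross p := by
  intro K _ _ hK hpK
  have e : ULift.{u} (Matrix.ProjectiveSpecialLinearGroup (Fin 2) K) ≃*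
      Matrix.ProjectiveSpecialLinearGroup (Fin 2) K := MulEquiv.ulift
  have hs : IsSimpleGroup (Matrix.ProjectiveSpecialLinearGroup (Fin 2) K) :=
    Matrix.ProjectiveSpecialLinearGroup.rank_two_simple (by rw [Nat.card_eq_fintype_card]; omega)
  have hna : ¬ IsMulCommutative (Matrix.ProjectiveSpecialLinearGroup (Fin 2) K) := by
    intro hc
    exact Cfsg.Agent.ClassicalGeometry.PSL2Solvable.not_isSolvable_psl K hK
      (IsSimpleGroup.comm_iff_isSolvable.1 fun a b => hc.is_comm.comm a b)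
  have := e.isSimpleGroup
  have : Finite (Matrix.ProjectiveSpecialLinearGroup (Fin 2) K) := Cfsg.Agent.H452.FprPsl2.pfin
  exact Cfsg.Agent.H897.T5Sub.SRow.congr e
    (Cfsg.Agent.H212.S5.PslTwo.srow_psl2_cross hp h5 hpK B (not_comm_of e hna) e)

/-- **The rows `²E₆(q)`, `³D₄(q)` in the own characteristic** (helper951). -/
theorem ownTw_of {p : ℕ} (hp : p.Prime) (h5 : 5 ≤ p) (B : SBox.{u} p) : OwnTw.{u} p := by
  rintro S _ _ _ hna ⟨K, _, _, _, q, hq, ⟨hK, ⟨e⟩⟩ | ⟨hK, ⟨e⟩⟩⟩ hlt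
  · have := Fact.mk hp
    exact Cfsg.Agent.H951.S5.TwE.srow_twE6_own (K := K) p hp h5 B hq hK e hlt
  · have := Fact.mk hp
    exact Cfsg.Agent.H951.S5.TwD.srow_twD4_own (K := K) p hp h5 B hq hK e

theorem dich {q : ℕ} (h : ¬ 5 ∣ q) : 5 ∣ q ^ 2 - 1 ∨ 5 ∣ q ^ 2 + 1 := by
  have h1 : q % 5 < 5 := Nat.mod_lt _ (by norm_num)
  have h2 : q ^ 2 % 5 = ((q % 5) ^ 2) % 5 := Nat.pow_mod q 2 5
  have h3 : q % 5 ≠ 0 := fun h3 => h (Nat.dvd_of_mod_eq_zero h3)
  have h4 : 1 ≤ q ^ 2 := Nat.one_le_pow _ _ (Nat.pos_of_ne_zero (by rintro rfl; simp at h3))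
  interval_cases hq : q % 5
  · exact absurd rfl h3
  · left; omega
  · right; omega
  · right; omega
  · left; omega

/-! ### `G₂`, `F₄`, `³D₄` from the pairs of elements -/

section Rows

variable {S : Type u} [Group S] [Finite S] {p : ℕ} (hpp : p.Prime) (B : SBox.{u} p) (h5 : 5 ≤ p)
  (hin : InPairs p S)

include hpp B h5 hin

theorem srow_g2_of {F : Type} [Field F] [Fintype F] (hF : 3 ≤ Fintype.card F)
    (hpF : ¬ p ∣ Fintype.card F) (e : S ≃* ↥(chevG2.group F)) : SRow p S := by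
  have hs := S1055.result (F := F) (Cfsg.Agent.BpExc.RowsUntw.exists_ne hF)
  have := hs.1
  have := e.isSimpleGroup
  exact srow_of_ok B.aa B.rs hpp (not_comm_of e hs.2)
    (Cfsg.Agent.H28.T5RowsUntw.outerOk_g2 hpp h5 hF e)
    (Cfsg.Agent.H28.T5RowsUntw.homOk_g2 hpp h5 hF hpF e) hin

theorem srow_f4_of {F : Type} [Field F] [Fintype F]
    (hpF : ¬ p ∣ Fintype.card F) (e : S ≃* ↥(chevF4.group F)) : SRow p S := by
  have hs : IsSimpleGroup ↥(chevF4.group F) ∧ ¬ IsMulCommutative ↥(chevF4.group F) :=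
    S1054.result chevF4 (by simp)
  have := hs.1
  have := e.isSimpleGroup
  exact srow_of_ok B.aa B.rs hpp (not_comm_of e hs.2)
    (Cfsg.Agent.H28.T5RowsUntw.outerOk_f4 hpp h5 e)
    (Cfsg.Agent.H28.T5RowsUntw.homOk_f4 hpp h5 hpF e) hin

theorem srow_twD4_of {K : Type} [Field K] [Fintype K] {q : ℕ} (hq : IsPrimePow q)
    (hK : Fintype.card K = q ^ 3) (hpq : ¬ p ∣ q) (e : S ≃* ↥(twistedD4 K q)) : SRow p S := by
  obtain ⟨hs, hna⟩ := Cfsg.Agent.S1071.result hq hK
  have := e.isSimpleGroup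
  exact srow_of_ok B.aa B.rs hpp (not_comm_of e hna)
    (Cfsg.Agent.H28.T5TwFour.outerOk_twD4 hq hK hpp h5 hpq e)
    (Cfsg.Agent.H28.T5TwFour.homOk_twD4 hq hK hpp h5 hpq e) hin

end Rows

/-- **All exceptional groups.** -/
theorem srowFam_exc {p : ℕ} (hp : p.Prime) (h5 : 5 ≤ p) (B : SBox.{u} p)
    (X : ExcPairs.{u} p) : SRowFam.{u} p (fun S _ => IsExceptionalLieType S) := by
  have hR := r2_of hp h5 B
  have hC := pslTwoCross_of hp h5 B
  have T : OwnTw.{u} p := ownTw_of hp h5 B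
  intro S _ _ _ hna h hlt
  rcases h with h | h | h | h | h | h | h | h | h | h | h
  · obtain ⟨F, _, _, h3, ⟨e⟩⟩ := h
    by_cases hF : p ∣ Fintype.card F
    · exact H406.SRow.Untw.srow_own_G2 hp h5 hR hF e
    · exact srow_g2_of hp B h5 (X.g2 hna hlt h3 hF e) h3 hF e
  · obtain ⟨F, _, _, ⟨e⟩⟩ := h
    by_cases hF : p ∣ Fintype.card F
    · exact H406.SRow.Untw.srow_own_F4 hp h5 hR hF e
    · exact srow_f4_of hp B h5 (X.f4 hna hlt hF e) hF e
  · obtain ⟨F, _, _, ⟨e⟩⟩ := h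
    by_cases hF : p ∣ Fintype.card F
    · exact H406.SRow.Untw.srow_own_E6 hp h5 hR hF e
    · by_cases hq : p ∣ Fintype.card F ^ 2 - 1
      · exact srow_e6_sq hp h5 hC hF hq e
      · exact srow_e6_of hp B h5 (X.e6 hna hlt hF hq e) hF e
  · obtain ⟨F, _, _, ⟨e⟩⟩ := h
    by_cases hF : p ∣ Fintype.card F
    · exact H406.SRow.Untw.srow_own_E7 hp h5 hR hF e
    · by_cases hq : p ∣ Fintype.card F ^ 2 - 1
      · exact srow_e7_sq hp h5 hC hF hq e
      · exact srow_e7_of hp B h5 (X.e7 hna hlt hF hq e) hF e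
  · obtain ⟨F, _, _, ⟨e⟩⟩ := h
    by_cases hF : p ∣ Fintype.card F
    · exact H406.SRow.Untw.srow_own_E8 hp h5 hR hF e
    · by_cases hq : p ∣ Fintype.card F ^ 2 - 1
      · exact srow_e8_sq hp h5 hC hF hq e
      · by_cases h7 : 7 ≤ p
        · exact srow_e8_of hp B h5 (X.e8 hna hlt h7 hF hq e) hF e
        · have hp5 : p = 5 := by
            have h6 : p ≠ 6 := by rintro rfl; revert hp; norm_num
            omega
          subst hp5
          have hd : 5 ∣ Fintype.card F ^ 2 - 1 ∨ 5 ∣ Fintype.card F ^ 2 + 1 := dich hF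
          exact srow_e8_five hC B (hd.resolve_left hq) e
  · obtain ⟨K, _, _, q, hq, hK, ⟨e⟩⟩ := h
    by_cases hF : p ∣ Fintype.card K
    · have := charP_of_dvd hp hF
      exact T S hna ⟨K, _, _, this, q, hq, Or.inl ⟨hK, ⟨e⟩⟩⟩ hlt
    · have hpq : ¬ p ∣ q := fun h => hF (by rw [hK]; exact dvd_pow h (by norm_num))
      by_cases hq1 : p ∣ q ^ 2 - 1
      · exact srow_twE6_sq hp h5 hC hq hK hpq hq1 e
      · exact srow_twE6_of hp B h5 (X.tw6 hna hlt hq hK hpq hq1 e) hq hK hpq e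
  · obtain ⟨K, _, _, q, hq, hK, ⟨e⟩⟩ := h
    by_cases hF : p ∣ Fintype.card K
    · have := charP_of_dvd hp hF
      exact T S hna ⟨K, _, _, this, q, hq, Or.inr ⟨hK, ⟨e⟩⟩⟩ hlt
    · have hpq : ¬ p ∣ q := fun h => hF (by rw [hK]; exact dvd_pow h (by norm_num))
      exact srow_twD4_of hp B h5 (X.td4 hna hlt hq hK hpq e) hq hK hpq e
  · obtain ⟨F, _, _, m, hm, hF, ⟨e⟩⟩ := h
    exact Cfsg.Agent.H442.S5.srow_sz_all hm hF hp (by omega) e B
  · obtain ⟨K, _, _, m, hm, hK, ⟨e⟩⟩ := h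
    exact Cfsg.Agent.H442.S5.srow_ree_all hm hK hp h5 e B
  · obtain ⟨K, _, _, m, hm, hK, ⟨e⟩⟩ := h
    exact Cfsg.Agent.H823.S5.srow_twF4 hp h5 B hna hlt hm hK e
  · exact Cfsg.Agent.H823.S5.srow_tits hp h5 B hna h

end Cfsg.Agent.H347.S2274.ExcRow
end

-- part: H347/S2274/Glue
section
/-!
# S2274: the untwisted exceptional groups in cross characteristic, case distinction over `e = ord_p(q)`

* `inPairs_of_edat` : from the data of helper122;
* `inPairs_cyc` : cyclic Sylow subgroups (at most one degree is divisible by `e`);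
* `Untw p` : what is left (`e = 4, 6, 8, 10, 12`);
* `g2`, `f4`, `e6`, `e7`, `e8` : the fields of `ExcPairs`.
-/

set_option autoImplicit false

universe u

namespace Cfsg.Agent.H347.S2274.Glue

open Cfsg Cfsg.Lie Cfsg.Agent.H533.T5 Cfsg.Agent.H957.T5M Cfsg.Agent.H106.MT Cfsg.Agent.H132.S5
open Cfsg.Agent.H347.S2274.ExcRow Cfsg.Agent.H122.S5 Cfsg.Agent.H790.ExcAb

variable {p : ℕ} {S : Type u} [Group S] [Finite S] [IsSimpleGroup S]

theorem inPairs_of_edat (hp : p.Prime) (B : SBox.{u} p) (hna : ¬ IsMulCommutative S)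
    (hlt : SBelow.{u} p (Nat.card S)) (hab : AbP p S) (h : EDat p S) : InPairs p S := by
  have := Fact.mk hp
  obtain ⟨M, L, h1, h2, h3, h4, h5⟩ := h
  exact fun x y hx hy => spair_of_qs B hna (fun P => hab.sylow P) hlt h1 h2 h3 h4 h5 hx hy

omit [Finite S] [IsSimpleGroup S] in
theorem inPairs_of_not_dvd (h : ¬ p ∣ Nat.card S) : InPairs p S := by
  intro x _ hx
  exact absurd (hx ▸ orderOf_dvd_natCard x) h

theorem inPairs_of_cyclic (hp : p.Prime) (B : SBox.{u} p) (hna : ¬ IsMulCommutative S)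
    (h : ∀ P : Sylow p S, IsCyclic ↥(P : Subgroup S)) : InPairs p S := by
  have := Fact.mk hp
  obtain ⟨P⟩ : Nonempty (Sylow p S) := inferInstance
  exact fun x y hx hy => spair_of_cyclic B.aa B.rs hna P (h P) hx hy

/-- The list of S2378. -/
abbrev lst : List (ChevalleyDatum × List ℕ) :=
  [(Cfsg.Lie.chevG2, [2, 6]), (Cfsg.Lie.chevB2, [2, 4]), (Cfsg.Lie.chevD4, [2, 4, 4, 6]),
    (Cfsg.Lie.chevF4, [2, 6, 8, 12]), (Cfsg.Lie.chevE6, [2, 5, 6, 8, 9, 12]),
    (Cfsg.Lie.chevE7, [2, 6, 8, 10, 12, 14, 18]), (Cfsg.Lie.chevE8, [2, 8, 12, 14, 18, 20, 24, 30])]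

/-- **Cyclic Sylow subgroups.** -/
theorem inPairs_cyc (hp : p.Prime) (B : SBox.{u} p) (hna : ¬ IsMulCommutative S)
    {F : Type} [Field F] [Fintype F] (c : ChevalleyDatum × List ℕ) (hc : c ∈ lst)
    (hpF : ¬ p ∣ Fintype.card F) (hW : ¬ p ∣ c.2.prod)
    (h1 : (c.2.filter (fun e => orderOf ((Fintype.card F : ℕ) : ZMod p) ∣ e)).length ≤ 1)
    (e : S ≃* ↥(c.1.group F)) : InPairs p S := by
  have hpf := Fact.mk hp
  by_cases hpG : p ∣ Nat.card ↥(c.1.group F)
  · refine inPairs_of_cyclic hp B hna fun P => ?_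
    have : Finite ↥(c.1.group F) := Finite.of_equiv S e.toEquiv
    let Q : Sylow p ↥(c.1.group F) := P.mapSurjective (f := e.toMonoidHom) e.surjective
    have hQ0 : (Q : Subgroup ↥(c.1.group F)) = (P : Subgroup S).map e.toMonoidHom := rfl
    obtain ⟨f⟩ := Cfsg.Agent.S2378.result (F := F) rfl c hc p hpF hW hpG Q
    have hQ : IsCyclic ↥(Q : Subgroup ↥(c.1.group F)) := by
      rw [f.isCyclic]
      generalize (c.2.filter (fun e => orderOf ((Fintype.card F : ℕ) : ZMod p) ∣ e)).length = k at h1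
      interval_cases k
      · exact isCyclic_of_subsingleton
      · exact (MulEquiv.isCyclic (MulEquiv.funUnique (Fin 1) _)).2 inferInstance
    rw [hQ0] at hQ
    exact (((P : Subgroup S).equivMapOfInjective e.toMonoidHom e.injective).isCyclic).2 hQ
  · refine inPairs_of_not_dvd ?_
    rwa [Nat.card_congr e.toEquiv]

/-! ### the orders `e` with at least two degrees -/

theorem order_dvd {q : ℕ} (hp : p.Prime) (hq : ¬ p ∣ q) : orderOf ((q : ℕ) : ZMod p) ∣ p - 1 := by
  have := Fact.mk hp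
  refine orderOf_dvd_of_pow_eq_one (ZMod.pow_card_sub_one_eq_one ?_)
  rwa [Ne, ZMod.natCast_eq_zero_iff]

theorem big_g2 : ∀ e ≤ 6, 2 ≤ (([2, 6] : List ℕ).filter (fun d => e ∣ d)).length →
    e = 1 ∨ e = 2 := by decide
theorem big_f4 : ∀ e ≤ 12, 2 ≤ (([2, 6, 8, 12] : List ℕ).filter (fun d => e ∣ d)).length →
    e = 1 ∨ e = 2 ∨ e = 3 ∨ e = 4 ∨ e = 6 := by decide
theorem big_e6 : ∀ e ≤ 12, 2 ≤ (([2, 5, 6, 8, 9, 12] : List ℕ).filter (fun d => e ∣ d)).length →
    e = 1 ∨ e = 2 ∨ e = 3 ∨ e = 4 ∨ e = 6 := by decide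
theorem big_e7 : ∀ e ≤ 18, 2 ≤ (([2, 6, 8, 10, 12, 14, 18] : List ℕ).filter (fun d => e ∣ d)).length →
    e = 1 ∨ e = 2 ∨ e = 3 ∨ e = 4 ∨ e = 6 := by decide
theorem big_e8 : ∀ e ≤ 30, 2 ≤ (([2, 8, 12, 14, 18, 20, 24, 30] : List ℕ).filter (fun d => e ∣ d)).length →
    e = 1 ∨ e = 2 ∨ e = 3 ∨ e = 4 ∨ e = 5 ∨ e = 6 ∨ e = 8 ∨ e = 10 ∨ e = 12 := by decide +kernel

theorem le_of_filter {l : List ℕ} {e N : ℕ} (hl : ∀ d ∈ l, 0 < d ∧ d ≤ N)
    (h : 2 ≤ (l.filter (fun d => e ∣ d)).length) : e ≤ N := by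
  obtain ⟨d, hd⟩ : ∃ d, d ∈ l.filter (fun d => e ∣ d) := List.exists_mem_of_length_pos (by omega)
  rw [List.mem_filter, decide_eq_true_eq] at hd
  exact (Nat.le_of_dvd (hl d hd.1).1 hd.2).trans (hl d hd.1).2

theorem not_dvd_of {n : ℕ} (hp : p.Prime) (h5 : 5 ≤ p) (hp5 : p ≠ 5) (hp7 : p ≠ 7)
    (h : n ∣ 2 ^ 20 * 3 ^ 20 * 5 ^ 20 * 7 ^ 20) : ¬ p ∣ n := by
  intro h1
  have key : ∀ r k : ℕ, r.Prime → p ∣ r ^ k → p = r := fun r k hr h2 =>
    (Nat.prime_dvd_prime_iff_eq hp hr).1 (hp.dvd_of_dvd_pow h2)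
  rcases hp.dvd_mul.1 (h1.trans h) with h2 | h2
  · rcases hp.dvd_mul.1 h2 with h2 | h2
    · rcases hp.dvd_mul.1 h2 with h2 | h2
      · have := key 2 20 (by norm_num) h2; omega
      · have := key 3 20 (by norm_num) h2; omega
    · exact hp5 (key 5 20 (by norm_num) h2)
  · exact hp7 (key 7 20 (by norm_num) h2)

theorem mod_ne {q : ℕ} (hp2 : 2 ≤ p) (hq : 1 ≤ q) (h : ¬ p ∣ q ^ 2 - 1) : q % p ≠ 1 ∧ q % p ≠ p - 1 := by
  have h1 : q ^ 2 - 1 = (q - 1) * (q + 1) := by
    obtain ⟨k, rfl⟩ := Nat.exists_eq_add_of_le hq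
    have : (1 + k) ^ 2 = k * (k + 2) + 1 := by ring
    rw [this]
    simp only [Nat.add_sub_cancel, Nat.add_sub_cancel_left]
    ring
  rw [h1] at h
  constructor
  · intro h3
    refine h (Dvd.dvd.mul_right ?_ _)
    have h2 := Nat.div_add_mod q p
    exact ⟨q / p, by omega⟩
  · intro h3
    refine h (Dvd.dvd.mul_left ?_ _)
    have h2 := Nat.div_add_mod q p
    refine ⟨q / p + 1, ?_⟩
    rw [mul_add, mul_one]
    omega

/-- The pairs of `D(q)` when `q` has order `e` modulo `p`. -/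
def RowE (p : ℕ) (D : ChevalleyDatum) (e : ℕ) : Prop :=
  ∀ {S : Type u} [Group S] [Finite S] [IsSimpleGroup S] {F : Type} [Field F] [Fintype F],
    ¬ IsMulCommutative S → SBelow.{u} p (Nat.card S) →
    orderOf ((Fintype.card F : ℕ) : ZMod p) = e → (S ≃* ↥(D.group F)) → InPairs p S

theorem not_dvd_of_order {q e : ℕ} (hp : p.Prime) (he0 : e ≠ 0)
    (he : orderOf ((q : ℕ) : ZMod p) = e) : ¬ p ∣ q := by
  intro h
  have := Fact.mk hp
  have h1 := pow_orderOf_eq_one ((q : ℕ) : ZMod p)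
  rw [he, (ZMod.natCast_eq_zero_iff _ _).2 h, zero_pow he0] at h1
  exact zero_ne_one h1

section Untwisted

variable (hp : p.Prime) (h5 : 5 ≤ p) (B : SBox.{u} p) (hna : ¬ IsMulCommutative S)
  (hlt : SBelow.{u} p (Nat.card S)) {F : Type} [Field F] [Fintype F]

include hp h5 B hna hlt

theorem g2 (hpF : ¬ p ∣ Fintype.card F) (e : S ≃* ↥(chevG2.group F)) : InPairs p S := by
  have := Fact.mk hp
  by_cases h1 : (([2, 6] : List ℕ).filter (fun d => orderOf ((Fintype.card F : ℕ) : ZMod p) ∣ d)).length ≤ 1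
  · exact inPairs_cyc hp B hna (chevG2, [2, 6]) (by simp) hpF
      (H122.S5.not_dvd_23 hp h5 (by norm_num)) h1 e
  · have h0 := not_le.1 h1
    have h2 := big_g2 _ (le_of_filter (N := 6) (by decide) h0) h0
    exact inPairs_of_edat hp B hna hlt ((H790.ExcAb.G2 rfl hpF h5).congr e)
      ((edat_g2 rfl hp h5 h2).congr e)

theorem f4 (h4 : RowE.{u} p chevF4 4) (h6 : RowE.{u} p chevF4 6) (hpF : ¬ p ∣ Fintype.card F)
    (e : S ≃* ↥(chevF4.group F)) : InPairs p S := by
  have := Fact.mk hp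
  by_cases h1 : (([2, 6, 8, 12] : List ℕ).filter
      (fun d => orderOf ((Fintype.card F : ℕ) : ZMod p) ∣ d)).length ≤ 1
  · exact inPairs_cyc hp B hna (chevF4, [2, 6, 8, 12]) (by simp) hpF
      (H122.S5.not_dvd_23 hp h5 (by norm_num)) h1 e
  · have h0 := not_le.1 h1
    have h2 := big_f4 _ (le_of_filter (N := 12) (by decide) h0) h0
    have hab : AbP p S := (H790.ExcAb.F4 rfl hpF h5).congr e
    rcases h2 with h | h | h | h | h
    · exact inPairs_of_edat hp B hna hlt hab ((edat_f4 rfl hp h5 (Or.inl h)).congr e)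
    · exact inPairs_of_edat hp B hna hlt hab ((edat_f4 rfl hp h5 (Or.inr (Or.inl h))).congr e)
    · exact inPairs_of_edat hp B hna hlt hab ((edat_f4 rfl hp h5 (Or.inr (Or.inr h))).congr e)
    · exact h4 hna hlt h e
    · exact h6 hna hlt h e

theorem e6 (h4 : RowE.{u} p chevE6 4) (h6 : RowE.{u} p chevE6 6) (hpF : ¬ p ∣ Fintype.card F)
    (hq2 : ¬ p ∣ Fintype.card F ^ 2 - 1) (e : S ≃* ↥(chevE6.group F)) : InPairs p S := by
  have := Fact.mk hp
  have hn2 : ¬ orderOf ((Fintype.card F : ℕ) : ZMod p) ∣ 2 := fun h =>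
    hq2 ((dvd_iff Fintype.card_pos rfl 2).2 h)
  have hm := mod_ne (p := p) (by omega) Fintype.card_pos hq2
  by_cases h1 : (([2, 5, 6, 8, 9, 12] : List ℕ).filter
      (fun d => orderOf ((Fintype.card F : ℕ) : ZMod p) ∣ d)).length ≤ 1
  · have hp5 : p ≠ 5 := by
      intro hp5
      have h2 : orderOf ((Fintype.card F : ℕ) : ZMod p) ∣ 4 :=
        (order_dvd hp hpF).trans (by norm_num [hp5])
      have h3 : ∀ n ≤ 4, n ∣ 4 → ¬ (([2, 5, 6, 8, 9, 12] : List ℕ).filter (fun d => n ∣ d)).length ≤ 1 := by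
        decide
      exact h3 _ (Nat.le_of_dvd (by norm_num) h2) h2 h1
    exact inPairs_cyc hp B hna (chevE6, [2, 5, 6, 8, 9, 12]) (by simp) hpF
      (fun h => by
        have h51840 : p ∣ 2 ^ 7 * 3 ^ 4 * 5 := by simpa using h
        rcases hp.dvd_mul.1 h51840 with h | h
        · exact H122.S5.not_dvd_23 hp h5 (by norm_num) h
        · exact hp5 ((Nat.prime_dvd_prime_iff_eq hp (by norm_num)).1 h)) h1 e
  · have h0 := not_le.1 h1
    have h2 := big_e6 _ (le_of_filter (N := 12) (by decide) h0) h0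
    have hab : AbP p S := (H790.ExcAb.E6 rfl hpF h5 (fun h => h ▸ hm.1)).congr e
    rcases h2 with h | h | h | h | h
    · exact absurd (h ▸ one_dvd 2) hn2
    · exact absurd (h ▸ dvd_rfl) hn2
    · exact inPairs_of_edat hp B hna hlt hab ((edat_e6 rfl hp h5 (Or.inr (Or.inr h))).congr e)
    · exact h4 hna hlt h e
    · exact h6 hna hlt h e

theorem e7 (h6 : RowE.{u} p chevE7 6) (hpF : ¬ p ∣ Fintype.card F)
    (hq2 : ¬ p ∣ Fintype.card F ^ 2 - 1) (e : S ≃* ↥(chevE7.group F)) : InPairs p S := by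
  have := Fact.mk hp
  have hn2 : ¬ orderOf ((Fintype.card F : ℕ) : ZMod p) ∣ 2 := fun h =>
    hq2 ((dvd_iff Fintype.card_pos rfl 2).2 h)
  have hm := mod_ne (p := p) (by omega) Fintype.card_pos hq2
  by_cases h1 : (([2, 6, 8, 10, 12, 14, 18] : List ℕ).filter
      (fun d => orderOf ((Fintype.card F : ℕ) : ZMod p) ∣ d)).length ≤ 1
  · have hp5 : p ≠ 5 := by
      intro hp5
      have h2 : orderOf ((Fintype.card F : ℕ) : ZMod p) ∣ 4 :=
        (order_dvd hp hpF).trans (by norm_num [hp5])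
      have h3 : ∀ n ≤ 4, n ∣ 4 → ¬ (([2, 6, 8, 10, 12, 14, 18] : List ℕ).filter (fun d => n ∣ d)).length ≤ 1 := by
        decide
      exact h3 _ (Nat.le_of_dvd (by norm_num) h2) h2 h1
    have hp7 : p ≠ 7 := by
      intro hp7
      have h2 : orderOf ((Fintype.card F : ℕ) : ZMod p) ∣ 6 :=
        (order_dvd hp hpF).trans (by norm_num [hp7])
      have h3 : ∀ n ≤ 6, n ∣ 6 → ¬ (([2, 6, 8, 10, 12, 14, 18] : List ℕ).filter (fun d => n ∣ d)).length ≤ 1 := by
        decide
      exact h3 _ (Nat.le_of_dvd (by norm_num) h2) h2 h1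
    exact inPairs_cyc hp B hna (chevE7, [2, 6, 8, 10, 12, 14, 18]) (by simp) hpF
      (not_dvd_of hp h5 hp5 hp7 (by norm_num)) h1 e
  · have h0 := not_le.1 h1
    have h2 := big_e7 _ (le_of_filter (N := 18) (by decide) h0) h0
    have hab : AbP p S := (H790.ExcAb.E7 rfl hpF h5 (fun h => ⟨h ▸ hm.1, by
      have := hm.2; rw [h] at this; exact this⟩) (fun h => ⟨h ▸ hm.1, by
      have := hm.2; rw [h] at this; exact this⟩)).congr e
    rcases h2 with h | h | h | h | h
    · exact absurd (h ▸ one_dvd 2) hn2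
    · exact absurd (h ▸ dvd_rfl) hn2
    · exact inPairs_of_edat hp B hna hlt hab ((edat_e7 rfl hp h5 (Or.inr (Or.inl h))).congr e)
    · exact inPairs_of_edat hp B hna hlt hab ((edat_e7 rfl hp h5 (Or.inr (Or.inr h))).congr e)
    · exact h6 hna hlt h e

theorem e8 (h7 : 7 ≤ p) (h4 : RowE.{u} p chevE8 4) (h6 : RowE.{u} p chevE8 6) (h8 : RowE.{u} p chevE8 8)
    (h10 : RowE.{u} p chevE8 10) (h12 : RowE.{u} p chevE8 12) (hpF : ¬ p ∣ Fintype.card F)
    (hq2 : ¬ p ∣ Fintype.card F ^ 2 - 1) (e : S ≃* ↥(chevE8.group F)) : InPairs p S := by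
  have := Fact.mk hp
  have hn2 : ¬ orderOf ((Fintype.card F : ℕ) : ZMod p) ∣ 2 := fun h =>
    hq2 ((dvd_iff Fintype.card_pos rfl 2).2 h)
  have hm := mod_ne (p := p) (by omega) Fintype.card_pos hq2
  by_cases h1 : (([2, 8, 12, 14, 18, 20, 24, 30] : List ℕ).filter
      (fun d => orderOf ((Fintype.card F : ℕ) : ZMod p) ∣ d)).length ≤ 1
  · have hp7 : p ≠ 7 := by
      intro hp7
      have h2 : orderOf ((Fintype.card F : ℕ) : ZMod p) ∣ 6 :=
        (order_dvd hp hpF).trans (by norm_num [hp7])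
      have h3 : ∀ n ≤ 6, n ∣ 6 →
          ¬ (([2, 8, 12, 14, 18, 20, 24, 30] : List ℕ).filter (fun d => n ∣ d)).length ≤ 1 := by
        decide
      exact h3 _ (Nat.le_of_dvd (by norm_num) h2) h2 h1
    exact inPairs_cyc hp B hna (chevE8, [2, 8, 12, 14, 18, 20, 24, 30]) (by simp) hpF
      (not_dvd_of hp h5 (by omega) hp7 (by norm_num)) h1 e
  · have h0 := not_le.1 h1
    have h2 := big_e8 _ (le_of_filter (N := 30) (by decide) h0) h0
    have hab : AbP p S := (H790.ExcAb.E8 rfl hpF h7 (fun h => ⟨h ▸ hm.1, by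
      have := hm.2; rw [h] at this; exact this⟩)).congr e
    rcases h2 with h | h | h | h | h | h | h | h | h
    · exact absurd (h ▸ one_dvd 2) hn2
    · exact absurd (h ▸ dvd_rfl) hn2
    · exact inPairs_of_edat hp B hna hlt hab
        ((edat_e8 rfl hp h5 (Or.inr (Or.inl ⟨h, by omega⟩))).congr e)
    · exact h4 hna hlt h e
    · exact inPairs_of_edat hp B hna hlt hab ((edat_e8 rfl hp h5 (Or.inr (Or.inr h))).congr e)
    · exact h6 hna hlt h e
    · exact h8 hna hlt h e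
    · exact h10 hna hlt h e
    · exact h12 hna hlt h e

end Untwisted

/-- **What is left of the untwisted exceptional groups.** -/
structure Left (p : ℕ) : Prop where
  f4_4 : RowE.{u} p chevF4 4
  f4_6 : RowE.{u} p chevF4 6
  e6_4 : RowE.{u} p chevE6 4
  e6_6 : RowE.{u} p chevE6 6
  e7_6 : RowE.{u} p chevE7 6
  e8_4 : 7 ≤ p → RowE.{u} p chevE8 4
  e8_6 : 7 ≤ p → RowE.{u} p chevE8 6
  e8_8 : RowE.{u} p chevE8 8
  e8_10 : RowE.{u} p chevE8 10
  e8_12 : RowE.{u} p chevE8 12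
  tw6 : ∀ {S : Type u} [Group S] [Finite S] [IsSimpleGroup S] {K : Type} [Field K] [Fintype K]
    {q : ℕ}, ¬ IsMulCommutative S → SBelow.{u} p (Nat.card S) → IsPrimePow q →
    Fintype.card K = q ^ 2 → ¬ p ∣ q → ¬ p ∣ q ^ 2 - 1 → (S ≃* ↥(twistedE6 K q)) → InPairs p S
  td4 : ∀ {S : Type u} [Group S] [Finite S] [IsSimpleGroup S] {K : Type} [Field K] [Fintype K]
    {q : ℕ}, ¬ IsMulCommutative S → SBelow.{u} p (Nat.card S) → IsPrimePow q →
    Fintype.card K = q ^ 3 → ¬ p ∣ q → (S ≃* ↥(twistedD4 K q)) → InPairs p S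

theorem excPairs_of (hp : p.Prime) (h5 : 5 ≤ p) (B : SBox.{u} p) (L : Left.{u} p) : ExcPairs.{u} p where
  g2 hna hlt _ hpF e := g2 hp h5 B hna hlt hpF e
  f4 hna hlt hpF e := f4 hp h5 B hna hlt L.f4_4 L.f4_6 hpF e
  e6 hna hlt hpF hq e := e6 hp h5 B hna hlt L.e6_4 L.e6_6 hpF hq e
  e7 hna hlt hpF hq e := e7 hp h5 B hna hlt L.e7_6 hpF hq e
  e8 hna hlt h7 hpF hq e := e8 hp h5 B hna hlt h7 (L.e8_4 h7) (L.e8_6 h7) L.e8_8 L.e8_10 L.e8_12 hpF hq e
  tw6 hna hlt hq hK hpq hq2 e := L.tw6 hna hlt hq hK hpq hq2 e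
  td4 hna hlt hq hK hpq e := L.td4 hna hlt hq hK hpq e

/-- **The exceptional groups from what is left.** -/
theorem srowFam_exc_of (hp : p.Prime) (h5 : 5 ≤ p) (B : SBox.{u} p) (L : Left.{u} p) :
    SRowFam.{u} p (fun S _ => IsExceptionalLieType S) :=
  srowFam_exc hp h5 B (excPairs_of hp h5 B L)

end Cfsg.Agent.H347.S2274.Glue
end

private theorem dce_2995df40e355 : _root_.True := by
  try have : _root_.True := by simp only [_root_.Cfsg.Agent.KFacts.TwF4.Inst.full.congr_simp]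
  exact _root_.True.intro
end
end
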